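import Cfsg.Agent.Lib.Helper9.TCData.Fi23C0.Main

set_option autoImplicit false
set_option maxRecDepth 1000000

namespace Cfsg.Agent.Helper9.TCData.Fi23C0
open Cfsg.Agent.Helper9.TC2

theorem e0_8 : allRange 16289 2005 (fun u => chkE tab 0 u) = true := by decide +kernel

theorem e0_9 : allRange 18294 1959 (fun u => chkE tab 0 u) = true := by decide +kernel

theorem e0_10 : allRange 20253 1996 (fun u => chkE tab 0 u) = true := by decide +kernel

theorem e0_11 : allRange 22249 2326 (fun u => chkE tab 0 u) = true := by decide +kernel

theorem e0_12 : allRange 24575 2042 (fun u => chkE tab 0 u) = true := by decide +kernel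

theorem e0_13 : allRange 26617 1964 (fun u => chkE tab 0 u) = true := by decide +kernel

theorem e0_14 : allRange 28581 1991 (fun u => chkE tab 0 u) = true := by decide +kernel

theorem e0_15 : allRange 30572 3849 (fun u => chkE tab 0 u) = true := by decide +kernel


end Cfsg.Agent.Helper9.TCData.Fi23C0
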