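import Cfsg.Agent.Lib.Helper9.TCData.Fi23C0.Main

set_option autoImplicit false
set_option maxRecDepth 1000000

namespace Cfsg.Agent.Helper9.TCData.Fi23C0
open Cfsg.Agent.Helper9.TC2

theorem e3_2 : allRange 4289 2194 (fun u => chkE tab 3 u) = true := by decide +kernel

theorem e3_3 : allRange 6483 2221 (fun u => chkE tab 3 u) = true := by decide +kernel

theorem e3_4 : allRange 8704 2232 (fun u => chkE tab 3 u) = true := by decide +kernel

theorem e3_5 : allRange 10936 2263 (fun u => chkE tab 3 u) = true := by decide +kernel

theorem e3_6 : allRange 13199 2293 (fun u => chkE tab 3 u) = true := by decide +kernel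

theorem e3_7 : allRange 15492 2300 (fun u => chkE tab 3 u) = true := by decide +kernel

theorem e3_8 : allRange 17792 2253 (fun u => chkE tab 3 u) = true := by decide +kernel

theorem e3_9 : allRange 20045 2370 (fun u => chkE tab 3 u) = true := by decide +kernel


end Cfsg.Agent.Helper9.TCData.Fi23C0
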