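import Cfsg.Agent.Lib.Helper9.TCData.Fi23C0.Main

set_option autoImplicit false
set_option maxRecDepth 1000000

namespace Cfsg.Agent.Helper9.TCData.Fi23C0
open Cfsg.Agent.Helper9.TC2

theorem m2_320 : allRange 19840 62 (fun u => chkFix tab mwordsA u) = true := by decide +kernel

theorem m2_321 : allRange 19902 62 (fun u => chkFix tab mwordsA u) = true := by decide +kernel

theorem m2_322 : allRange 19964 62 (fun u => chkFix tab mwordsA u) = true := by decide +kernel

theorem m2_323 : allRange 20026 62 (fun u => chkFix tab mwordsA u) = true := by decide +kernel

theorem m2_324 : allRange 20088 62 (fun u => chkFix tab mwordsA u) = true := by decide +kernel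

theorem m2_325 : allRange 20150 62 (fun u => chkFix tab mwordsA u) = true := by decide +kernel

theorem m2_326 : allRange 20212 62 (fun u => chkFix tab mwordsA u) = true := by decide +kernel

theorem m2_327 : allRange 20274 62 (fun u => chkFix tab mwordsA u) = true := by decide +kernel


end Cfsg.Agent.Helper9.TCData.Fi23C0
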