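import Cfsg.Agent.Lib.Helper9.TCData.Fi23C0.Main

set_option autoImplicit false
set_option maxRecDepth 1000000

namespace Cfsg.Agent.Helper9.TCData.Fi23C0
open Cfsg.Agent.Helper9.TC2

theorem m2_328 : allRange 20336 62 (fun u => chkFix tab mwordsA u) = true := by decide +kernel

theorem m2_329 : allRange 20398 62 (fun u => chkFix tab mwordsA u) = true := by decide +kernel

theorem m2_330 : allRange 20460 62 (fun u => chkFix tab mwordsA u) = true := by decide +kernel

theorem m2_331 : allRange 20522 62 (fun u => chkFix tab mwordsA u) = true := by decide +kernel

theorem m2_332 : allRange 20584 62 (fun u => chkFix tab mwordsA u) = true := by decide +kernel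

theorem m2_333 : allRange 20646 62 (fun u => chkFix tab mwordsA u) = true := by decide +kernel

theorem m2_334 : allRange 20708 62 (fun u => chkFix tab mwordsA u) = true := by decide +kernel

theorem m2_335 : allRange 20770 62 (fun u => chkFix tab mwordsA u) = true := by decide +kernel


end Cfsg.Agent.Helper9.TCData.Fi23C0
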