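import Cfsg.Agent.Lib.Helper9.TCData.Fi23C0.Main

set_option autoImplicit false
set_option maxRecDepth 1000000

namespace Cfsg.Agent.Helper9.TCData.Fi23C0
open Cfsg.Agent.Helper9.TC2

theorem m2_336 : allRange 20832 62 (fun u => chkFix tab mwordsA u) = true := by decide +kernel

theorem m2_337 : allRange 20894 62 (fun u => chkFix tab mwordsA u) = true := by decide +kernel

theorem m2_338 : allRange 20956 62 (fun u => chkFix tab mwordsA u) = true := by decide +kernel

theorem m2_339 : allRange 21018 62 (fun u => chkFix tab mwordsA u) = true := by decide +kernel

theorem m2_340 : allRange 21080 62 (fun u => chkFix tab mwordsA u) = true := by decide +kernel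

theorem m2_341 : allRange 21142 62 (fun u => chkFix tab mwordsA u) = true := by decide +kernel

theorem m2_342 : allRange 21204 62 (fun u => chkFix tab mwordsA u) = true := by decide +kernel

theorem m2_343 : allRange 21266 62 (fun u => chkFix tab mwordsA u) = true := by decide +kernel


end Cfsg.Agent.Helper9.TCData.Fi23C0
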