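import Cfsg.Agent.Lib.Helper9.TCData.Fi23C0.Main

set_option autoImplicit false
set_option maxRecDepth 1000000

namespace Cfsg.Agent.Helper9.TCData.Fi23C0
open Cfsg.Agent.Helper9.TC2

theorem m2_352 : allRange 21824 62 (fun u => chkFix tab mwordsA u) = true := by decide +kernel

theorem m2_353 : allRange 21886 62 (fun u => chkFix tab mwordsA u) = true := by decide +kernel

theorem m2_354 : allRange 21948 62 (fun u => chkFix tab mwordsA u) = true := by decide +kernel

theorem m2_355 : allRange 22010 62 (fun u => chkFix tab mwordsA u) = true := by decide +kernel

theorem m2_356 : allRange 22072 62 (fun u => chkFix tab mwordsA u) = true := by decide +kernel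

theorem m2_357 : allRange 22134 62 (fun u => chkFix tab mwordsA u) = true := by decide +kernel

theorem m2_358 : allRange 22196 62 (fun u => chkFix tab mwordsA u) = true := by decide +kernel

theorem m2_359 : allRange 22258 62 (fun u => chkFix tab mwordsA u) = true := by decide +kernel


end Cfsg.Agent.Helper9.TCData.Fi23C0
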