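import Cfsg.Agent.Lib.Helper9.TCData.Fi23C0.Main

set_option autoImplicit false
set_option maxRecDepth 1000000

namespace Cfsg.Agent.Helper9.TCData.Fi23C0
open Cfsg.Agent.Helper9.TC2

theorem m2_392 : allRange 24304 62 (fun u => chkFix tab mwordsA u) = true := by decide +kernel

theorem m2_393 : allRange 24366 62 (fun u => chkFix tab mwordsA u) = true := by decide +kernel

theorem m2_394 : allRange 24428 62 (fun u => chkFix tab mwordsA u) = true := by decide +kernel

theorem m2_395 : allRange 24490 62 (fun u => chkFix tab mwordsA u) = true := by decide +kernel

theorem m2_396 : allRange 24552 62 (fun u => chkFix tab mwordsA u) = true := by decide +kernel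

theorem m2_397 : allRange 24614 62 (fun u => chkFix tab mwordsA u) = true := by decide +kernel

theorem m2_398 : allRange 24676 62 (fun u => chkFix tab mwordsA u) = true := by decide +kernel

theorem m2_399 : allRange 24738 62 (fun u => chkFix tab mwordsA u) = true := by decide +kernel


end Cfsg.Agent.Helper9.TCData.Fi23C0
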