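import Cfsg.Agent.Lib.Helper9.TCData.Fi23C0.Main

set_option autoImplicit false
set_option maxRecDepth 1000000

namespace Cfsg.Agent.Helper9.TCData.Fi23C0
open Cfsg.Agent.Helper9.TC2

theorem m2_400 : allRange 24800 62 (fun u => chkFix tab mwordsA u) = true := by decide +kernel

theorem m2_401 : allRange 24862 62 (fun u => chkFix tab mwordsA u) = true := by decide +kernel

theorem m2_402 : allRange 24924 62 (fun u => chkFix tab mwordsA u) = true := by decide +kernel

theorem m2_403 : allRange 24986 62 (fun u => chkFix tab mwordsA u) = true := by decide +kernel

theorem m2_404 : allRange 25048 62 (fun u => chkFix tab mwordsA u) = true := by decide +kernel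

theorem m2_405 : allRange 25110 62 (fun u => chkFix tab mwordsA u) = true := by decide +kernel

theorem m2_406 : allRange 25172 62 (fun u => chkFix tab mwordsA u) = true := by decide +kernel

theorem m2_407 : allRange 25234 62 (fun u => chkFix tab mwordsA u) = true := by decide +kernel


end Cfsg.Agent.Helper9.TCData.Fi23C0
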