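import Cfsg.Agent.Lib.Helper9.TCData.Fi23C0.Main

set_option autoImplicit false
set_option maxRecDepth 1000000

namespace Cfsg.Agent.Helper9.TCData.Fi23C0
open Cfsg.Agent.Helper9.TC2

theorem m2_416 : allRange 25792 62 (fun u => chkFix tab mwordsA u) = true := by decide +kernel

theorem m2_417 : allRange 25854 62 (fun u => chkFix tab mwordsA u) = true := by decide +kernel

theorem m2_418 : allRange 25916 62 (fun u => chkFix tab mwordsA u) = true := by decide +kernel

theorem m2_419 : allRange 25978 62 (fun u => chkFix tab mwordsA u) = true := by decide +kernel

theorem m2_420 : allRange 26040 62 (fun u => chkFix tab mwordsA u) = true := by decide +kernel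

theorem m2_421 : allRange 26102 62 (fun u => chkFix tab mwordsA u) = true := by decide +kernel

theorem m2_422 : allRange 26164 62 (fun u => chkFix tab mwordsA u) = true := by decide +kernel

theorem m2_423 : allRange 26226 62 (fun u => chkFix tab mwordsA u) = true := by decide +kernel


end Cfsg.Agent.Helper9.TCData.Fi23C0
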