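import Cfsg.Agent.Lib.Helper9.TCData.Fi23C0.Main

set_option autoImplicit false
set_option maxRecDepth 1000000

namespace Cfsg.Agent.Helper9.TCData.Fi23C0
open Cfsg.Agent.Helper9.TC2

theorem e3_18 : allRange 48529 2519 (fun u => chkE tab 3 u) = true := by decide +kernel

theorem e3_19 : allRange 51048 2830 (fun u => chkE tab 3 u) = true := by decide +kernel

theorem e3_20 : allRange 53878 3172 (fun u => chkE tab 3 u) = true := by decide +kernel

theorem e3_21 : allRange 57050 2480 (fun u => chkE tab 3 u) = true := by decide +kernel

theorem e3_22 : allRange 59530 2813 (fun u => chkE tab 3 u) = true := by decide +kernel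

theorem e3_23 : allRange 62343 2138 (fun u => chkE tab 3 u) = true := by decide +kernel

theorem e4_0 : allRange 0 2315 (fun u => chkE tab 4 u) = true := by decide +kernel

theorem e4_1 : allRange 2315 2128 (fun u => chkE tab 4 u) = true := by decide +kernel


end Cfsg.Agent.Helper9.TCData.Fi23C0
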