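import Cfsg.Agent.Lib.Helper9.TCData.Fi23C0.Main

set_option autoImplicit false
set_option maxRecDepth 1000000

namespace Cfsg.Agent.Helper9.TCData.Fi23C0
open Cfsg.Agent.Helper9.TC2

theorem m2_464 : allRange 28768 62 (fun u => chkFix tab mwordsA u) = true := by decide +kernel

theorem m2_465 : allRange 28830 62 (fun u => chkFix tab mwordsA u) = true := by decide +kernel

theorem m2_466 : allRange 28892 62 (fun u => chkFix tab mwordsA u) = true := by decide +kernel

theorem m2_467 : allRange 28954 62 (fun u => chkFix tab mwordsA u) = true := by decide +kernel

theorem m2_468 : allRange 29016 62 (fun u => chkFix tab mwordsA u) = true := by decide +kernel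

theorem m2_469 : allRange 29078 62 (fun u => chkFix tab mwordsA u) = true := by decide +kernel

theorem m2_470 : allRange 29140 62 (fun u => chkFix tab mwordsA u) = true := by decide +kernel

theorem m2_471 : allRange 29202 62 (fun u => chkFix tab mwordsA u) = true := by decide +kernel


end Cfsg.Agent.Helper9.TCData.Fi23C0
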