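import Cfsg.Agent.Lib.Helper9.TCData.Fi23C0.Main

set_option autoImplicit false
set_option maxRecDepth 1000000

namespace Cfsg.Agent.Helper9.TCData.Fi23C0
open Cfsg.Agent.Helper9.TC2

theorem m2_472 : allRange 29264 62 (fun u => chkFix tab mwordsA u) = true := by decide +kernel

theorem m2_473 : allRange 29326 62 (fun u => chkFix tab mwordsA u) = true := by decide +kernel

theorem m2_474 : allRange 29388 62 (fun u => chkFix tab mwordsA u) = true := by decide +kernel

theorem m2_475 : allRange 29450 62 (fun u => chkFix tab mwordsA u) = true := by decide +kernel

theorem m2_476 : allRange 29512 62 (fun u => chkFix tab mwordsA u) = true := by decide +kernel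

theorem m2_477 : allRange 29574 62 (fun u => chkFix tab mwordsA u) = true := by decide +kernel

theorem m2_478 : allRange 29636 62 (fun u => chkFix tab mwordsA u) = true := by decide +kernel

theorem m2_479 : allRange 29698 62 (fun u => chkFix tab mwordsA u) = true := by decide +kernel


end Cfsg.Agent.Helper9.TCData.Fi23C0
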