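import Cfsg.Agent.Lib.Helper9.TCData.Fi23C0.Main

set_option autoImplicit false
set_option maxRecDepth 1000000

namespace Cfsg.Agent.Helper9.TCData.Fi23C0
open Cfsg.Agent.Helper9.TC2

theorem m2_480 : allRange 29760 62 (fun u => chkFix tab mwordsA u) = true := by decide +kernel

theorem m2_481 : allRange 29822 62 (fun u => chkFix tab mwordsA u) = true := by decide +kernel

theorem m2_482 : allRange 29884 62 (fun u => chkFix tab mwordsA u) = true := by decide +kernel

theorem m2_483 : allRange 29946 62 (fun u => chkFix tab mwordsA u) = true := by decide +kernel

theorem m2_484 : allRange 30008 62 (fun u => chkFix tab mwordsA u) = true := by decide +kernel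

theorem m2_485 : allRange 30070 62 (fun u => chkFix tab mwordsA u) = true := by decide +kernel

theorem m2_486 : allRange 30132 62 (fun u => chkFix tab mwordsA u) = true := by decide +kernel

theorem m2_487 : allRange 30194 62 (fun u => chkFix tab mwordsA u) = true := by decide +kernel


end Cfsg.Agent.Helper9.TCData.Fi23C0
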