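import Cfsg.Agent.Lib.Helper9.TCData.Fi23C0.Main

set_option autoImplicit false
set_option maxRecDepth 1000000

namespace Cfsg.Agent.Helper9.TCData.Fi23C0
open Cfsg.Agent.Helper9.TC2

theorem m2_504 : allRange 31248 62 (fun u => chkFix tab mwordsA u) = true := by decide +kernel

theorem m2_505 : allRange 31310 62 (fun u => chkFix tab mwordsA u) = true := by decide +kernel

theorem m2_506 : allRange 31372 62 (fun u => chkFix tab mwordsA u) = true := by decide +kernel

theorem m2_507 : allRange 31434 62 (fun u => chkFix tab mwordsA u) = true := by decide +kernel

theorem m2_508 : allRange 31496 62 (fun u => chkFix tab mwordsA u) = true := by decide +kernel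

theorem m2_509 : allRange 31558 62 (fun u => chkFix tab mwordsA u) = true := by decide +kernel

theorem m2_510 : allRange 31620 51 (fun u => chkFix tab mwordsA u) = true := by decide +kernel


end Cfsg.Agent.Helper9.TCData.Fi23C0
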