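import Cfsg.Agent.Lib.Helper9.TCData.Fi23C0.Main

set_option autoImplicit false
set_option maxRecDepth 1000000

namespace Cfsg.Agent.Helper9.TCData.Fi23C0
open Cfsg.Agent.Helper9.TC2

theorem e4_2 : allRange 4443 2179 (fun u => chkE tab 4 u) = true := by decide +kernel

theorem e4_3 : allRange 6622 2146 (fun u => chkE tab 4 u) = true := by decide +kernel

theorem e4_4 : allRange 8768 2210 (fun u => chkE tab 4 u) = true := by decide +kernel

theorem e4_5 : allRange 10978 2210 (fun u => chkE tab 4 u) = true := by decide +kernel

theorem e4_6 : allRange 13188 2272 (fun u => chkE tab 4 u) = true := by decide +kernel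

theorem e4_7 : allRange 15460 2214 (fun u => chkE tab 4 u) = true := by decide +kernel

theorem e4_8 : allRange 17674 2309 (fun u => chkE tab 4 u) = true := by decide +kernel

theorem e4_9 : allRange 19983 2338 (fun u => chkE tab 4 u) = true := by decide +kernel


end Cfsg.Agent.Helper9.TCData.Fi23C0
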