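import Cfsg.Agent.Lib.Helper9.TCData.Fi23C0.Main

set_option autoImplicit false
set_option maxRecDepth 1000000

namespace Cfsg.Agent.Helper9.TCData.Fi23C0
open Cfsg.Agent.Helper9.TC2

theorem o1_32 : allRange 10944 342 (fun u => chkO1 tab orb u) = true := by decide +kernel

theorem o1_33 : allRange 11286 342 (fun u => chkO1 tab orb u) = true := by decide +kernel

theorem o1_34 : allRange 11628 342 (fun u => chkO1 tab orb u) = true := by decide +kernel

theorem o1_35 : allRange 11970 342 (fun u => chkO1 tab orb u) = true := by decide +kernel

theorem o1_36 : allRange 12312 342 (fun u => chkO1 tab orb u) = true := by decide +kernel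

theorem o1_37 : allRange 12654 342 (fun u => chkO1 tab orb u) = true := by decide +kernel

theorem o1_38 : allRange 12996 342 (fun u => chkO1 tab orb u) = true := by decide +kernel

theorem o1_39 : allRange 13338 342 (fun u => chkO1 tab orb u) = true := by decide +kernel


end Cfsg.Agent.Helper9.TCData.Fi23C0
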