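import Cfsg.Agent.Lib.Helper9.TCData.Fi23C0.Main

set_option autoImplicit false
set_option maxRecDepth 1000000

namespace Cfsg.Agent.Helper9.TCData.Fi23C0
open Cfsg.Agent.Helper9.TC2

theorem o1_40 : allRange 13680 342 (fun u => chkO1 tab orb u) = true := by decide +kernel

theorem o1_41 : allRange 14022 342 (fun u => chkO1 tab orb u) = true := by decide +kernel

theorem o1_42 : allRange 14364 342 (fun u => chkO1 tab orb u) = true := by decide +kernel

theorem o1_43 : allRange 14706 342 (fun u => chkO1 tab orb u) = true := by decide +kernel

theorem o1_44 : allRange 15048 342 (fun u => chkO1 tab orb u) = true := by decide +kernel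

theorem o1_45 : allRange 15390 342 (fun u => chkO1 tab orb u) = true := by decide +kernel

theorem o1_46 : allRange 15732 342 (fun u => chkO1 tab orb u) = true := by decide +kernel

theorem o1_47 : allRange 16074 342 (fun u => chkO1 tab orb u) = true := by decide +kernel


end Cfsg.Agent.Helper9.TCData.Fi23C0
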