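import Cfsg.Agent.Lib.Helper9.TCData.Fi23C0.Main

set_option autoImplicit false
set_option maxRecDepth 1000000

namespace Cfsg.Agent.Helper9.TCData.Fi23C0
open Cfsg.Agent.Helper9.TC2

theorem o1_56 : allRange 19152 342 (fun u => chkO1 tab orb u) = true := by decide +kernel

theorem o1_57 : allRange 19494 342 (fun u => chkO1 tab orb u) = true := by decide +kernel

theorem o1_58 : allRange 19836 342 (fun u => chkO1 tab orb u) = true := by decide +kernel

theorem o1_59 : allRange 20178 342 (fun u => chkO1 tab orb u) = true := by decide +kernel

theorem o1_60 : allRange 20520 342 (fun u => chkO1 tab orb u) = true := by decide +kernel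

theorem o1_61 : allRange 20862 342 (fun u => chkO1 tab orb u) = true := by decide +kernel

theorem o1_62 : allRange 21204 342 (fun u => chkO1 tab orb u) = true := by decide +kernel

theorem o1_63 : allRange 21546 342 (fun u => chkO1 tab orb u) = true := by decide +kernel


end Cfsg.Agent.Helper9.TCData.Fi23C0
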