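import Cfsg.Agent.Lib.Helper9.TCData.Fi23C0.Main

set_option autoImplicit false
set_option maxRecDepth 1000000

namespace Cfsg.Agent.Helper9.TCData.Fi23C0
open Cfsg.Agent.Helper9.TC2

theorem e4_10 : allRange 22321 2291 (fun u => chkE tab 4 u) = true := by decide +kernel

theorem e4_11 : allRange 24612 2281 (fun u => chkE tab 4 u) = true := by decide +kernel

theorem e4_12 : allRange 26893 2310 (fun u => chkE tab 4 u) = true := by decide +kernel

theorem e4_13 : allRange 29203 2395 (fun u => chkE tab 4 u) = true := by decide +kernel

theorem e4_14 : allRange 31598 4727 (fun u => chkE tab 4 u) = true := by decide +kernel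

theorem e4_15 : allRange 36325 5442 (fun u => chkE tab 4 u) = true := by decide +kernel

theorem e4_16 : allRange 41767 3569 (fun u => chkE tab 4 u) = true := by decide +kernel

theorem e4_17 : allRange 45336 2870 (fun u => chkE tab 4 u) = true := by decide +kernel


end Cfsg.Agent.Helper9.TCData.Fi23C0
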