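import Cfsg.Agent.Lib.Helper9.TCData.Fi23C0.Main

set_option autoImplicit false
set_option maxRecDepth 1000000

namespace Cfsg.Agent.Helper9.TCData.Fi23C0
open Cfsg.Agent.Helper9.TC2

theorem sl_24 : allRange 14136 589 (fun u => chkSlp tab slp u) = true := by decide +kernel

theorem sl_25 : allRange 14725 589 (fun u => chkSlp tab slp u) = true := by decide +kernel

theorem sl_26 : allRange 15314 589 (fun u => chkSlp tab slp u) = true := by decide +kernel

theorem sl_27 : allRange 15903 589 (fun u => chkSlp tab slp u) = true := by decide +kernel

theorem sl_28 : allRange 16492 589 (fun u => chkSlp tab slp u) = true := by decide +kernel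

theorem sl_29 : allRange 17081 589 (fun u => chkSlp tab slp u) = true := by decide +kernel

theorem sl_30 : allRange 17670 589 (fun u => chkSlp tab slp u) = true := by decide +kernel

theorem sl_31 : allRange 18259 589 (fun u => chkSlp tab slp u) = true := by decide +kernel


end Cfsg.Agent.Helper9.TCData.Fi23C0
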