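import Cfsg.Agent.Lib.Helper9.TCData.Fi23C0.Main

set_option autoImplicit false
set_option maxRecDepth 1000000

namespace Cfsg.Agent.Helper9.TCData.Fi23C0
open Cfsg.Agent.Helper9.TC2

theorem sl_32 : allRange 18848 589 (fun u => chkSlp tab slp u) = true := by decide +kernel

theorem sl_33 : allRange 19437 589 (fun u => chkSlp tab slp u) = true := by decide +kernel

theorem sl_34 : allRange 20026 589 (fun u => chkSlp tab slp u) = true := by decide +kernel

theorem sl_35 : allRange 20615 589 (fun u => chkSlp tab slp u) = true := by decide +kernel

theorem sl_36 : allRange 21204 589 (fun u => chkSlp tab slp u) = true := by decide +kernel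

theorem sl_37 : allRange 21793 589 (fun u => chkSlp tab slp u) = true := by decide +kernel

theorem sl_38 : allRange 22382 589 (fun u => chkSlp tab slp u) = true := by decide +kernel

theorem sl_39 : allRange 22971 589 (fun u => chkSlp tab slp u) = true := by decide +kernel


end Cfsg.Agent.Helper9.TCData.Fi23C0
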