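import Cfsg.Agent.Lib.Helper9.TCData.Fi23C0.Main

set_option autoImplicit false
set_option maxRecDepth 1000000

namespace Cfsg.Agent.Helper9.TCData.Fi23C0
open Cfsg.Agent.Helper9.TC2

theorem sl_40 : allRange 23560 589 (fun u => chkSlp tab slp u) = true := by decide +kernel

theorem sl_41 : allRange 24149 589 (fun u => chkSlp tab slp u) = true := by decide +kernel

theorem sl_42 : allRange 24738 589 (fun u => chkSlp tab slp u) = true := by decide +kernel

theorem sl_43 : allRange 25327 589 (fun u => chkSlp tab slp u) = true := by decide +kernel

theorem sl_44 : allRange 25916 589 (fun u => chkSlp tab slp u) = true := by decide +kernel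

theorem sl_45 : allRange 26505 589 (fun u => chkSlp tab slp u) = true := by decide +kernel

theorem sl_46 : allRange 27094 589 (fun u => chkSlp tab slp u) = true := by decide +kernel

theorem sl_47 : allRange 27683 589 (fun u => chkSlp tab slp u) = true := by decide +kernel


end Cfsg.Agent.Helper9.TCData.Fi23C0
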