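import Cfsg.Agent.Lib.Helper9.TCData.Fi23C0.Main

set_option autoImplicit false
set_option maxRecDepth 1000000

namespace Cfsg.Agent.Helper9.TCData.Fi23C0
open Cfsg.Agent.Helper9.TC2

theorem sl_48 : allRange 28272 589 (fun u => chkSlp tab slp u) = true := by decide +kernel

theorem sl_49 : allRange 28861 589 (fun u => chkSlp tab slp u) = true := by decide +kernel

theorem sl_50 : allRange 29450 589 (fun u => chkSlp tab slp u) = true := by decide +kernel

theorem sl_51 : allRange 30039 589 (fun u => chkSlp tab slp u) = true := by decide +kernel

theorem sl_52 : allRange 30628 589 (fun u => chkSlp tab slp u) = true := by decide +kernel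

theorem sl_53 : allRange 31217 454 (fun u => chkSlp tab slp u) = true := by decide +kernel


end Cfsg.Agent.Helper9.TCData.Fi23C0
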