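import Cfsg.Agent.Lib.Helper9.TCData.Fi23C0.Main

set_option autoImplicit false
set_option maxRecDepth 1000000

namespace Cfsg.Agent.Helper9.TCData.Fi23C0
open Cfsg.Agent.Helper9.TC2

theorem tr1x_8 : allRange 8000 1000 (fun u => chkTree tab (lidx 1) (lpar 1) (lgi 1) 1 [0, 1, 2, 3, 4, 5, 6, 8, 9] u) = true := by decide +kernel

theorem tr1x_9 : allRange 9000 1000 (fun u => chkTree tab (lidx 1) (lpar 1) (lgi 1) 1 [0, 1, 2, 3, 4, 5, 6, 8, 9] u) = true := by decide +kernel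

theorem tr1x_10 : allRange 10000 1000 (fun u => chkTree tab (lidx 1) (lpar 1) (lgi 1) 1 [0, 1, 2, 3, 4, 5, 6, 8, 9] u) = true := by decide +kernel

theorem tr1x_11 : allRange 11000 1000 (fun u => chkTree tab (lidx 1) (lpar 1) (lgi 1) 1 [0, 1, 2, 3, 4, 5, 6, 8, 9] u) = true := by decide +kernel

theorem tr1x_12 : allRange 12000 1000 (fun u => chkTree tab (lidx 1) (lpar 1) (lgi 1) 1 [0, 1, 2, 3, 4, 5, 6, 8, 9] u) = true := by decide +kernel

theorem tr1x_13 : allRange 13000 1000 (fun u => chkTree tab (lidx 1) (lpar 1) (lgi 1) 1 [0, 1, 2, 3, 4, 5, 6, 8, 9] u) = true := by decide +kernel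

theorem tr1x_14 : allRange 14000 1000 (fun u => chkTree tab (lidx 1) (lpar 1) (lgi 1) 1 [0, 1, 2, 3, 4, 5, 6, 8, 9] u) = true := by decide +kernel

theorem tr1x_15 : allRange 15000 1000 (fun u => chkTree tab (lidx 1) (lpar 1) (lgi 1) 1 [0, 1, 2, 3, 4, 5, 6, 8, 9] u) = true := by decide +kernel


end Cfsg.Agent.Helper9.TCData.Fi23C0
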