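import Cfsg.Agent.Lib.Helper9.TCData.Fi23C0.Main

set_option autoImplicit false
set_option maxRecDepth 1000000

namespace Cfsg.Agent.Helper9.TCData.Fi23C0
open Cfsg.Agent.Helper9.TC2

theorem e5_2 : allRange 4602 2262 (fun u => chkE tab 5 u) = true := by decide +kernel

theorem e5_3 : allRange 6864 2135 (fun u => chkE tab 5 u) = true := by decide +kernel

theorem e5_4 : allRange 8999 2155 (fun u => chkE tab 5 u) = true := by decide +kernel

theorem e5_5 : allRange 11154 2148 (fun u => chkE tab 5 u) = true := by decide +kernel

theorem e5_6 : allRange 13302 2172 (fun u => chkE tab 5 u) = true := by decide +kernel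

theorem e5_7 : allRange 15474 2143 (fun u => chkE tab 5 u) = true := by decide +kernel

theorem e5_8 : allRange 17617 2122 (fun u => chkE tab 5 u) = true := by decide +kernel

theorem e5_9 : allRange 19739 2193 (fun u => chkE tab 5 u) = true := by decide +kernel


end Cfsg.Agent.Helper9.TCData.Fi23C0
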