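import Cfsg.Agent.Lib.Helper9.TCData.Fi23C0.Main

set_option autoImplicit false
set_option maxRecDepth 1000000

namespace Cfsg.Agent.Helper9.TCData.Fi23C0
open Cfsg.Agent.Helper9.TC2

theorem tr5x_24 : allRange 24000 1000 (fun u => chkTree tab (lidx 5) (lpar 5) (lgi 5) 5 [0, 1, 2, 8, 9] u) = true := by decide +kernel

theorem tr5x_25 : allRange 25000 1000 (fun u => chkTree tab (lidx 5) (lpar 5) (lgi 5) 5 [0, 1, 2, 8, 9] u) = true := by decide +kernel

theorem tr5x_26 : allRange 26000 1000 (fun u => chkTree tab (lidx 5) (lpar 5) (lgi 5) 5 [0, 1, 2, 8, 9] u) = true := by decide +kernel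

theorem tr5x_27 : allRange 27000 1000 (fun u => chkTree tab (lidx 5) (lpar 5) (lgi 5) 5 [0, 1, 2, 8, 9] u) = true := by decide +kernel

theorem tr5x_28 : allRange 28000 1000 (fun u => chkTree tab (lidx 5) (lpar 5) (lgi 5) 5 [0, 1, 2, 8, 9] u) = true := by decide +kernel

theorem tr5x_29 : allRange 29000 1000 (fun u => chkTree tab (lidx 5) (lpar 5) (lgi 5) 5 [0, 1, 2, 8, 9] u) = true := by decide +kernel

theorem tr5x_30 : allRange 30000 1000 (fun u => chkTree tab (lidx 5) (lpar 5) (lgi 5) 5 [0, 1, 2, 8, 9] u) = true := by decide +kernel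

theorem tr5x_31 : allRange 31000 671 (fun u => chkTree tab (lidx 5) (lpar 5) (lgi 5) 5 [0, 1, 2, 8, 9] u) = true := by decide +kernel


end Cfsg.Agent.Helper9.TCData.Fi23C0
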