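import Cfsg.Agent.Lib.Helper9.TCData.Fi23C0.Main

set_option autoImplicit false
set_option maxRecDepth 1000000

namespace Cfsg.Agent.Helper9.TCData.Fi23C0
open Cfsg.Agent.Helper9.TC2

theorem tr6x_16 : allRange 16000 1000 (fun u => chkTree tab (lidx 6) (lpar 6) (lgi 6) 6 [0, 1] u) = true := by decide +kernel

theorem tr6x_17 : allRange 17000 1000 (fun u => chkTree tab (lidx 6) (lpar 6) (lgi 6) 6 [0, 1] u) = true := by decide +kernel

theorem tr6x_18 : allRange 18000 1000 (fun u => chkTree tab (lidx 6) (lpar 6) (lgi 6) 6 [0, 1] u) = true := by decide +kernel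

theorem tr6x_19 : allRange 19000 1000 (fun u => chkTree tab (lidx 6) (lpar 6) (lgi 6) 6 [0, 1] u) = true := by decide +kernel

theorem tr6x_20 : allRange 20000 1000 (fun u => chkTree tab (lidx 6) (lpar 6) (lgi 6) 6 [0, 1] u) = true := by decide +kernel

theorem tr6x_21 : allRange 21000 1000 (fun u => chkTree tab (lidx 6) (lpar 6) (lgi 6) 6 [0, 1] u) = true := by decide +kernel

theorem tr6x_22 : allRange 22000 1000 (fun u => chkTree tab (lidx 6) (lpar 6) (lgi 6) 6 [0, 1] u) = true := by decide +kernel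

theorem tr6x_23 : allRange 23000 1000 (fun u => chkTree tab (lidx 6) (lpar 6) (lgi 6) 6 [0, 1] u) = true := by decide +kernel


end Cfsg.Agent.Helper9.TCData.Fi23C0
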