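import Cfsg.Agent.Lib.Helper9.TCData.Fi23C0.Main

set_option autoImplicit false
set_option maxRecDepth 1000000

namespace Cfsg.Agent.Helper9.TCData.Fi23C0
open Cfsg.Agent.Helper9.TC2

theorem x_32 : allRange 1952 61 (fun u => Nat.beq ((runT tab xw)^[17] u) u) = true := by decide +kernel

theorem x_33 : allRange 2013 61 (fun u => Nat.beq ((runT tab xw)^[17] u) u) = true := by decide +kernel

theorem x_34 : allRange 2074 61 (fun u => Nat.beq ((runT tab xw)^[17] u) u) = true := by decide +kernel

theorem x_35 : allRange 2135 61 (fun u => Nat.beq ((runT tab xw)^[17] u) u) = true := by decide +kernel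

theorem x_36 : allRange 2196 61 (fun u => Nat.beq ((runT tab xw)^[17] u) u) = true := by decide +kernel

theorem x_37 : allRange 2257 61 (fun u => Nat.beq ((runT tab xw)^[17] u) u) = true := by decide +kernel

theorem x_38 : allRange 2318 61 (fun u => Nat.beq ((runT tab xw)^[17] u) u) = true := by decide +kernel

theorem x_39 : allRange 2379 61 (fun u => Nat.beq ((runT tab xw)^[17] u) u) = true := by decide +kernel


end Cfsg.Agent.Helper9.TCData.Fi23C0
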