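import Cfsg.Agent.Lib.Helper9.TCData.Fi23C0.Main

set_option autoImplicit false
set_option maxRecDepth 1000000

namespace Cfsg.Agent.Helper9.TCData.Fi23C0
open Cfsg.Agent.Helper9.TC2

theorem e6_17 : allRange 43038 3696 (fun u => chkE tab 6 u) = true := by decide +kernel

theorem e6_18 : allRange 46734 2389 (fun u => chkE tab 6 u) = true := by decide +kernel

theorem e6_19 : allRange 49123 2462 (fun u => chkE tab 6 u) = true := by decide +kernel

theorem e6_20 : allRange 51585 2458 (fun u => chkE tab 6 u) = true := by decide +kernel

theorem e6_21 : allRange 54043 2518 (fun u => chkE tab 6 u) = true := by decide +kernel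

theorem e6_22 : allRange 56561 2473 (fun u => chkE tab 6 u) = true := by decide +kernel

theorem e6_23 : allRange 59034 2520 (fun u => chkE tab 6 u) = true := by decide +kernel

theorem e6_24 : allRange 61554 2754 (fun u => chkE tab 6 u) = true := by decide +kernel


end Cfsg.Agent.Helper9.TCData.Fi23C0
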