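import Cfsg.Agent.Lib.Helper9.TCData.Fi23C0.Main

set_option autoImplicit false
set_option maxRecDepth 1000000

namespace Cfsg.Agent.Helper9.TCData.Fi23C0
open Cfsg.Agent.Helper9.TC2

theorem e7_7 : allRange 14946 2202 (fun u => chkE tab 7 u) = true := by decide +kernel

theorem e7_8 : allRange 17148 2136 (fun u => chkE tab 7 u) = true := by decide +kernel

theorem e7_9 : allRange 19284 2164 (fun u => chkE tab 7 u) = true := by decide +kernel

theorem e7_10 : allRange 21448 2140 (fun u => chkE tab 7 u) = true := by decide +kernel

theorem e7_11 : allRange 23588 2189 (fun u => chkE tab 7 u) = true := by decide +kernel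

theorem e7_12 : allRange 25777 2083 (fun u => chkE tab 7 u) = true := by decide +kernel

theorem e7_13 : allRange 27860 2113 (fun u => chkE tab 7 u) = true := by decide +kernel

theorem e7_14 : allRange 29973 2336 (fun u => chkE tab 7 u) = true := by decide +kernel


end Cfsg.Agent.Helper9.TCData.Fi23C0
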