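import Cfsg.Agent.Lib.Helper9.TCData.Fi23C0.Main

set_option autoImplicit false
set_option maxRecDepth 1000000

namespace Cfsg.Agent.Helper9.TCData.Fi23C0
open Cfsg.Agent.Helper9.TC2

theorem e7_23 : allRange 58407 2509 (fun u => chkE tab 7 u) = true := by decide +kernel

theorem e7_24 : allRange 60916 2658 (fun u => chkE tab 7 u) = true := by decide +kernel

theorem e7_25 : allRange 63574 907 (fun u => chkE tab 7 u) = true := by decide +kernel

theorem e8_0 : allRange 0 2400 (fun u => chkE tab 8 u) = true := by decide +kernel

theorem e8_1 : allRange 2400 2728 (fun u => chkE tab 8 u) = true := by decide +kernel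

theorem e8_2 : allRange 5128 2849 (fun u => chkE tab 8 u) = true := by decide +kernel

theorem e8_3 : allRange 7977 2937 (fun u => chkE tab 8 u) = true := by decide +kernel

theorem e8_4 : allRange 10914 2652 (fun u => chkE tab 8 u) = true := by decide +kernel


end Cfsg.Agent.Helper9.TCData.Fi23C0
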