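import Cfsg.Agent.Lib.Helper9.TCData.Fi23C0.Main

set_option autoImplicit false
set_option maxRecDepth 1000000

namespace Cfsg.Agent.Helper9.TCData.Fi23C0
open Cfsg.Agent.Helper9.TC2

theorem e8_5 : allRange 13566 2950 (fun u => chkE tab 8 u) = true := by decide +kernel

theorem e8_6 : allRange 16516 2640 (fun u => chkE tab 8 u) = true := by decide +kernel

theorem e8_7 : allRange 19156 2978 (fun u => chkE tab 8 u) = true := by decide +kernel

theorem e8_8 : allRange 22134 2713 (fun u => chkE tab 8 u) = true := by decide +kernel

theorem e8_9 : allRange 24847 2633 (fun u => chkE tab 8 u) = true := by decide +kernel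

theorem e8_10 : allRange 27480 2801 (fun u => chkE tab 8 u) = true := by decide +kernel

theorem e8_11 : allRange 30281 3672 (fun u => chkE tab 8 u) = true := by decide +kernel

theorem e8_12 : allRange 33953 5031 (fun u => chkE tab 8 u) = true := by decide +kernel


end Cfsg.Agent.Helper9.TCData.Fi23C0
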