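import Cfsg.Agent.Lib.Helper9.TCData.Fi23C0.Main

set_option autoImplicit false
set_option maxRecDepth 1000000

namespace Cfsg.Agent.Helper9.TCData.Fi23C0
open Cfsg.Agent.Helper9.TC2

theorem e8_13 : allRange 38984 4210 (fun u => chkE tab 8 u) = true := by decide +kernel

theorem e8_14 : allRange 43194 4178 (fun u => chkE tab 8 u) = true := by decide +kernel

theorem e8_15 : allRange 47372 3350 (fun u => chkE tab 8 u) = true := by decide +kernel

theorem e8_16 : allRange 50722 3602 (fun u => chkE tab 8 u) = true := by decide +kernel

theorem e8_17 : allRange 54324 2776 (fun u => chkE tab 8 u) = true := by decide +kernel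

theorem e8_18 : allRange 57100 2287 (fun u => chkE tab 8 u) = true := by decide +kernel

theorem e8_19 : allRange 59387 2559 (fun u => chkE tab 8 u) = true := by decide +kernel

theorem e8_20 : allRange 61946 2535 (fun u => chkE tab 8 u) = true := by decide +kernel


end Cfsg.Agent.Helper9.TCData.Fi23C0
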