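import Cfsg.Agent.Lib.Helper9.TCData.Fi23C0.Main

set_option autoImplicit false
set_option maxRecDepth 1000000

namespace Cfsg.Agent.Helper9.TCData.Fi23C0
open Cfsg.Agent.Helper9.TC2

theorem e9_0 : allRange 0 2193 (fun u => chkE tab 9 u) = true := by decide +kernel

theorem e9_1 : allRange 2193 2536 (fun u => chkE tab 9 u) = true := by decide +kernel

theorem e9_2 : allRange 4729 2961 (fun u => chkE tab 9 u) = true := by decide +kernel

theorem e9_3 : allRange 7690 3149 (fun u => chkE tab 9 u) = true := by decide +kernel

theorem e9_4 : allRange 10839 3313 (fun u => chkE tab 9 u) = true := by decide +kernel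

theorem e9_5 : allRange 14152 3358 (fun u => chkE tab 9 u) = true := by decide +kernel

theorem e9_6 : allRange 17510 3492 (fun u => chkE tab 9 u) = true := by decide +kernel

theorem e9_7 : allRange 21002 3594 (fun u => chkE tab 9 u) = true := by decide +kernel


end Cfsg.Agent.Helper9.TCData.Fi23C0
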