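import Cfsg.Agent.Lib.Helper9.TCData.Fi23C0.Main

set_option autoImplicit false
set_option maxRecDepth 1000000

namespace Cfsg.Agent.Helper9.TCData.Fi23C0
open Cfsg.Agent.Helper9.TC2

theorem e0_24 : allRange 60520 2898 (fun u => chkE tab 0 u) = true := by decide +kernel

theorem e0_25 : allRange 63418 1063 (fun u => chkE tab 0 u) = true := by decide +kernel

theorem e1_0 : allRange 0 2021 (fun u => chkE tab 1 u) = true := by decide +kernel

theorem e1_1 : allRange 2021 2058 (fun u => chkE tab 1 u) = true := by decide +kernel

theorem e1_2 : allRange 4079 2027 (fun u => chkE tab 1 u) = true := by decide +kernel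

theorem e1_3 : allRange 6106 2058 (fun u => chkE tab 1 u) = true := by decide +kernel

theorem e1_4 : allRange 8164 1987 (fun u => chkE tab 1 u) = true := by decide +kernel

theorem e1_5 : allRange 10151 2150 (fun u => chkE tab 1 u) = true := by decide +kernel


end Cfsg.Agent.Helper9.TCData.Fi23C0
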