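import Cfsg.Agent.Lib.Helper9.TCData.Fi23C0.Main

set_option autoImplicit false
set_option maxRecDepth 1000000

namespace Cfsg.Agent.Helper9.TCData.Fi23C0
open Cfsg.Agent.Helper9.TC2

theorem e9_16 : allRange 55905 2344 (fun u => chkE tab 9 u) = true := by decide +kernel

theorem e9_17 : allRange 58249 2465 (fun u => chkE tab 9 u) = true := by decide +kernel

theorem e9_18 : allRange 60714 2857 (fun u => chkE tab 9 u) = true := by decide +kernel

theorem e9_19 : allRange 63571 910 (fun u => chkE tab 9 u) = true := by decide +kernel


end Cfsg.Agent.Helper9.TCData.Fi23C0
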