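import Cfsg.Agent.Lib.Helper9.TCData.Fi23C0.Main

set_option autoImplicit false
set_option maxRecDepth 1000000

namespace Cfsg.Agent.Helper9.TCData.Fi23C0
open Cfsg.Agent.Helper9.TC2

theorem e1_6 : allRange 12301 1959 (fun u => chkE tab 1 u) = true := by decide +kernel

theorem e1_7 : allRange 14260 2191 (fun u => chkE tab 1 u) = true := by decide +kernel

theorem e1_8 : allRange 16451 2058 (fun u => chkE tab 1 u) = true := by decide +kernel

theorem e1_9 : allRange 18509 1983 (fun u => chkE tab 1 u) = true := by decide +kernel

theorem e1_10 : allRange 20492 2069 (fun u => chkE tab 1 u) = true := by decide +kernel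

theorem e1_11 : allRange 22561 2225 (fun u => chkE tab 1 u) = true := by decide +kernel

theorem e1_12 : allRange 24786 2121 (fun u => chkE tab 1 u) = true := by decide +kernel

theorem e1_13 : allRange 26907 1974 (fun u => chkE tab 1 u) = true := by decide +kernel


end Cfsg.Agent.Helper9.TCData.Fi23C0
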