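import Cfsg.Agent.Lib.Helper9.TCData.Fi23C0.Main

set_option autoImplicit false
set_option maxRecDepth 1000000

namespace Cfsg.Agent.Helper9.TCData.Fi23C0
open Cfsg.Agent.Helper9.TC2

theorem f_88 : allRange 22000 250 (fun u => chkFin tab u) = true := by decide +kernel

theorem f_89 : allRange 22250 250 (fun u => chkFin tab u) = true := by decide +kernel

theorem f_90 : allRange 22500 250 (fun u => chkFin tab u) = true := by decide +kernel

theorem f_91 : allRange 22750 250 (fun u => chkFin tab u) = true := by decide +kernel

theorem f_92 : allRange 23000 250 (fun u => chkFin tab u) = true := by decide +kernel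

theorem f_93 : allRange 23250 250 (fun u => chkFin tab u) = true := by decide +kernel

theorem f_94 : allRange 23500 250 (fun u => chkFin tab u) = true := by decide +kernel

theorem f_95 : allRange 23750 250 (fun u => chkFin tab u) = true := by decide +kernel


end Cfsg.Agent.Helper9.TCData.Fi23C0
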