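import Cfsg.Agent.Lib.Helper9.TCData.Fi23C0.Main

set_option autoImplicit false
set_option maxRecDepth 1000000

namespace Cfsg.Agent.Helper9.TCData.Fi23C0
open Cfsg.Agent.Helper9.TC2

theorem c_9 : allRange 24003 2667 (fun u => chkCls tab u) = true := by decide +kernel

theorem c_10 : allRange 26670 2667 (fun u => chkCls tab u) = true := by decide +kernel

theorem c_11 : allRange 29337 2667 (fun u => chkCls tab u) = true := by decide +kernel

theorem c_12 : allRange 32004 2667 (fun u => chkCls tab u) = true := by decide +kernel

theorem c_13 : allRange 34671 2667 (fun u => chkCls tab u) = true := by decide +kernel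

theorem c_14 : allRange 37338 2667 (fun u => chkCls tab u) = true := by decide +kernel

theorem c_15 : allRange 40005 2667 (fun u => chkCls tab u) = true := by decide +kernel

theorem c_16 : allRange 42672 2667 (fun u => chkCls tab u) = true := by decide +kernel


end Cfsg.Agent.Helper9.TCData.Fi23C0
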