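import Cfsg.Agent.Lib.Helper9.TCData.Fi23C0.Main

set_option autoImplicit false
set_option maxRecDepth 1000000

namespace Cfsg.Agent.Helper9.TCData.Fi23C0
open Cfsg.Agent.Helper9.TC2

theorem c_17 : allRange 45339 2667 (fun u => chkCls tab u) = true := by decide +kernel

theorem c_18 : allRange 48006 2667 (fun u => chkCls tab u) = true := by decide +kernel

theorem c_19 : allRange 50673 2667 (fun u => chkCls tab u) = true := by decide +kernel

theorem c_20 : allRange 53340 2667 (fun u => chkCls tab u) = true := by decide +kernel

theorem c_21 : allRange 56007 2667 (fun u => chkCls tab u) = true := by decide +kernel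

theorem c_22 : allRange 58674 2667 (fun u => chkCls tab u) = true := by decide +kernel

theorem c_23 : allRange 61341 2667 (fun u => chkCls tab u) = true := by decide +kernel

theorem c_24 : allRange 64008 473 (fun u => chkCls tab u) = true := by decide +kernel


end Cfsg.Agent.Helper9.TCData.Fi23C0
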