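import Cfsg.Agent.Lib.Helper9.TCData.Fi23C0.Main

set_option autoImplicit false
set_option maxRecDepth 1000000

namespace Cfsg.Agent.Helper9.TCData.Fi23C0
open Cfsg.Agent.Helper9.TC2

theorem ma_6 : allRange 4140 690 (fun u => chkAux tab aux u) = true := by decide +kernel

theorem ma_7 : allRange 4830 690 (fun u => chkAux tab aux u) = true := by decide +kernel

theorem ma_8 : allRange 5520 690 (fun u => chkAux tab aux u) = true := by decide +kernel

theorem ma_9 : allRange 6210 690 (fun u => chkAux tab aux u) = true := by decide +kernel

theorem ma_10 : allRange 6900 690 (fun u => chkAux tab aux u) = true := by decide +kernel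

theorem ma_11 : allRange 7590 690 (fun u => chkAux tab aux u) = true := by decide +kernel

theorem ma_12 : allRange 8280 690 (fun u => chkAux tab aux u) = true := by decide +kernel

theorem ma_13 : allRange 8970 690 (fun u => chkAux tab aux u) = true := by decide +kernel


end Cfsg.Agent.Helper9.TCData.Fi23C0
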