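import Cfsg.Agent.Lib.Helper9.TCData.Fi23C0.Main

set_option autoImplicit false
set_option maxRecDepth 1000000

namespace Cfsg.Agent.Helper9.TCData.Fi23C0
open Cfsg.Agent.Helper9.TC2

theorem ma_14 : allRange 9660 690 (fun u => chkAux tab aux u) = true := by decide +kernel

theorem ma_15 : allRange 10350 690 (fun u => chkAux tab aux u) = true := by decide +kernel

theorem ma_16 : allRange 11040 690 (fun u => chkAux tab aux u) = true := by decide +kernel

theorem ma_17 : allRange 11730 690 (fun u => chkAux tab aux u) = true := by decide +kernel

theorem ma_18 : allRange 12420 690 (fun u => chkAux tab aux u) = true := by decide +kernel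

theorem ma_19 : allRange 13110 690 (fun u => chkAux tab aux u) = true := by decide +kernel

theorem ma_20 : allRange 13800 690 (fun u => chkAux tab aux u) = true := by decide +kernel

theorem ma_21 : allRange 14490 690 (fun u => chkAux tab aux u) = true := by decide +kernel


end Cfsg.Agent.Helper9.TCData.Fi23C0
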