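import Cfsg.Agent.Lib.Helper9.TCData.Fi23C0.Main

set_option autoImplicit false
set_option maxRecDepth 1000000

namespace Cfsg.Agent.Helper9.TCData.Fi23C0
open Cfsg.Agent.Helper9.TC2

theorem ma_22 : allRange 15180 690 (fun u => chkAux tab aux u) = true := by decide +kernel

theorem ma_23 : allRange 15870 690 (fun u => chkAux tab aux u) = true := by decide +kernel

theorem ma_24 : allRange 16560 690 (fun u => chkAux tab aux u) = true := by decide +kernel

theorem ma_25 : allRange 17250 690 (fun u => chkAux tab aux u) = true := by decide +kernel

theorem ma_26 : allRange 17940 690 (fun u => chkAux tab aux u) = true := by decide +kernel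

theorem ma_27 : allRange 18630 690 (fun u => chkAux tab aux u) = true := by decide +kernel

theorem ma_28 : allRange 19320 690 (fun u => chkAux tab aux u) = true := by decide +kernel

theorem ma_29 : allRange 20010 690 (fun u => chkAux tab aux u) = true := by decide +kernel


end Cfsg.Agent.Helper9.TCData.Fi23C0
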