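import Cfsg.Agent.Lib.Helper9.TCData.Fi23C0.Main

set_option autoImplicit false
set_option maxRecDepth 1000000

namespace Cfsg.Agent.Helper9.TCData.Fi23C0
open Cfsg.Agent.Helper9.TC2

theorem ma_30 : allRange 20700 690 (fun u => chkAux tab aux u) = true := by decide +kernel

theorem ma_31 : allRange 21390 690 (fun u => chkAux tab aux u) = true := by decide +kernel

theorem ma_32 : allRange 22080 690 (fun u => chkAux tab aux u) = true := by decide +kernel

theorem ma_33 : allRange 22770 690 (fun u => chkAux tab aux u) = true := by decide +kernel

theorem ma_34 : allRange 23460 690 (fun u => chkAux tab aux u) = true := by decide +kernel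

theorem ma_35 : allRange 24150 690 (fun u => chkAux tab aux u) = true := by decide +kernel

theorem ma_36 : allRange 24840 690 (fun u => chkAux tab aux u) = true := by decide +kernel

theorem ma_37 : allRange 25530 690 (fun u => chkAux tab aux u) = true := by decide +kernel


end Cfsg.Agent.Helper9.TCData.Fi23C0
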