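import Cfsg.Agent.Lib.Helper9.TCData.Fi23C0.Main

set_option autoImplicit false
set_option maxRecDepth 1000000

namespace Cfsg.Agent.Helper9.TCData.Fi23C0
open Cfsg.Agent.Helper9.TC2

theorem ma_38 : allRange 26220 690 (fun u => chkAux tab aux u) = true := by decide +kernel

theorem ma_39 : allRange 26910 690 (fun u => chkAux tab aux u) = true := by decide +kernel

theorem ma_40 : allRange 27600 690 (fun u => chkAux tab aux u) = true := by decide +kernel

theorem ma_41 : allRange 28290 690 (fun u => chkAux tab aux u) = true := by decide +kernel

theorem ma_42 : allRange 28980 690 (fun u => chkAux tab aux u) = true := by decide +kernel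

theorem ma_43 : allRange 29670 690 (fun u => chkAux tab aux u) = true := by decide +kernel

theorem ma_44 : allRange 30360 690 (fun u => chkAux tab aux u) = true := by decide +kernel

theorem ma_45 : allRange 31050 621 (fun u => chkAux tab aux u) = true := by decide +kernel


end Cfsg.Agent.Helper9.TCData.Fi23C0
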