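import Cfsg.Agent.Lib.Helper9.TCData.Fi23C0.Main

set_option autoImplicit false
set_option maxRecDepth 1000000

namespace Cfsg.Agent.Helper9.TCData.Fi23C0
open Cfsg.Agent.Helper9.TC2

theorem m2_72 : allRange 4464 62 (fun u => chkFix tab mwordsA u) = true := by decide +kernel

theorem m2_73 : allRange 4526 62 (fun u => chkFix tab mwordsA u) = true := by decide +kernel

theorem m2_74 : allRange 4588 62 (fun u => chkFix tab mwordsA u) = true := by decide +kernel

theorem m2_75 : allRange 4650 62 (fun u => chkFix tab mwordsA u) = true := by decide +kernel

theorem m2_76 : allRange 4712 62 (fun u => chkFix tab mwordsA u) = true := by decide +kernel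

theorem m2_77 : allRange 4774 62 (fun u => chkFix tab mwordsA u) = true := by decide +kernel

theorem m2_78 : allRange 4836 62 (fun u => chkFix tab mwordsA u) = true := by decide +kernel

theorem m2_79 : allRange 4898 62 (fun u => chkFix tab mwordsA u) = true := by decide +kernel


end Cfsg.Agent.Helper9.TCData.Fi23C0
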