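import Cfsg.Agent.Lib.Helper9.TCData.Fi23C0.Main

set_option autoImplicit false
set_option maxRecDepth 1000000

namespace Cfsg.Agent.Helper9.TCData.Fi23C0
open Cfsg.Agent.Helper9.TC2

theorem e2_12 : allRange 25452 2147 (fun u => chkE tab 2 u) = true := by decide +kernel

theorem e2_13 : allRange 27599 2132 (fun u => chkE tab 2 u) = true := by decide +kernel

theorem e2_14 : allRange 29731 2254 (fun u => chkE tab 2 u) = true := by decide +kernel

theorem e2_15 : allRange 31985 5399 (fun u => chkE tab 2 u) = true := by decide +kernel

theorem e2_16 : allRange 37384 4986 (fun u => chkE tab 2 u) = true := by decide +kernel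

theorem e2_17 : allRange 42370 3441 (fun u => chkE tab 2 u) = true := by decide +kernel

theorem e2_18 : allRange 45811 2589 (fun u => chkE tab 2 u) = true := by decide +kernel

theorem e2_19 : allRange 48400 2299 (fun u => chkE tab 2 u) = true := by decide +kernel


end Cfsg.Agent.Helper9.TCData.Fi23C0
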