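import Cfsg.Agent.Lib.Helper9.TCData.Fi23C0.Main

set_option autoImplicit false
set_option maxRecDepth 1000000

namespace Cfsg.Agent.Helper9.TCData.Fi23C0
open Cfsg.Agent.Helper9.TC2

theorem m2_120 : allRange 7440 62 (fun u => chkFix tab mwordsA u) = true := by decide +kernel

theorem m2_121 : allRange 7502 62 (fun u => chkFix tab mwordsA u) = true := by decide +kernel

theorem m2_122 : allRange 7564 62 (fun u => chkFix tab mwordsA u) = true := by decide +kernel

theorem m2_123 : allRange 7626 62 (fun u => chkFix tab mwordsA u) = true := by decide +kernel

theorem m2_124 : allRange 7688 62 (fun u => chkFix tab mwordsA u) = true := by decide +kernel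

theorem m2_125 : allRange 7750 62 (fun u => chkFix tab mwordsA u) = true := by decide +kernel

theorem m2_126 : allRange 7812 62 (fun u => chkFix tab mwordsA u) = true := by decide +kernel

theorem m2_127 : allRange 7874 62 (fun u => chkFix tab mwordsA u) = true := by decide +kernel


end Cfsg.Agent.Helper9.TCData.Fi23C0
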