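import Cfsg.Agent.Lib.Helper9.TCData.Fi23C0.Main

set_option autoImplicit false
set_option maxRecDepth 1000000

namespace Cfsg.Agent.Helper9.TCData.Fi23C0
open Cfsg.Agent.Helper9.TC2

theorem e2_20 : allRange 50699 2510 (fun u => chkE tab 2 u) = true := by decide +kernel

theorem e2_21 : allRange 53209 2684 (fun u => chkE tab 2 u) = true := by decide +kernel

theorem e2_22 : allRange 55893 3128 (fun u => chkE tab 2 u) = true := by decide +kernel

theorem e2_23 : allRange 59021 2470 (fun u => chkE tab 2 u) = true := by decide +kernel

theorem e2_24 : allRange 61491 2776 (fun u => chkE tab 2 u) = true := by decide +kernel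

theorem e2_25 : allRange 64267 214 (fun u => chkE tab 2 u) = true := by decide +kernel

theorem e3_0 : allRange 0 2140 (fun u => chkE tab 3 u) = true := by decide +kernel

theorem e3_1 : allRange 2140 2149 (fun u => chkE tab 3 u) = true := by decide +kernel


end Cfsg.Agent.Helper9.TCData.Fi23C0
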