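import Cfsg.Agent.Lib.Helper9.TCData.Fi23C0.Main

set_option autoImplicit false
set_option maxRecDepth 1000000

namespace Cfsg.Agent.Helper9.TCData.Fi23C0
open Cfsg.Agent.Helper9.TC2

theorem m2_208 : allRange 12896 62 (fun u => chkFix tab mwordsA u) = true := by decide +kernel

theorem m2_209 : allRange 12958 62 (fun u => chkFix tab mwordsA u) = true := by decide +kernel

theorem m2_210 : allRange 13020 62 (fun u => chkFix tab mwordsA u) = true := by decide +kernel

theorem m2_211 : allRange 13082 62 (fun u => chkFix tab mwordsA u) = true := by decide +kernel

theorem m2_212 : allRange 13144 62 (fun u => chkFix tab mwordsA u) = true := by decide +kernel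

theorem m2_213 : allRange 13206 62 (fun u => chkFix tab mwordsA u) = true := by decide +kernel

theorem m2_214 : allRange 13268 62 (fun u => chkFix tab mwordsA u) = true := by decide +kernel

theorem m2_215 : allRange 13330 62 (fun u => chkFix tab mwordsA u) = true := by decide +kernel


end Cfsg.Agent.Helper9.TCData.Fi23C0
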