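import Cfsg.Agent.Lib.Helper9.TCData.Fi23C0.Main

set_option autoImplicit false
set_option maxRecDepth 1000000

namespace Cfsg.Agent.Helper9.TCData.Fi23C0
open Cfsg.Agent.Helper9.TC2

theorem m2_264 : allRange 16368 62 (fun u => chkFix tab mwordsA u) = true := by decide +kernel

theorem m2_265 : allRange 16430 62 (fun u => chkFix tab mwordsA u) = true := by decide +kernel

theorem m2_266 : allRange 16492 62 (fun u => chkFix tab mwordsA u) = true := by decide +kernel

theorem m2_267 : allRange 16554 62 (fun u => chkFix tab mwordsA u) = true := by decide +kernel

theorem m2_268 : allRange 16616 62 (fun u => chkFix tab mwordsA u) = true := by decide +kernel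

theorem m2_269 : allRange 16678 62 (fun u => chkFix tab mwordsA u) = true := by decide +kernel

theorem m2_270 : allRange 16740 62 (fun u => chkFix tab mwordsA u) = true := by decide +kernel

theorem m2_271 : allRange 16802 62 (fun u => chkFix tab mwordsA u) = true := by decide +kernel


end Cfsg.Agent.Helper9.TCData.Fi23C0
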