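import Cfsg.Agent.Lib.Helper9.TCData.Fi23C0.S0
import Cfsg.Agent.Lib.Helper9.TCData.Fi23C0.S1
import Cfsg.Agent.Lib.Helper9.TCData.Fi23C0.S2
import Cfsg.Agent.Lib.Helper9.TCData.Fi23C0.S3
import Cfsg.Agent.Lib.Helper9.TCData.Fi23C0.S4
import Cfsg.Agent.Lib.Helper9.TCData.Fi23C0.S5
import Cfsg.Agent.Lib.Helper9.TCData.Fi23C0.S6
import Cfsg.Agent.Lib.Helper9.TCData.Fi23C0.S7
import Cfsg.Agent.Lib.Helper9.TCData.Fi23C0.S8
import Cfsg.Agent.Lib.Helper9.TCData.Fi23C0.S9
import Cfsg.Agent.Lib.Helper9.TCData.Fi23C0.S10
import Cfsg.Agent.Lib.Helper9.TCData.Fi23C0.S11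
import Cfsg.Agent.Lib.Helper9.TCData.Fi23C0.S12
import Cfsg.Agent.Lib.Helper9.TCData.Fi23C0.S13
import Cfsg.Agent.Lib.Helper9.TCData.Fi23C0.S14
import Cfsg.Agent.Lib.Helper9.TCData.Fi23C0.S15
import Cfsg.Agent.Lib.Helper9.TCData.Fi23C0.S16
import Cfsg.Agent.Lib.Helper9.TCData.Fi23C0.S17
import Cfsg.Agent.Lib.Helper9.TCData.Fi23C0.S18
import Cfsg.Agent.Lib.Helper9.TCData.Fi23C0.S19
import Cfsg.Agent.Lib.Helper9.TCData.Fi23C0.S20
import Cfsg.Agent.Lib.Helper9.TCData.Fi23C0.S21
import Cfsg.Agent.Lib.Helper9.TCData.Fi23C0.S22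
import Cfsg.Agent.Lib.Helper9.TCData.Fi23C0.S23
import Cfsg.Agent.Lib.Helper9.TCData.Fi23C0.S24
import Cfsg.Agent.Lib.Helper9.TCData.Fi23C0.S25
import Cfsg.Agent.Lib.Helper9.TCData.Fi23C0.S26
import Cfsg.Agent.Lib.Helper9.TCData.Fi23C0.S27
import Cfsg.Agent.Lib.Helper9.TCData.Fi23C0.S28
import Cfsg.Agent.Lib.Helper9.TCData.Fi23C0.S29
import Cfsg.Agent.Lib.Helper9.TCData.Fi23C0.S30
import Cfsg.Agent.Lib.Helper9.TCData.Fi23C0.S31
import Cfsg.Agent.Lib.Helper9.TCData.Fi23C0.S32
import Cfsg.Agent.Lib.Helper9.TCData.Fi23C0.S33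
import Cfsg.Agent.Lib.Helper9.TCData.Fi23C0.S34
import Cfsg.Agent.Lib.Helper9.TCData.Fi23C0.S35
import Cfsg.Agent.Lib.Helper9.TCData.Fi23C0.S36
import Cfsg.Agent.Lib.Helper9.TCData.Fi23C0.S37
import Cfsg.Agent.Lib.Helper9.TCData.Fi23C0.S38
import Cfsg.Agent.Lib.Helper9.TCData.Fi23C0.S39
import Cfsg.Agent.Lib.Helper9.TCData.Fi23C0.S40
import Cfsg.Agent.Lib.Helper9.TCData.Fi23C0.S41
import Cfsg.Agent.Lib.Helper9.TCData.Fi23C0.S42
import Cfsg.Agent.Lib.Helper9.TCData.Fi23C0.S43
import Cfsg.Agent.Lib.Helper9.TCData.Fi23C0.S44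
import Cfsg.Agent.Lib.Helper9.TCData.Fi23C0.S45
import Cfsg.Agent.Lib.Helper9.TCData.Fi23C0.S46
import Cfsg.Agent.Lib.Helper9.TCData.Fi23C0.S47
import Cfsg.Agent.Lib.Helper9.TCData.Fi23C0.S48
import Cfsg.Agent.Lib.Helper9.TCData.Fi23C0.S49
import Cfsg.Agent.Lib.Helper9.TCData.Fi23C0.S50
import Cfsg.Agent.Lib.Helper9.TCData.Fi23C0.S51
import Cfsg.Agent.Lib.Helper9.TCData.Fi23C0.S52
import Cfsg.Agent.Lib.Helper9.TCData.Fi23C0.S53
import Cfsg.Agent.Lib.Helper9.TCData.Fi23C0.S54
import Cfsg.Agent.Lib.Helper9.TCData.Fi23C0.S55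
import Cfsg.Agent.Lib.Helper9.TCData.Fi23C0.S56
import Cfsg.Agent.Lib.Helper9.TCData.Fi23C0.S57
import Cfsg.Agent.Lib.Helper9.TCData.Fi23C0.S58
import Cfsg.Agent.Lib.Helper9.TCData.Fi23C0.S59
import Cfsg.Agent.Lib.Helper9.TCData.Fi23C0.S60
import Cfsg.Agent.Lib.Helper9.TCData.Fi23C0.S61
import Cfsg.Agent.Lib.Helper9.TCData.Fi23C0.S62
import Cfsg.Agent.Lib.Helper9.TCData.Fi23C0.S63
import Cfsg.Agent.Lib.Helper9.TCData.Fi23C0.S64
import Cfsg.Agent.Lib.Helper9.TCData.Fi23C0.S65
import Cfsg.Agent.Lib.Helper9.TCData.Fi23C0.S66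
import Cfsg.Agent.Lib.Helper9.TCData.Fi23C0.S67
import Cfsg.Agent.Lib.Helper9.TCData.Fi23C0.S68
import Cfsg.Agent.Lib.Helper9.TCData.Fi23C0.S69
import Cfsg.Agent.Lib.Helper9.TCData.Fi23C0.S70
import Cfsg.Agent.Lib.Helper9.TCData.Fi23C0.S71
import Cfsg.Agent.Lib.Helper9.TCData.Fi23C0.S72
import Cfsg.Agent.Lib.Helper9.TCData.Fi23C0.S73
import Cfsg.Agent.Lib.Helper9.TCData.Fi23C0.S74
import Cfsg.Agent.Lib.Helper9.TCData.Fi23C0.S75
import Cfsg.Agent.Lib.Helper9.TCData.Fi23C0.S76
import Cfsg.Agent.Lib.Helper9.TCData.Fi23C0.S77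
import Cfsg.Agent.Lib.Helper9.TCData.Fi23C0.S78
import Cfsg.Agent.Lib.Helper9.TCData.Fi23C0.S79
import Cfsg.Agent.Lib.Helper9.TCData.Fi23C0.S80
import Cfsg.Agent.Lib.Helper9.TCData.Fi23C0.S81
import Cfsg.Agent.Lib.Helper9.TCData.Fi23C0.S82
import Cfsg.Agent.Lib.Helper9.TCData.Fi23C0.S83
import Cfsg.Agent.Lib.Helper9.TCData.Fi23C0.S84
import Cfsg.Agent.Lib.Helper9.TCData.Fi23C0.S85
import Cfsg.Agent.Lib.Helper9.TCData.Fi23C0.S86
import Cfsg.Agent.Lib.Helper9.TCData.Fi23C0.S87
import Cfsg.Agent.Lib.Helper9.TCData.Fi23C0.S88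
import Cfsg.Agent.Lib.Helper9.TCData.Fi23C0.S89
import Cfsg.Agent.Lib.Helper9.TCData.Fi23C0.S90
import Cfsg.Agent.Lib.Helper9.TCData.Fi23C0.S91
import Cfsg.Agent.Lib.Helper9.TCData.Fi23C0.S92
import Cfsg.Agent.Lib.Helper9.TCData.Fi23C0.S93
import Cfsg.Agent.Lib.Helper9.TCData.Fi23C0.S94
import Cfsg.Agent.Lib.Helper9.TCData.Fi23C0.S95
import Cfsg.Agent.Lib.Helper9.TCData.Fi23C0.S96
import Cfsg.Agent.Lib.Helper9.TCData.Fi23C0.S97
import Cfsg.Agent.Lib.Helper9.TCData.Fi23C0.S98
import Cfsg.Agent.Lib.Helper9.TCData.Fi23C0.S99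
import Cfsg.Agent.Lib.Helper9.TCData.Fi23C0.S100
import Cfsg.Agent.Lib.Helper9.TCData.Fi23C0.S101
import Cfsg.Agent.Lib.Helper9.TCData.Fi23C0.S102
import Cfsg.Agent.Lib.Helper9.TCData.Fi23C0.S103
import Cfsg.Agent.Lib.Helper9.TCData.Fi23C0.S104
import Cfsg.Agent.Lib.Helper9.TCData.Fi23C0.S105
import Cfsg.Agent.Lib.Helper9.TCData.Fi23C0.S106
import Cfsg.Agent.Lib.Helper9.TCData.Fi23C0.S107
import Cfsg.Agent.Lib.Helper9.TCData.Fi23C0.S108
import Cfsg.Agent.Lib.Helper9.TCData.Fi23C0.S109
import Cfsg.Agent.Lib.Helper9.TCData.Fi23C0.S110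
import Cfsg.Agent.Lib.Helper9.TCData.Fi23C0.S111
import Cfsg.Agent.Lib.Helper9.TCData.Fi23C0.S112
import Cfsg.Agent.Lib.Helper9.TCData.Fi23C0.S113
import Cfsg.Agent.Lib.Helper9.TCData.Fi23C0.S114
import Cfsg.Agent.Lib.Helper9.TCData.Fi23C0.S115
import Cfsg.Agent.Lib.Helper9.TCData.Fi23C0.S116
import Cfsg.Agent.Lib.Helper9.TCData.Fi23C0.S117
import Cfsg.Agent.Lib.Helper9.TCData.Fi23C0.S118
import Cfsg.Agent.Lib.Helper9.TCData.Fi23C0.S119
import Cfsg.Agent.Lib.Helper9.TCData.Fi23C0.S120
import Cfsg.Agent.Lib.Helper9.TCData.Fi23C0.S121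
import Cfsg.Agent.Lib.Helper9.TCData.Fi23C0.S122
import Cfsg.Agent.Lib.Helper9.TCData.Fi23C0.S123
import Cfsg.Agent.Lib.Helper9.TCData.Fi23C0.S124
import Cfsg.Agent.Lib.Helper9.TCData.Fi23C0.S125
import Cfsg.Agent.Lib.Helper9.TCData.Fi23C0.S126
import Cfsg.Agent.Lib.Helper9.TCData.Fi23C0.S127
import Cfsg.Agent.Lib.Helper9.TCData.Fi23C0.S128
import Cfsg.Agent.Lib.Helper9.TCData.Fi23C0.S129
import Cfsg.Agent.Lib.Helper9.TCData.Fi23C0.S130
import Cfsg.Agent.Lib.Helper9.TCData.Fi23C0.S131
import Cfsg.Agent.Lib.Helper9.TCData.Fi23C0.S132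
import Cfsg.Agent.Lib.Helper9.TCData.Fi23C0.S133
import Cfsg.Agent.Lib.Helper9.TCData.Fi23C0.S134
import Cfsg.Agent.Lib.Helper9.TCData.Fi23C0.S135
import Cfsg.Agent.Lib.Helper9.TCData.Fi23C0.S136
import Cfsg.Agent.Lib.Helper9.TCData.Fi23C0.S137
import Cfsg.Agent.Lib.Helper9.TCData.Fi23C0.S138
import Cfsg.Agent.Lib.Helper9.TCData.Fi23C0.S139
import Cfsg.Agent.Lib.Helper9.TCData.Fi23C0.S140
import Cfsg.Agent.Lib.Helper9.TCData.Fi23C0.S141
import Cfsg.Agent.Lib.Helper9.TCData.Fi23C0.S142
import Cfsg.Agent.Lib.Helper9.TCData.Fi23C0.S143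
import Cfsg.Agent.Lib.Helper9.TCData.Fi23C0.S144
import Cfsg.Agent.Lib.Helper9.TCData.Fi23C0.S145
import Cfsg.Agent.Lib.Helper9.TCData.Fi23C0.S146
import Cfsg.Agent.Lib.Helper9.TCData.Fi23C0.S147
import Cfsg.Agent.Lib.Helper9.TCData.Fi23C0.S148
import Cfsg.Agent.Lib.Helper9.TCData.Fi23C0.S149
import Cfsg.Agent.Lib.Helper9.TCData.Fi23C0.S150
import Cfsg.Agent.Lib.Helper9.TCData.Fi23C0.S151
import Cfsg.Agent.Lib.Helper9.TCData.Fi23C0.S152
import Cfsg.Agent.Lib.Helper9.TCData.Fi23C0.S153
import Cfsg.Agent.Lib.Helper9.TCData.Fi23C0.S154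
import Cfsg.Agent.Lib.Helper9.TCData.Fi23C0.S155
import Cfsg.Agent.Lib.Helper9.TCData.Fi23C0.S156
import Cfsg.Agent.Lib.Helper9.TCData.Fi23C0.S157
import Cfsg.Agent.Lib.Helper9.TCData.Fi23C0.S158
import Cfsg.Agent.Lib.Helper9.TCData.Fi23C0.S159
import Cfsg.Agent.Lib.Helper9.TCData.Fi23C0.S160
import Cfsg.Agent.Lib.Helper9.TCData.Fi23C0.S161
import Cfsg.Agent.Lib.Helper9.TCData.Fi23C0.S162
import Cfsg.Agent.Lib.Helper9.TCData.Fi23C0.S163
import Cfsg.Agent.Lib.Helper9.TCData.Fi23C0.S164
import Cfsg.Agent.Lib.Helper9.TCData.Fi23C0.S165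
import Cfsg.Agent.Lib.Helper9.TCData.Fi23C0.S166
import Cfsg.Agent.Lib.Helper9.TCData.Fi23C0.S167
import Cfsg.Agent.Lib.Helper9.TCData.Fi23C0.S168
import Cfsg.Agent.Lib.Helper9.TCData.Fi23C0.S169
import Cfsg.Agent.Lib.Helper9.TCData.Fi23C0.S170
import Cfsg.Agent.Lib.Helper9.TCData.Fi23C0.S171
import Cfsg.Agent.Lib.Helper9.TCData.Fi23C0.S172
import Cfsg.Agent.Lib.Helper9.TCData.Fi23C0.S173
import Cfsg.Agent.Lib.Helper9.TCData.Fi23C0.S174
import Cfsg.Agent.Lib.Helper9.TCData.Fi23C0.S175
import Cfsg.Agent.Lib.Helper9.TCData.Fi23C0.S176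
import Cfsg.Agent.Lib.Helper9.TCData.Fi23C0.S177
import Cfsg.Agent.Lib.Helper9.TCData.Fi23C0.S178
import Cfsg.Agent.Lib.Helper9.TCData.Fi23C0.S179
import Cfsg.Agent.Lib.Helper9.TCData.Fi23C0.S180
import Cfsg.Agent.Lib.Helper9.TCData.Fi23C0.S181
import Cfsg.Agent.Lib.Helper9.TCData.Fi23C0.S182
import Cfsg.Agent.Lib.Helper9.TCData.Fi23C0.S183
import Cfsg.Agent.Lib.Helper9.TCData.Fi23C0.S184
import Cfsg.Agent.Lib.Helper9.TCData.Fi23C0.S185
import Cfsg.Agent.Lib.Helper9.TCData.Fi23C0.S186
import Cfsg.Agent.Lib.Helper9.TCData.Fi23C0.S187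
import Cfsg.Agent.Lib.Helper9.TCData.Fi23C0.S188
import Cfsg.Agent.Lib.Helper9.TCData.Fi23C0.S189
import Cfsg.Agent.Lib.Helper9.TCData.Fi23C0.S190
import Cfsg.Agent.Lib.Helper9.TCData.Fi23C0.S191
import Cfsg.Agent.Lib.Helper9.TCData.Fi23C0.S192
import Cfsg.Agent.Lib.Helper9.TCData.Fi23C0.S193
import Cfsg.Agent.Lib.Helper9.TCData.Fi23C0.S194
import Cfsg.Agent.Lib.Helper9.TCData.Fi23C0.S195
import Cfsg.Agent.Lib.Helper9.TCData.Fi23C0.S196
import Cfsg.Agent.Lib.Helper9.TCData.Fi23C0.S197
import Cfsg.Agent.Lib.Helper9.TCData.Fi23C0.S198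
import Cfsg.Agent.Lib.Helper9.TCData.Fi23C0.S199
import Cfsg.Agent.Lib.Helper9.TCData.Fi23C0.S200
import Cfsg.Agent.Lib.Helper9.TCData.Fi23C0.S201
import Cfsg.Agent.Lib.Helper9.TCData.Fi23C0.S202
import Cfsg.Agent.Lib.Helper9.TCData.Fi23C0.S203
import Cfsg.Agent.Lib.Helper9.TCData.Fi23C0.S204
import Cfsg.Agent.Lib.Helper9.TCData.Fi23C0.S205
import Cfsg.Agent.Lib.Helper9.TCData.Fi23C0.S206
import Cfsg.Agent.Lib.Helper9.TCData.Fi23C0.S207
import Cfsg.Agent.Lib.Helper9.TCData.Fi23C0.S208
import Cfsg.Agent.Lib.Helper9.TCData.Fi23C0.S209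
import Cfsg.Agent.Lib.Helper9.TCData.Fi23C0.S210
import Cfsg.Agent.Lib.Helper9.TCData.Fi23C0.S211
import Cfsg.Agent.Lib.Helper9.TCData.Fi23C0.S212
import Cfsg.Agent.Lib.Helper9.TCData.Fi23C0.S213
import Cfsg.Agent.Lib.Helper9.TCData.Fi23C0.S214
import Cfsg.Agent.Lib.Helper9.TCData.Fi23C0.S215
import Cfsg.Agent.Lib.Helper9.TCData.Fi23C0.S216
import Cfsg.Agent.Lib.Helper9.TCData.Fi23C0.S217
import Cfsg.Agent.Lib.Helper9.TCData.Fi23C0.S218
import Cfsg.Agent.Lib.Helper9.TCData.Fi23C0.S219
import Cfsg.Agent.Lib.Helper9.TCData.Fi23C0.S220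
import Cfsg.Agent.Lib.Helper9.TCData.Fi23C0.S221
import Cfsg.Agent.Lib.Helper9.TCData.Fi23C0.S222
import Cfsg.Agent.Lib.Helper9.TCData.Fi23C0.S223
import Cfsg.Agent.Lib.Helper9.TCData.Fi23C0.S224
import Cfsg.Agent.Lib.Helper9.TCData.Fi23C0.S225
import Cfsg.Agent.Lib.Helper9.TCData.Fi23C0.S226
import Cfsg.Agent.Lib.Helper9.TCData.Fi23C0.S227
import Cfsg.Agent.Lib.Helper9.TCData.Fi23C0.S228
import Cfsg.Agent.Lib.Helper9.TCData.Fi23C0.S229
import Cfsg.Agent.Lib.Helper9.TCData.Fi23C0.S230
import Cfsg.Agent.Lib.Helper9.TCData.Fi23C0.S231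
import Cfsg.Agent.Lib.Helper9.TCData.Fi23C0.S232
import Cfsg.Agent.Lib.Helper9.TCData.Fi23C0.S233
import Cfsg.Agent.Lib.Helper9.TCData.Fi23C0.S234
import Cfsg.Agent.Lib.Helper9.TCData.Fi23C0.S235
import Cfsg.Agent.Lib.Helper9.TCData.Fi23C0.S236
import Cfsg.Agent.Lib.Helper9.TCData.Fi23C0.S237
import Cfsg.Agent.Lib.Helper9.TCData.Fi23C0.S238
import Cfsg.Agent.Lib.Helper9.TCData.Fi23C0.S239
import Cfsg.Agent.Lib.Helper9.TCData.Fi23C0.S240
import Cfsg.Agent.Lib.Helper9.TCData.Fi23C0.S241
import Cfsg.Agent.Lib.Helper9.TCData.Fi23C0.S242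
import Cfsg.Agent.Lib.Helper9.TCData.Fi23C0.S243
import Cfsg.Agent.Lib.Helper9.TCData.Fi23C0.S244
import Cfsg.Agent.Lib.Helper9.TCData.Fi23C0.S245
import Cfsg.Agent.Lib.Helper9.TCData.Fi23C0.S246
import Cfsg.Agent.Lib.Helper9.TCData.Fi23C0.S247
import Cfsg.Agent.Lib.Helper9.TCData.Fi23C0.S248
import Cfsg.Agent.Lib.Helper9.TCData.Fi23C0.S249
import Cfsg.Agent.Lib.Helper9.TCData.Fi23C0.S250
import Cfsg.Agent.Lib.Helper9.TCData.Fi23C0.S251
import Cfsg.Agent.Lib.Helper9.TCData.Fi23C0.S252

set_option autoImplicit false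
set_option maxRecDepth 1000000

namespace Cfsg.Agent.Helper9.TCData.Fi23C0
open Cfsg.Agent.Helper9.TC2


theorem hE0 : ∀ u < 64481, chkE tab 0 u = true := by
  have h0 : ∀ u < 0, (fun u => chkE tab 0 u) u = true := range_zero
  have h1 : ∀ u < 2010, (fun u => chkE tab 0 u) u = true := ext_range (a := 0) (len := 2010) h0 e0_0
  have h2 : ∀ u < 4025, (fun u => chkE tab 0 u) u = true := ext_range (a := 2010) (len := 2015) h1 e0_1
  have h3 : ∀ u < 6031, (fun u => chkE tab 0 u) u = true := ext_range (a := 4025) (len := 2006) h2 e0_2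
  have h4 : ∀ u < 8091, (fun u => chkE tab 0 u) u = true := ext_range (a := 6031) (len := 2060) h3 e0_3
  have h5 : ∀ u < 9992, (fun u => chkE tab 0 u) u = true := ext_range (a := 8091) (len := 1901) h4 e0_4
  have h6 : ∀ u < 12134, (fun u => chkE tab 0 u) u = true := ext_range (a := 9992) (len := 2142) h5 e0_5
  have h7 : ∀ u < 14090, (fun u => chkE tab 0 u) u = true := ext_range (a := 12134) (len := 1956) h6 e0_6
  have h8 : ∀ u < 16289, (fun u => chkE tab 0 u) u = true := ext_range (a := 14090) (len := 2199) h7 e0_7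
  have h9 : ∀ u < 18294, (fun u => chkE tab 0 u) u = true := ext_range (a := 16289) (len := 2005) h8 e0_8
  have h10 : ∀ u < 20253, (fun u => chkE tab 0 u) u = true := ext_range (a := 18294) (len := 1959) h9 e0_9
  have h11 : ∀ u < 22249, (fun u => chkE tab 0 u) u = true := ext_range (a := 20253) (len := 1996) h10 e0_10
  have h12 : ∀ u < 24575, (fun u => chkE tab 0 u) u = true := ext_range (a := 22249) (len := 2326) h11 e0_11
  have h13 : ∀ u < 26617, (fun u => chkE tab 0 u) u = true := ext_range (a := 24575) (len := 2042) h12 e0_12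
  have h14 : ∀ u < 28581, (fun u => chkE tab 0 u) u = true := ext_range (a := 26617) (len := 1964) h13 e0_13
  have h15 : ∀ u < 30572, (fun u => chkE tab 0 u) u = true := ext_range (a := 28581) (len := 1991) h14 e0_14
  have h16 : ∀ u < 34421, (fun u => chkE tab 0 u) u = true := ext_range (a := 30572) (len := 3849) h15 e0_15
  have h17 : ∀ u < 40747, (fun u => chkE tab 0 u) u = true := ext_range (a := 34421) (len := 6326) h16 e0_16
  have h18 : ∀ u < 44186, (fun u => chkE tab 0 u) u = true := ext_range (a := 40747) (len := 3439) h17 e0_17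
  have h19 : ∀ u < 47355, (fun u => chkE tab 0 u) u = true := ext_range (a := 44186) (len := 3169) h18 e0_18
  have h20 : ∀ u < 49799, (fun u => chkE tab 0 u) u = true := ext_range (a := 47355) (len := 2444) h19 e0_19
  have h21 : ∀ u < 52311, (fun u => chkE tab 0 u) u = true := ext_range (a := 49799) (len := 2512) h20 e0_20
  have h22 : ∀ u < 54878, (fun u => chkE tab 0 u) u = true := ext_range (a := 52311) (len := 2567) h21 e0_21
  have h23 : ∀ u < 57528, (fun u => chkE tab 0 u) u = true := ext_range (a := 54878) (len := 2650) h22 e0_22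
  have h24 : ∀ u < 60520, (fun u => chkE tab 0 u) u = true := ext_range (a := 57528) (len := 2992) h23 e0_23
  have h25 : ∀ u < 63418, (fun u => chkE tab 0 u) u = true := ext_range (a := 60520) (len := 2898) h24 e0_24
  have h26 : ∀ u < 64481, (fun u => chkE tab 0 u) u = true := ext_range (a := 63418) (len := 1063) h25 e0_25
  exact h26

theorem hE1 : ∀ u < 64481, chkE tab 1 u = true := by
  have h0 : ∀ u < 0, (fun u => chkE tab 1 u) u = true := range_zero
  have h1 : ∀ u < 2021, (fun u => chkE tab 1 u) u = true := ext_range (a := 0) (len := 2021) h0 e1_0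
  have h2 : ∀ u < 4079, (fun u => chkE tab 1 u) u = true := ext_range (a := 2021) (len := 2058) h1 e1_1
  have h3 : ∀ u < 6106, (fun u => chkE tab 1 u) u = true := ext_range (a := 4079) (len := 2027) h2 e1_2
  have h4 : ∀ u < 8164, (fun u => chkE tab 1 u) u = true := ext_range (a := 6106) (len := 2058) h3 e1_3
  have h5 : ∀ u < 10151, (fun u => chkE tab 1 u) u = true := ext_range (a := 8164) (len := 1987) h4 e1_4
  have h6 : ∀ u < 12301, (fun u => chkE tab 1 u) u = true := ext_range (a := 10151) (len := 2150) h5 e1_5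
  have h7 : ∀ u < 14260, (fun u => chkE tab 1 u) u = true := ext_range (a := 12301) (len := 1959) h6 e1_6
  have h8 : ∀ u < 16451, (fun u => chkE tab 1 u) u = true := ext_range (a := 14260) (len := 2191) h7 e1_7
  have h9 : ∀ u < 18509, (fun u => chkE tab 1 u) u = true := ext_range (a := 16451) (len := 2058) h8 e1_8
  have h10 : ∀ u < 20492, (fun u => chkE tab 1 u) u = true := ext_range (a := 18509) (len := 1983) h9 e1_9
  have h11 : ∀ u < 22561, (fun u => chkE tab 1 u) u = true := ext_range (a := 20492) (len := 2069) h10 e1_10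
  have h12 : ∀ u < 24786, (fun u => chkE tab 1 u) u = true := ext_range (a := 22561) (len := 2225) h11 e1_11
  have h13 : ∀ u < 26907, (fun u => chkE tab 1 u) u = true := ext_range (a := 24786) (len := 2121) h12 e1_12
  have h14 : ∀ u < 28881, (fun u => chkE tab 1 u) u = true := ext_range (a := 26907) (len := 1974) h13 e1_13
  have h15 : ∀ u < 30985, (fun u => chkE tab 1 u) u = true := ext_range (a := 28881) (len := 2104) h14 e1_14
  have h16 : ∀ u < 34989, (fun u => chkE tab 1 u) u = true := ext_range (a := 30985) (len := 4004) h15 e1_15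
  have h17 : ∀ u < 41131, (fun u => chkE tab 1 u) u = true := ext_range (a := 34989) (len := 6142) h16 e1_16
  have h18 : ∀ u < 44504, (fun u => chkE tab 1 u) u = true := ext_range (a := 41131) (len := 3373) h17 e1_17
  have h19 : ∀ u < 47526, (fun u => chkE tab 1 u) u = true := ext_range (a := 44504) (len := 3022) h18 e1_18
  have h20 : ∀ u < 49882, (fun u => chkE tab 1 u) u = true := ext_range (a := 47526) (len := 2356) h19 e1_19
  have h21 : ∀ u < 52335, (fun u => chkE tab 1 u) u = true := ext_range (a := 49882) (len := 2453) h20 e1_20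
  have h22 : ∀ u < 54879, (fun u => chkE tab 1 u) u = true := ext_range (a := 52335) (len := 2544) h21 e1_21
  have h23 : ∀ u < 57638, (fun u => chkE tab 1 u) u = true := ext_range (a := 54879) (len := 2759) h22 e1_22
  have h24 : ∀ u < 60543, (fun u => chkE tab 1 u) u = true := ext_range (a := 57638) (len := 2905) h23 e1_23
  have h25 : ∀ u < 63140, (fun u => chkE tab 1 u) u = true := ext_range (a := 60543) (len := 2597) h24 e1_24
  have h26 : ∀ u < 64481, (fun u => chkE tab 1 u) u = true := ext_range (a := 63140) (len := 1341) h25 e1_25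
  exact h26

theorem hE2 : ∀ u < 64481, chkE tab 2 u = true := by
  have h0 : ∀ u < 0, (fun u => chkE tab 2 u) u = true := range_zero
  have h1 : ∀ u < 2057, (fun u => chkE tab 2 u) u = true := ext_range (a := 0) (len := 2057) h0 e2_0
  have h2 : ∀ u < 4114, (fun u => chkE tab 2 u) u = true := ext_range (a := 2057) (len := 2057) h1 e2_1
  have h3 : ∀ u < 6181, (fun u => chkE tab 2 u) u = true := ext_range (a := 4114) (len := 2067) h2 e2_2
  have h4 : ∀ u < 8276, (fun u => chkE tab 2 u) u = true := ext_range (a := 6181) (len := 2095) h3 e2_3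
  have h5 : ∀ u < 10382, (fun u => chkE tab 2 u) u = true := ext_range (a := 8276) (len := 2106) h4 e2_4
  have h6 : ∀ u < 12510, (fun u => chkE tab 2 u) u = true := ext_range (a := 10382) (len := 2128) h5 e2_5
  have h7 : ∀ u < 14624, (fun u => chkE tab 2 u) u = true := ext_range (a := 12510) (len := 2114) h6 e2_6
  have h8 : ∀ u < 16831, (fun u => chkE tab 2 u) u = true := ext_range (a := 14624) (len := 2207) h7 e2_7
  have h9 : ∀ u < 18958, (fun u => chkE tab 2 u) u = true := ext_range (a := 16831) (len := 2127) h8 e2_8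
  have h10 : ∀ u < 21056, (fun u => chkE tab 2 u) u = true := ext_range (a := 18958) (len := 2098) h9 e2_9
  have h11 : ∀ u < 23246, (fun u => chkE tab 2 u) u = true := ext_range (a := 21056) (len := 2190) h10 e2_10
  have h12 : ∀ u < 25452, (fun u => chkE tab 2 u) u = true := ext_range (a := 23246) (len := 2206) h11 e2_11
  have h13 : ∀ u < 27599, (fun u => chkE tab 2 u) u = true := ext_range (a := 25452) (len := 2147) h12 e2_12
  have h14 : ∀ u < 29731, (fun u => chkE tab 2 u) u = true := ext_range (a := 27599) (len := 2132) h13 e2_13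
  have h15 : ∀ u < 31985, (fun u => chkE tab 2 u) u = true := ext_range (a := 29731) (len := 2254) h14 e2_14
  have h16 : ∀ u < 37384, (fun u => chkE tab 2 u) u = true := ext_range (a := 31985) (len := 5399) h15 e2_15
  have h17 : ∀ u < 42370, (fun u => chkE tab 2 u) u = true := ext_range (a := 37384) (len := 4986) h16 e2_16
  have h18 : ∀ u < 45811, (fun u => chkE tab 2 u) u = true := ext_range (a := 42370) (len := 3441) h17 e2_17
  have h19 : ∀ u < 48400, (fun u => chkE tab 2 u) u = true := ext_range (a := 45811) (len := 2589) h18 e2_18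
  have h20 : ∀ u < 50699, (fun u => chkE tab 2 u) u = true := ext_range (a := 48400) (len := 2299) h19 e2_19
  have h21 : ∀ u < 53209, (fun u => chkE tab 2 u) u = true := ext_range (a := 50699) (len := 2510) h20 e2_20
  have h22 : ∀ u < 55893, (fun u => chkE tab 2 u) u = true := ext_range (a := 53209) (len := 2684) h21 e2_21
  have h23 : ∀ u < 59021, (fun u => chkE tab 2 u) u = true := ext_range (a := 55893) (len := 3128) h22 e2_22
  have h24 : ∀ u < 61491, (fun u => chkE tab 2 u) u = true := ext_range (a := 59021) (len := 2470) h23 e2_23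
  have h25 : ∀ u < 64267, (fun u => chkE tab 2 u) u = true := ext_range (a := 61491) (len := 2776) h24 e2_24
  have h26 : ∀ u < 64481, (fun u => chkE tab 2 u) u = true := ext_range (a := 64267) (len := 214) h25 e2_25
  exact h26

theorem hE3 : ∀ u < 64481, chkE tab 3 u = true := by
  have h0 : ∀ u < 0, (fun u => chkE tab 3 u) u = true := range_zero
  have h1 : ∀ u < 2140, (fun u => chkE tab 3 u) u = true := ext_range (a := 0) (len := 2140) h0 e3_0
  have h2 : ∀ u < 4289, (fun u => chkE tab 3 u) u = true := ext_range (a := 2140) (len := 2149) h1 e3_1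
  have h3 : ∀ u < 6483, (fun u => chkE tab 3 u) u = true := ext_range (a := 4289) (len := 2194) h2 e3_2
  have h4 : ∀ u < 8704, (fun u => chkE tab 3 u) u = true := ext_range (a := 6483) (len := 2221) h3 e3_3
  have h5 : ∀ u < 10936, (fun u => chkE tab 3 u) u = true := ext_range (a := 8704) (len := 2232) h4 e3_4
  have h6 : ∀ u < 13199, (fun u => chkE tab 3 u) u = true := ext_range (a := 10936) (len := 2263) h5 e3_5
  have h7 : ∀ u < 15492, (fun u => chkE tab 3 u) u = true := ext_range (a := 13199) (len := 2293) h6 e3_6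
  have h8 : ∀ u < 17792, (fun u => chkE tab 3 u) u = true := ext_range (a := 15492) (len := 2300) h7 e3_7
  have h9 : ∀ u < 20045, (fun u => chkE tab 3 u) u = true := ext_range (a := 17792) (len := 2253) h8 e3_8
  have h10 : ∀ u < 22415, (fun u => chkE tab 3 u) u = true := ext_range (a := 20045) (len := 2370) h9 e3_9
  have h11 : ∀ u < 24730, (fun u => chkE tab 3 u) u = true := ext_range (a := 22415) (len := 2315) h10 e3_10
  have h12 : ∀ u < 27059, (fun u => chkE tab 3 u) u = true := ext_range (a := 24730) (len := 2329) h11 e3_11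
  have h13 : ∀ u < 29407, (fun u => chkE tab 3 u) u = true := ext_range (a := 27059) (len := 2348) h12 e3_12
  have h14 : ∀ u < 31862, (fun u => chkE tab 3 u) u = true := ext_range (a := 29407) (len := 2455) h13 e3_13
  have h15 : ∀ u < 36656, (fun u => chkE tab 3 u) u = true := ext_range (a := 31862) (len := 4794) h14 e3_14
  have h16 : ∀ u < 42068, (fun u => chkE tab 3 u) u = true := ext_range (a := 36656) (len := 5412) h15 e3_15
  have h17 : ∀ u < 45800, (fun u => chkE tab 3 u) u = true := ext_range (a := 42068) (len := 3732) h16 e3_16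
  have h18 : ∀ u < 48529, (fun u => chkE tab 3 u) u = true := ext_range (a := 45800) (len := 2729) h17 e3_17
  have h19 : ∀ u < 51048, (fun u => chkE tab 3 u) u = true := ext_range (a := 48529) (len := 2519) h18 e3_18
  have h20 : ∀ u < 53878, (fun u => chkE tab 3 u) u = true := ext_range (a := 51048) (len := 2830) h19 e3_19
  have h21 : ∀ u < 57050, (fun u => chkE tab 3 u) u = true := ext_range (a := 53878) (len := 3172) h20 e3_20
  have h22 : ∀ u < 59530, (fun u => chkE tab 3 u) u = true := ext_range (a := 57050) (len := 2480) h21 e3_21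
  have h23 : ∀ u < 62343, (fun u => chkE tab 3 u) u = true := ext_range (a := 59530) (len := 2813) h22 e3_22
  have h24 : ∀ u < 64481, (fun u => chkE tab 3 u) u = true := ext_range (a := 62343) (len := 2138) h23 e3_23
  exact h24

theorem hE4 : ∀ u < 64481, chkE tab 4 u = true := by
  have h0 : ∀ u < 0, (fun u => chkE tab 4 u) u = true := range_zero
  have h1 : ∀ u < 2315, (fun u => chkE tab 4 u) u = true := ext_range (a := 0) (len := 2315) h0 e4_0
  have h2 : ∀ u < 4443, (fun u => chkE tab 4 u) u = true := ext_range (a := 2315) (len := 2128) h1 e4_1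
  have h3 : ∀ u < 6622, (fun u => chkE tab 4 u) u = true := ext_range (a := 4443) (len := 2179) h2 e4_2
  have h4 : ∀ u < 8768, (fun u => chkE tab 4 u) u = true := ext_range (a := 6622) (len := 2146) h3 e4_3
  have h5 : ∀ u < 10978, (fun u => chkE tab 4 u) u = true := ext_range (a := 8768) (len := 2210) h4 e4_4
  have h6 : ∀ u < 13188, (fun u => chkE tab 4 u) u = true := ext_range (a := 10978) (len := 2210) h5 e4_5
  have h7 : ∀ u < 15460, (fun u => chkE tab 4 u) u = true := ext_range (a := 13188) (len := 2272) h6 e4_6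
  have h8 : ∀ u < 17674, (fun u => chkE tab 4 u) u = true := ext_range (a := 15460) (len := 2214) h7 e4_7
  have h9 : ∀ u < 19983, (fun u => chkE tab 4 u) u = true := ext_range (a := 17674) (len := 2309) h8 e4_8
  have h10 : ∀ u < 22321, (fun u => chkE tab 4 u) u = true := ext_range (a := 19983) (len := 2338) h9 e4_9
  have h11 : ∀ u < 24612, (fun u => chkE tab 4 u) u = true := ext_range (a := 22321) (len := 2291) h10 e4_10
  have h12 : ∀ u < 26893, (fun u => chkE tab 4 u) u = true := ext_range (a := 24612) (len := 2281) h11 e4_11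
  have h13 : ∀ u < 29203, (fun u => chkE tab 4 u) u = true := ext_range (a := 26893) (len := 2310) h12 e4_12
  have h14 : ∀ u < 31598, (fun u => chkE tab 4 u) u = true := ext_range (a := 29203) (len := 2395) h13 e4_13
  have h15 : ∀ u < 36325, (fun u => chkE tab 4 u) u = true := ext_range (a := 31598) (len := 4727) h14 e4_14
  have h16 : ∀ u < 41767, (fun u => chkE tab 4 u) u = true := ext_range (a := 36325) (len := 5442) h15 e4_15
  have h17 : ∀ u < 45336, (fun u => chkE tab 4 u) u = true := ext_range (a := 41767) (len := 3569) h16 e4_16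
  have h18 : ∀ u < 48206, (fun u => chkE tab 4 u) u = true := ext_range (a := 45336) (len := 2870) h17 e4_17
  have h19 : ∀ u < 50672, (fun u => chkE tab 4 u) u = true := ext_range (a := 48206) (len := 2466) h18 e4_18
  have h20 : ∀ u < 53370, (fun u => chkE tab 4 u) u = true := ext_range (a := 50672) (len := 2698) h19 e4_19
  have h21 : ∀ u < 56155, (fun u => chkE tab 4 u) u = true := ext_range (a := 53370) (len := 2785) h20 e4_20
  have h22 : ∀ u < 59557, (fun u => chkE tab 4 u) u = true := ext_range (a := 56155) (len := 3402) h21 e4_21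
  have h23 : ∀ u < 62986, (fun u => chkE tab 4 u) u = true := ext_range (a := 59557) (len := 3429) h22 e4_22
  have h24 : ∀ u < 64481, (fun u => chkE tab 4 u) u = true := ext_range (a := 62986) (len := 1495) h23 e4_23
  exact h24

theorem hE5 : ∀ u < 64481, chkE tab 5 u = true := by
  have h0 : ∀ u < 0, (fun u => chkE tab 5 u) u = true := range_zero
  have h1 : ∀ u < 2300, (fun u => chkE tab 5 u) u = true := ext_range (a := 0) (len := 2300) h0 e5_0
  have h2 : ∀ u < 4602, (fun u => chkE tab 5 u) u = true := ext_range (a := 2300) (len := 2302) h1 e5_1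
  have h3 : ∀ u < 6864, (fun u => chkE tab 5 u) u = true := ext_range (a := 4602) (len := 2262) h2 e5_2
  have h4 : ∀ u < 8999, (fun u => chkE tab 5 u) u = true := ext_range (a := 6864) (len := 2135) h3 e5_3
  have h5 : ∀ u < 11154, (fun u => chkE tab 5 u) u = true := ext_range (a := 8999) (len := 2155) h4 e5_4
  have h6 : ∀ u < 13302, (fun u => chkE tab 5 u) u = true := ext_range (a := 11154) (len := 2148) h5 e5_5
  have h7 : ∀ u < 15474, (fun u => chkE tab 5 u) u = true := ext_range (a := 13302) (len := 2172) h6 e5_6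
  have h8 : ∀ u < 17617, (fun u => chkE tab 5 u) u = true := ext_range (a := 15474) (len := 2143) h7 e5_7
  have h9 : ∀ u < 19739, (fun u => chkE tab 5 u) u = true := ext_range (a := 17617) (len := 2122) h8 e5_8
  have h10 : ∀ u < 21932, (fun u => chkE tab 5 u) u = true := ext_range (a := 19739) (len := 2193) h9 e5_9
  have h11 : ∀ u < 24036, (fun u => chkE tab 5 u) u = true := ext_range (a := 21932) (len := 2104) h10 e5_10
  have h12 : ∀ u < 26181, (fun u => chkE tab 5 u) u = true := ext_range (a := 24036) (len := 2145) h11 e5_11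
  have h13 : ∀ u < 28348, (fun u => chkE tab 5 u) u = true := ext_range (a := 26181) (len := 2167) h12 e5_12
  have h14 : ∀ u < 30622, (fun u => chkE tab 5 u) u = true := ext_range (a := 28348) (len := 2274) h13 e5_13
  have h15 : ∀ u < 33715, (fun u => chkE tab 5 u) u = true := ext_range (a := 30622) (len := 3093) h14 e5_14
  have h16 : ∀ u < 38815, (fun u => chkE tab 5 u) u = true := ext_range (a := 33715) (len := 5100) h15 e5_15
  have h17 : ∀ u < 43078, (fun u => chkE tab 5 u) u = true := ext_range (a := 38815) (len := 4263) h16 e5_16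
  have h18 : ∀ u < 46747, (fun u => chkE tab 5 u) u = true := ext_range (a := 43078) (len := 3669) h17 e5_17
  have h19 : ∀ u < 49143, (fun u => chkE tab 5 u) u = true := ext_range (a := 46747) (len := 2396) h18 e5_18
  have h20 : ∀ u < 51651, (fun u => chkE tab 5 u) u = true := ext_range (a := 49143) (len := 2508) h19 e5_19
  have h21 : ∀ u < 54072, (fun u => chkE tab 5 u) u = true := ext_range (a := 51651) (len := 2421) h20 e5_20
  have h22 : ∀ u < 56447, (fun u => chkE tab 5 u) u = true := ext_range (a := 54072) (len := 2375) h21 e5_21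
  have h23 : ∀ u < 58953, (fun u => chkE tab 5 u) u = true := ext_range (a := 56447) (len := 2506) h22 e5_22
  have h24 : ∀ u < 61671, (fun u => chkE tab 5 u) u = true := ext_range (a := 58953) (len := 2718) h23 e5_23
  have h25 : ∀ u < 64481, (fun u => chkE tab 5 u) u = true := ext_range (a := 61671) (len := 2810) h24 e5_24
  exact h25

theorem hE6 : ∀ u < 64481, chkE tab 6 u = true := by
  have h0 : ∀ u < 0, (fun u => chkE tab 6 u) u = true := range_zero
  have h1 : ∀ u < 2107, (fun u => chkE tab 6 u) u = true := ext_range (a := 0) (len := 2107) h0 e6_0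
  have h2 : ∀ u < 4372, (fun u => chkE tab 6 u) u = true := ext_range (a := 2107) (len := 2265) h1 e6_1
  have h3 : ∀ u < 6611, (fun u => chkE tab 6 u) u = true := ext_range (a := 4372) (len := 2239) h2 e6_2
  have h4 : ∀ u < 8806, (fun u => chkE tab 6 u) u = true := ext_range (a := 6611) (len := 2195) h3 e6_3
  have h5 : ∀ u < 10997, (fun u => chkE tab 6 u) u = true := ext_range (a := 8806) (len := 2191) h4 e6_4
  have h6 : ∀ u < 13158, (fun u => chkE tab 6 u) u = true := ext_range (a := 10997) (len := 2161) h5 e6_5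
  have h7 : ∀ u < 15297, (fun u => chkE tab 6 u) u = true := ext_range (a := 13158) (len := 2139) h6 e6_6
  have h8 : ∀ u < 17506, (fun u => chkE tab 6 u) u = true := ext_range (a := 15297) (len := 2209) h7 e6_7
  have h9 : ∀ u < 19584, (fun u => chkE tab 6 u) u = true := ext_range (a := 17506) (len := 2078) h8 e6_8
  have h10 : ∀ u < 21776, (fun u => chkE tab 6 u) u = true := ext_range (a := 19584) (len := 2192) h9 e6_9
  have h11 : ∀ u < 23892, (fun u => chkE tab 6 u) u = true := ext_range (a := 21776) (len := 2116) h10 e6_10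
  have h12 : ∀ u < 26063, (fun u => chkE tab 6 u) u = true := ext_range (a := 23892) (len := 2171) h11 e6_11
  have h13 : ∀ u < 28192, (fun u => chkE tab 6 u) u = true := ext_range (a := 26063) (len := 2129) h12 e6_12
  have h14 : ∀ u < 30446, (fun u => chkE tab 6 u) u = true := ext_range (a := 28192) (len := 2254) h13 e6_13
  have h15 : ∀ u < 33180, (fun u => chkE tab 6 u) u = true := ext_range (a := 30446) (len := 2734) h14 e6_14
  have h16 : ∀ u < 38707, (fun u => chkE tab 6 u) u = true := ext_range (a := 33180) (len := 5527) h15 e6_15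
  have h17 : ∀ u < 43038, (fun u => chkE tab 6 u) u = true := ext_range (a := 38707) (len := 4331) h16 e6_16
  have h18 : ∀ u < 46734, (fun u => chkE tab 6 u) u = true := ext_range (a := 43038) (len := 3696) h17 e6_17
  have h19 : ∀ u < 49123, (fun u => chkE tab 6 u) u = true := ext_range (a := 46734) (len := 2389) h18 e6_18
  have h20 : ∀ u < 51585, (fun u => chkE tab 6 u) u = true := ext_range (a := 49123) (len := 2462) h19 e6_19
  have h21 : ∀ u < 54043, (fun u => chkE tab 6 u) u = true := ext_range (a := 51585) (len := 2458) h20 e6_20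
  have h22 : ∀ u < 56561, (fun u => chkE tab 6 u) u = true := ext_range (a := 54043) (len := 2518) h21 e6_21
  have h23 : ∀ u < 59034, (fun u => chkE tab 6 u) u = true := ext_range (a := 56561) (len := 2473) h22 e6_22
  have h24 : ∀ u < 61554, (fun u => chkE tab 6 u) u = true := ext_range (a := 59034) (len := 2520) h23 e6_23
  have h25 : ∀ u < 64308, (fun u => chkE tab 6 u) u = true := ext_range (a := 61554) (len := 2754) h24 e6_24
  have h26 : ∀ u < 64481, (fun u => chkE tab 6 u) u = true := ext_range (a := 64308) (len := 173) h25 e6_25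
  exact h26

theorem hE7 : ∀ u < 64481, chkE tab 7 u = true := by
  have h0 : ∀ u < 0, (fun u => chkE tab 7 u) u = true := range_zero
  have h1 : ∀ u < 1907, (fun u => chkE tab 7 u) u = true := ext_range (a := 0) (len := 1907) h0 e7_0
  have h2 : ∀ u < 4033, (fun u => chkE tab 7 u) u = true := ext_range (a := 1907) (len := 2126) h1 e7_1
  have h3 : ∀ u < 6242, (fun u => chkE tab 7 u) u = true := ext_range (a := 4033) (len := 2209) h2 e7_2
  have h4 : ∀ u < 8433, (fun u => chkE tab 7 u) u = true := ext_range (a := 6242) (len := 2191) h3 e7_3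
  have h5 : ∀ u < 10571, (fun u => chkE tab 7 u) u = true := ext_range (a := 8433) (len := 2138) h4 e7_4
  have h6 : ∀ u < 12788, (fun u => chkE tab 7 u) u = true := ext_range (a := 10571) (len := 2217) h5 e7_5
  have h7 : ∀ u < 14946, (fun u => chkE tab 7 u) u = true := ext_range (a := 12788) (len := 2158) h6 e7_6
  have h8 : ∀ u < 17148, (fun u => chkE tab 7 u) u = true := ext_range (a := 14946) (len := 2202) h7 e7_7
  have h9 : ∀ u < 19284, (fun u => chkE tab 7 u) u = true := ext_range (a := 17148) (len := 2136) h8 e7_8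
  have h10 : ∀ u < 21448, (fun u => chkE tab 7 u) u = true := ext_range (a := 19284) (len := 2164) h9 e7_9
  have h11 : ∀ u < 23588, (fun u => chkE tab 7 u) u = true := ext_range (a := 21448) (len := 2140) h10 e7_10
  have h12 : ∀ u < 25777, (fun u => chkE tab 7 u) u = true := ext_range (a := 23588) (len := 2189) h11 e7_11
  have h13 : ∀ u < 27860, (fun u => chkE tab 7 u) u = true := ext_range (a := 25777) (len := 2083) h12 e7_12
  have h14 : ∀ u < 29973, (fun u => chkE tab 7 u) u = true := ext_range (a := 27860) (len := 2113) h13 e7_13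
  have h15 : ∀ u < 32309, (fun u => chkE tab 7 u) u = true := ext_range (a := 29973) (len := 2336) h14 e7_14
  have h16 : ∀ u < 37929, (fun u => chkE tab 7 u) u = true := ext_range (a := 32309) (len := 5620) h15 e7_15
  have h17 : ∀ u < 42602, (fun u => chkE tab 7 u) u = true := ext_range (a := 37929) (len := 4673) h16 e7_16
  have h18 : ∀ u < 45828, (fun u => chkE tab 7 u) u = true := ext_range (a := 42602) (len := 3226) h17 e7_17
  have h19 : ∀ u < 48445, (fun u => chkE tab 7 u) u = true := ext_range (a := 45828) (len := 2617) h18 e7_18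
  have h20 : ∀ u < 50813, (fun u => chkE tab 7 u) u = true := ext_range (a := 48445) (len := 2368) h19 e7_19
  have h21 : ∀ u < 53412, (fun u => chkE tab 7 u) u = true := ext_range (a := 50813) (len := 2599) h20 e7_20
  have h22 : ∀ u < 55895, (fun u => chkE tab 7 u) u = true := ext_range (a := 53412) (len := 2483) h21 e7_21
  have h23 : ∀ u < 58407, (fun u => chkE tab 7 u) u = true := ext_range (a := 55895) (len := 2512) h22 e7_22
  have h24 : ∀ u < 60916, (fun u => chkE tab 7 u) u = true := ext_range (a := 58407) (len := 2509) h23 e7_23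
  have h25 : ∀ u < 63574, (fun u => chkE tab 7 u) u = true := ext_range (a := 60916) (len := 2658) h24 e7_24
  have h26 : ∀ u < 64481, (fun u => chkE tab 7 u) u = true := ext_range (a := 63574) (len := 907) h25 e7_25
  exact h26

theorem hE8 : ∀ u < 64481, chkE tab 8 u = true := by
  have h0 : ∀ u < 0, (fun u => chkE tab 8 u) u = true := range_zero
  have h1 : ∀ u < 2400, (fun u => chkE tab 8 u) u = true := ext_range (a := 0) (len := 2400) h0 e8_0
  have h2 : ∀ u < 5128, (fun u => chkE tab 8 u) u = true := ext_range (a := 2400) (len := 2728) h1 e8_1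
  have h3 : ∀ u < 7977, (fun u => chkE tab 8 u) u = true := ext_range (a := 5128) (len := 2849) h2 e8_2
  have h4 : ∀ u < 10914, (fun u => chkE tab 8 u) u = true := ext_range (a := 7977) (len := 2937) h3 e8_3
  have h5 : ∀ u < 13566, (fun u => chkE tab 8 u) u = true := ext_range (a := 10914) (len := 2652) h4 e8_4
  have h6 : ∀ u < 16516, (fun u => chkE tab 8 u) u = true := ext_range (a := 13566) (len := 2950) h5 e8_5
  have h7 : ∀ u < 19156, (fun u => chkE tab 8 u) u = true := ext_range (a := 16516) (len := 2640) h6 e8_6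
  have h8 : ∀ u < 22134, (fun u => chkE tab 8 u) u = true := ext_range (a := 19156) (len := 2978) h7 e8_7
  have h9 : ∀ u < 24847, (fun u => chkE tab 8 u) u = true := ext_range (a := 22134) (len := 2713) h8 e8_8
  have h10 : ∀ u < 27480, (fun u => chkE tab 8 u) u = true := ext_range (a := 24847) (len := 2633) h9 e8_9
  have h11 : ∀ u < 30281, (fun u => chkE tab 8 u) u = true := ext_range (a := 27480) (len := 2801) h10 e8_10
  have h12 : ∀ u < 33953, (fun u => chkE tab 8 u) u = true := ext_range (a := 30281) (len := 3672) h11 e8_11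
  have h13 : ∀ u < 38984, (fun u => chkE tab 8 u) u = true := ext_range (a := 33953) (len := 5031) h12 e8_12
  have h14 : ∀ u < 43194, (fun u => chkE tab 8 u) u = true := ext_range (a := 38984) (len := 4210) h13 e8_13
  have h15 : ∀ u < 47372, (fun u => chkE tab 8 u) u = true := ext_range (a := 43194) (len := 4178) h14 e8_14
  have h16 : ∀ u < 50722, (fun u => chkE tab 8 u) u = true := ext_range (a := 47372) (len := 3350) h15 e8_15
  have h17 : ∀ u < 54324, (fun u => chkE tab 8 u) u = true := ext_range (a := 50722) (len := 3602) h16 e8_16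
  have h18 : ∀ u < 57100, (fun u => chkE tab 8 u) u = true := ext_range (a := 54324) (len := 2776) h17 e8_17
  have h19 : ∀ u < 59387, (fun u => chkE tab 8 u) u = true := ext_range (a := 57100) (len := 2287) h18 e8_18
  have h20 : ∀ u < 61946, (fun u => chkE tab 8 u) u = true := ext_range (a := 59387) (len := 2559) h19 e8_19
  have h21 : ∀ u < 64481, (fun u => chkE tab 8 u) u = true := ext_range (a := 61946) (len := 2535) h20 e8_20
  exact h21

theorem hE9 : ∀ u < 64481, chkE tab 9 u = true := by
  have h0 : ∀ u < 0, (fun u => chkE tab 9 u) u = true := range_zero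
  have h1 : ∀ u < 2193, (fun u => chkE tab 9 u) u = true := ext_range (a := 0) (len := 2193) h0 e9_0
  have h2 : ∀ u < 4729, (fun u => chkE tab 9 u) u = true := ext_range (a := 2193) (len := 2536) h1 e9_1
  have h3 : ∀ u < 7690, (fun u => chkE tab 9 u) u = true := ext_range (a := 4729) (len := 2961) h2 e9_2
  have h4 : ∀ u < 10839, (fun u => chkE tab 9 u) u = true := ext_range (a := 7690) (len := 3149) h3 e9_3
  have h5 : ∀ u < 14152, (fun u => chkE tab 9 u) u = true := ext_range (a := 10839) (len := 3313) h4 e9_4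
  have h6 : ∀ u < 17510, (fun u => chkE tab 9 u) u = true := ext_range (a := 14152) (len := 3358) h5 e9_5
  have h7 : ∀ u < 21002, (fun u => chkE tab 9 u) u = true := ext_range (a := 17510) (len := 3492) h6 e9_6
  have h8 : ∀ u < 24596, (fun u => chkE tab 9 u) u = true := ext_range (a := 21002) (len := 3594) h7 e9_7
  have h9 : ∀ u < 28040, (fun u => chkE tab 9 u) u = true := ext_range (a := 24596) (len := 3444) h8 e9_8
  have h10 : ∀ u < 31889, (fun u => chkE tab 9 u) u = true := ext_range (a := 28040) (len := 3849) h9 e9_9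
  have h11 : ∀ u < 36738, (fun u => chkE tab 9 u) u = true := ext_range (a := 31889) (len := 4849) h10 e9_10
  have h12 : ∀ u < 42164, (fun u => chkE tab 9 u) u = true := ext_range (a := 36738) (len := 5426) h11 e9_11
  have h13 : ∀ u < 47431, (fun u => chkE tab 9 u) u = true := ext_range (a := 42164) (len := 5267) h12 e9_12
  have h14 : ∀ u < 50693, (fun u => chkE tab 9 u) u = true := ext_range (a := 47431) (len := 3262) h13 e9_13
  have h15 : ∀ u < 53360, (fun u => chkE tab 9 u) u = true := ext_range (a := 50693) (len := 2667) h14 e9_14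
  have h16 : ∀ u < 55905, (fun u => chkE tab 9 u) u = true := ext_range (a := 53360) (len := 2545) h15 e9_15
  have h17 : ∀ u < 58249, (fun u => chkE tab 9 u) u = true := ext_range (a := 55905) (len := 2344) h16 e9_16
  have h18 : ∀ u < 60714, (fun u => chkE tab 9 u) u = true := ext_range (a := 58249) (len := 2465) h17 e9_17
  have h19 : ∀ u < 63571, (fun u => chkE tab 9 u) u = true := ext_range (a := 60714) (len := 2857) h18 e9_18
  have h20 : ∀ u < 64481, (fun u => chkE tab 9 u) u = true := ext_range (a := 63571) (len := 910) h19 e9_19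
  exact h20

theorem hL : ∀ u < 64481, chkL tab u = true := by
  have h0 : ∀ u < 0, (fun u => chkL tab u) u = true := range_zero
  have h1 : ∀ u < 5676, (fun u => chkL tab u) u = true := ext_range (a := 0) (len := 5676) h0 l_0
  have h2 : ∀ u < 8366, (fun u => chkL tab u) u = true := ext_range (a := 5676) (len := 2690) h1 l_1
  have h3 : ∀ u < 11066, (fun u => chkL tab u) u = true := ext_range (a := 8366) (len := 2700) h2 l_2
  have h4 : ∀ u < 12808, (fun u => chkL tab u) u = true := ext_range (a := 11066) (len := 1742) h3 l_3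
  have h5 : ∀ u < 15688, (fun u => chkL tab u) u = true := ext_range (a := 12808) (len := 2880) h4 l_4
  have h6 : ∀ u < 17449, (fun u => chkL tab u) u = true := ext_range (a := 15688) (len := 1761) h5 l_5
  have h7 : ∀ u < 19049, (fun u => chkL tab u) u = true := ext_range (a := 17449) (len := 1600) h6 l_6
  have h8 : ∀ u < 22198, (fun u => chkL tab u) u = true := ext_range (a := 19049) (len := 3149) h7 l_7
  have h9 : ∀ u < 23883, (fun u => chkL tab u) u = true := ext_range (a := 22198) (len := 1685) h8 l_8
  have h10 : ∀ u < 25528, (fun u => chkL tab u) u = true := ext_range (a := 23883) (len := 1645) h9 l_9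
  have h11 : ∀ u < 27128, (fun u => chkL tab u) u = true := ext_range (a := 25528) (len := 1600) h10 l_10
  have h12 : ∀ u < 28942, (fun u => chkL tab u) u = true := ext_range (a := 27128) (len := 1814) h11 l_11
  have h13 : ∀ u < 32021, (fun u => chkL tab u) u = true := ext_range (a := 28942) (len := 3079) h12 l_12
  have h14 : ∀ u < 33754, (fun u => chkL tab u) u = true := ext_range (a := 32021) (len := 1733) h13 l_13
  have h15 : ∀ u < 35432, (fun u => chkL tab u) u = true := ext_range (a := 33754) (len := 1678) h14 l_14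
  have h16 : ∀ u < 37015, (fun u => chkL tab u) u = true := ext_range (a := 35432) (len := 1583) h15 l_15
  have h17 : ∀ u < 38615, (fun u => chkL tab u) u = true := ext_range (a := 37015) (len := 1600) h16 l_16
  have h18 : ∀ u < 40215, (fun u => chkL tab u) u = true := ext_range (a := 38615) (len := 1600) h17 l_17
  have h19 : ∀ u < 41875, (fun u => chkL tab u) u = true := ext_range (a := 40215) (len := 1660) h18 l_18
  have h20 : ∀ u < 44514, (fun u => chkL tab u) u = true := ext_range (a := 41875) (len := 2639) h19 l_19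
  have h21 : ∀ u < 64481, (fun u => chkL tab u) u = true := ext_range (a := 44514) (len := 19967) h20 l_20
  exact h21

theorem hF : ∀ u < 31671, chkFin tab u = true := by
  have h0 : ∀ u < 0, (fun u => chkFin tab u) u = true := range_zero
  have h1 : ∀ u < 250, (fun u => chkFin tab u) u = true := ext_range (a := 0) (len := 250) h0 f_0
  have h2 : ∀ u < 500, (fun u => chkFin tab u) u = true := ext_range (a := 250) (len := 250) h1 f_1
  have h3 : ∀ u < 750, (fun u => chkFin tab u) u = true := ext_range (a := 500) (len := 250) h2 f_2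
  have h4 : ∀ u < 1000, (fun u => chkFin tab u) u = true := ext_range (a := 750) (len := 250) h3 f_3
  have h5 : ∀ u < 1250, (fun u => chkFin tab u) u = true := ext_range (a := 1000) (len := 250) h4 f_4
  have h6 : ∀ u < 1500, (fun u => chkFin tab u) u = true := ext_range (a := 1250) (len := 250) h5 f_5
  have h7 : ∀ u < 1750, (fun u => chkFin tab u) u = true := ext_range (a := 1500) (len := 250) h6 f_6
  have h8 : ∀ u < 2000, (fun u => chkFin tab u) u = true := ext_range (a := 1750) (len := 250) h7 f_7
  have h9 : ∀ u < 2250, (fun u => chkFin tab u) u = true := ext_range (a := 2000) (len := 250) h8 f_8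
  have h10 : ∀ u < 2500, (fun u => chkFin tab u) u = true := ext_range (a := 2250) (len := 250) h9 f_9
  have h11 : ∀ u < 2750, (fun u => chkFin tab u) u = true := ext_range (a := 2500) (len := 250) h10 f_10
  have h12 : ∀ u < 3000, (fun u => chkFin tab u) u = true := ext_range (a := 2750) (len := 250) h11 f_11
  have h13 : ∀ u < 3250, (fun u => chkFin tab u) u = true := ext_range (a := 3000) (len := 250) h12 f_12
  have h14 : ∀ u < 3500, (fun u => chkFin tab u) u = true := ext_range (a := 3250) (len := 250) h13 f_13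
  have h15 : ∀ u < 3750, (fun u => chkFin tab u) u = true := ext_range (a := 3500) (len := 250) h14 f_14
  have h16 : ∀ u < 4000, (fun u => chkFin tab u) u = true := ext_range (a := 3750) (len := 250) h15 f_15
  have h17 : ∀ u < 4250, (fun u => chkFin tab u) u = true := ext_range (a := 4000) (len := 250) h16 f_16
  have h18 : ∀ u < 4500, (fun u => chkFin tab u) u = true := ext_range (a := 4250) (len := 250) h17 f_17
  have h19 : ∀ u < 4750, (fun u => chkFin tab u) u = true := ext_range (a := 4500) (len := 250) h18 f_18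
  have h20 : ∀ u < 5000, (fun u => chkFin tab u) u = true := ext_range (a := 4750) (len := 250) h19 f_19
  have h21 : ∀ u < 5250, (fun u => chkFin tab u) u = true := ext_range (a := 5000) (len := 250) h20 f_20
  have h22 : ∀ u < 5500, (fun u => chkFin tab u) u = true := ext_range (a := 5250) (len := 250) h21 f_21
  have h23 : ∀ u < 5750, (fun u => chkFin tab u) u = true := ext_range (a := 5500) (len := 250) h22 f_22
  have h24 : ∀ u < 6000, (fun u => chkFin tab u) u = true := ext_range (a := 5750) (len := 250) h23 f_23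
  have h25 : ∀ u < 6250, (fun u => chkFin tab u) u = true := ext_range (a := 6000) (len := 250) h24 f_24
  have h26 : ∀ u < 6500, (fun u => chkFin tab u) u = true := ext_range (a := 6250) (len := 250) h25 f_25
  have h27 : ∀ u < 6750, (fun u => chkFin tab u) u = true := ext_range (a := 6500) (len := 250) h26 f_26
  have h28 : ∀ u < 7000, (fun u => chkFin tab u) u = true := ext_range (a := 6750) (len := 250) h27 f_27
  have h29 : ∀ u < 7250, (fun u => chkFin tab u) u = true := ext_range (a := 7000) (len := 250) h28 f_28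
  have h30 : ∀ u < 7500, (fun u => chkFin tab u) u = true := ext_range (a := 7250) (len := 250) h29 f_29
  have h31 : ∀ u < 7750, (fun u => chkFin tab u) u = true := ext_range (a := 7500) (len := 250) h30 f_30
  have h32 : ∀ u < 8000, (fun u => chkFin tab u) u = true := ext_range (a := 7750) (len := 250) h31 f_31
  have h33 : ∀ u < 8250, (fun u => chkFin tab u) u = true := ext_range (a := 8000) (len := 250) h32 f_32
  have h34 : ∀ u < 8500, (fun u => chkFin tab u) u = true := ext_range (a := 8250) (len := 250) h33 f_33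
  have h35 : ∀ u < 8750, (fun u => chkFin tab u) u = true := ext_range (a := 8500) (len := 250) h34 f_34
  have h36 : ∀ u < 9000, (fun u => chkFin tab u) u = true := ext_range (a := 8750) (len := 250) h35 f_35
  have h37 : ∀ u < 9250, (fun u => chkFin tab u) u = true := ext_range (a := 9000) (len := 250) h36 f_36
  have h38 : ∀ u < 9500, (fun u => chkFin tab u) u = true := ext_range (a := 9250) (len := 250) h37 f_37
  have h39 : ∀ u < 9750, (fun u => chkFin tab u) u = true := ext_range (a := 9500) (len := 250) h38 f_38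
  have h40 : ∀ u < 10000, (fun u => chkFin tab u) u = true := ext_range (a := 9750) (len := 250) h39 f_39
  have h41 : ∀ u < 10250, (fun u => chkFin tab u) u = true := ext_range (a := 10000) (len := 250) h40 f_40
  have h42 : ∀ u < 10500, (fun u => chkFin tab u) u = true := ext_range (a := 10250) (len := 250) h41 f_41
  have h43 : ∀ u < 10750, (fun u => chkFin tab u) u = true := ext_range (a := 10500) (len := 250) h42 f_42
  have h44 : ∀ u < 11000, (fun u => chkFin tab u) u = true := ext_range (a := 10750) (len := 250) h43 f_43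
  have h45 : ∀ u < 11250, (fun u => chkFin tab u) u = true := ext_range (a := 11000) (len := 250) h44 f_44
  have h46 : ∀ u < 11500, (fun u => chkFin tab u) u = true := ext_range (a := 11250) (len := 250) h45 f_45
  have h47 : ∀ u < 11750, (fun u => chkFin tab u) u = true := ext_range (a := 11500) (len := 250) h46 f_46
  have h48 : ∀ u < 12000, (fun u => chkFin tab u) u = true := ext_range (a := 11750) (len := 250) h47 f_47
  have h49 : ∀ u < 12250, (fun u => chkFin tab u) u = true := ext_range (a := 12000) (len := 250) h48 f_48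
  have h50 : ∀ u < 12500, (fun u => chkFin tab u) u = true := ext_range (a := 12250) (len := 250) h49 f_49
  have h51 : ∀ u < 12750, (fun u => chkFin tab u) u = true := ext_range (a := 12500) (len := 250) h50 f_50
  have h52 : ∀ u < 13000, (fun u => chkFin tab u) u = true := ext_range (a := 12750) (len := 250) h51 f_51
  have h53 : ∀ u < 13250, (fun u => chkFin tab u) u = true := ext_range (a := 13000) (len := 250) h52 f_52
  have h54 : ∀ u < 13500, (fun u => chkFin tab u) u = true := ext_range (a := 13250) (len := 250) h53 f_53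
  have h55 : ∀ u < 13750, (fun u => chkFin tab u) u = true := ext_range (a := 13500) (len := 250) h54 f_54
  have h56 : ∀ u < 14000, (fun u => chkFin tab u) u = true := ext_range (a := 13750) (len := 250) h55 f_55
  have h57 : ∀ u < 14250, (fun u => chkFin tab u) u = true := ext_range (a := 14000) (len := 250) h56 f_56
  have h58 : ∀ u < 14500, (fun u => chkFin tab u) u = true := ext_range (a := 14250) (len := 250) h57 f_57
  have h59 : ∀ u < 14750, (fun u => chkFin tab u) u = true := ext_range (a := 14500) (len := 250) h58 f_58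
  have h60 : ∀ u < 15000, (fun u => chkFin tab u) u = true := ext_range (a := 14750) (len := 250) h59 f_59
  have h61 : ∀ u < 15250, (fun u => chkFin tab u) u = true := ext_range (a := 15000) (len := 250) h60 f_60
  have h62 : ∀ u < 15500, (fun u => chkFin tab u) u = true := ext_range (a := 15250) (len := 250) h61 f_61
  have h63 : ∀ u < 15750, (fun u => chkFin tab u) u = true := ext_range (a := 15500) (len := 250) h62 f_62
  have h64 : ∀ u < 16000, (fun u => chkFin tab u) u = true := ext_range (a := 15750) (len := 250) h63 f_63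
  have h65 : ∀ u < 16250, (fun u => chkFin tab u) u = true := ext_range (a := 16000) (len := 250) h64 f_64
  have h66 : ∀ u < 16500, (fun u => chkFin tab u) u = true := ext_range (a := 16250) (len := 250) h65 f_65
  have h67 : ∀ u < 16750, (fun u => chkFin tab u) u = true := ext_range (a := 16500) (len := 250) h66 f_66
  have h68 : ∀ u < 17000, (fun u => chkFin tab u) u = true := ext_range (a := 16750) (len := 250) h67 f_67
  have h69 : ∀ u < 17250, (fun u => chkFin tab u) u = true := ext_range (a := 17000) (len := 250) h68 f_68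
  have h70 : ∀ u < 17500, (fun u => chkFin tab u) u = true := ext_range (a := 17250) (len := 250) h69 f_69
  have h71 : ∀ u < 17750, (fun u => chkFin tab u) u = true := ext_range (a := 17500) (len := 250) h70 f_70
  have h72 : ∀ u < 18000, (fun u => chkFin tab u) u = true := ext_range (a := 17750) (len := 250) h71 f_71
  have h73 : ∀ u < 18250, (fun u => chkFin tab u) u = true := ext_range (a := 18000) (len := 250) h72 f_72
  have h74 : ∀ u < 18500, (fun u => chkFin tab u) u = true := ext_range (a := 18250) (len := 250) h73 f_73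
  have h75 : ∀ u < 18750, (fun u => chkFin tab u) u = true := ext_range (a := 18500) (len := 250) h74 f_74
  have h76 : ∀ u < 19000, (fun u => chkFin tab u) u = true := ext_range (a := 18750) (len := 250) h75 f_75
  have h77 : ∀ u < 19250, (fun u => chkFin tab u) u = true := ext_range (a := 19000) (len := 250) h76 f_76
  have h78 : ∀ u < 19500, (fun u => chkFin tab u) u = true := ext_range (a := 19250) (len := 250) h77 f_77
  have h79 : ∀ u < 19750, (fun u => chkFin tab u) u = true := ext_range (a := 19500) (len := 250) h78 f_78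
  have h80 : ∀ u < 20000, (fun u => chkFin tab u) u = true := ext_range (a := 19750) (len := 250) h79 f_79
  have h81 : ∀ u < 20250, (fun u => chkFin tab u) u = true := ext_range (a := 20000) (len := 250) h80 f_80
  have h82 : ∀ u < 20500, (fun u => chkFin tab u) u = true := ext_range (a := 20250) (len := 250) h81 f_81
  have h83 : ∀ u < 20750, (fun u => chkFin tab u) u = true := ext_range (a := 20500) (len := 250) h82 f_82
  have h84 : ∀ u < 21000, (fun u => chkFin tab u) u = true := ext_range (a := 20750) (len := 250) h83 f_83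
  have h85 : ∀ u < 21250, (fun u => chkFin tab u) u = true := ext_range (a := 21000) (len := 250) h84 f_84
  have h86 : ∀ u < 21500, (fun u => chkFin tab u) u = true := ext_range (a := 21250) (len := 250) h85 f_85
  have h87 : ∀ u < 21750, (fun u => chkFin tab u) u = true := ext_range (a := 21500) (len := 250) h86 f_86
  have h88 : ∀ u < 22000, (fun u => chkFin tab u) u = true := ext_range (a := 21750) (len := 250) h87 f_87
  have h89 : ∀ u < 22250, (fun u => chkFin tab u) u = true := ext_range (a := 22000) (len := 250) h88 f_88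
  have h90 : ∀ u < 22500, (fun u => chkFin tab u) u = true := ext_range (a := 22250) (len := 250) h89 f_89
  have h91 : ∀ u < 22750, (fun u => chkFin tab u) u = true := ext_range (a := 22500) (len := 250) h90 f_90
  have h92 : ∀ u < 23000, (fun u => chkFin tab u) u = true := ext_range (a := 22750) (len := 250) h91 f_91
  have h93 : ∀ u < 23250, (fun u => chkFin tab u) u = true := ext_range (a := 23000) (len := 250) h92 f_92
  have h94 : ∀ u < 23500, (fun u => chkFin tab u) u = true := ext_range (a := 23250) (len := 250) h93 f_93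
  have h95 : ∀ u < 23750, (fun u => chkFin tab u) u = true := ext_range (a := 23500) (len := 250) h94 f_94
  have h96 : ∀ u < 24000, (fun u => chkFin tab u) u = true := ext_range (a := 23750) (len := 250) h95 f_95
  have h97 : ∀ u < 24250, (fun u => chkFin tab u) u = true := ext_range (a := 24000) (len := 250) h96 f_96
  have h98 : ∀ u < 24500, (fun u => chkFin tab u) u = true := ext_range (a := 24250) (len := 250) h97 f_97
  have h99 : ∀ u < 24750, (fun u => chkFin tab u) u = true := ext_range (a := 24500) (len := 250) h98 f_98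
  have h100 : ∀ u < 25000, (fun u => chkFin tab u) u = true := ext_range (a := 24750) (len := 250) h99 f_99
  have h101 : ∀ u < 25250, (fun u => chkFin tab u) u = true := ext_range (a := 25000) (len := 250) h100 f_100
  have h102 : ∀ u < 25500, (fun u => chkFin tab u) u = true := ext_range (a := 25250) (len := 250) h101 f_101
  have h103 : ∀ u < 25750, (fun u => chkFin tab u) u = true := ext_range (a := 25500) (len := 250) h102 f_102
  have h104 : ∀ u < 26000, (fun u => chkFin tab u) u = true := ext_range (a := 25750) (len := 250) h103 f_103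
  have h105 : ∀ u < 26250, (fun u => chkFin tab u) u = true := ext_range (a := 26000) (len := 250) h104 f_104
  have h106 : ∀ u < 26500, (fun u => chkFin tab u) u = true := ext_range (a := 26250) (len := 250) h105 f_105
  have h107 : ∀ u < 26750, (fun u => chkFin tab u) u = true := ext_range (a := 26500) (len := 250) h106 f_106
  have h108 : ∀ u < 27000, (fun u => chkFin tab u) u = true := ext_range (a := 26750) (len := 250) h107 f_107
  have h109 : ∀ u < 27250, (fun u => chkFin tab u) u = true := ext_range (a := 27000) (len := 250) h108 f_108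
  have h110 : ∀ u < 27500, (fun u => chkFin tab u) u = true := ext_range (a := 27250) (len := 250) h109 f_109
  have h111 : ∀ u < 27750, (fun u => chkFin tab u) u = true := ext_range (a := 27500) (len := 250) h110 f_110
  have h112 : ∀ u < 28000, (fun u => chkFin tab u) u = true := ext_range (a := 27750) (len := 250) h111 f_111
  have h113 : ∀ u < 28250, (fun u => chkFin tab u) u = true := ext_range (a := 28000) (len := 250) h112 f_112
  have h114 : ∀ u < 28500, (fun u => chkFin tab u) u = true := ext_range (a := 28250) (len := 250) h113 f_113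
  have h115 : ∀ u < 28750, (fun u => chkFin tab u) u = true := ext_range (a := 28500) (len := 250) h114 f_114
  have h116 : ∀ u < 29000, (fun u => chkFin tab u) u = true := ext_range (a := 28750) (len := 250) h115 f_115
  have h117 : ∀ u < 29250, (fun u => chkFin tab u) u = true := ext_range (a := 29000) (len := 250) h116 f_116
  have h118 : ∀ u < 29500, (fun u => chkFin tab u) u = true := ext_range (a := 29250) (len := 250) h117 f_117
  have h119 : ∀ u < 29750, (fun u => chkFin tab u) u = true := ext_range (a := 29500) (len := 250) h118 f_118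
  have h120 : ∀ u < 30000, (fun u => chkFin tab u) u = true := ext_range (a := 29750) (len := 250) h119 f_119
  have h121 : ∀ u < 30250, (fun u => chkFin tab u) u = true := ext_range (a := 30000) (len := 250) h120 f_120
  have h122 : ∀ u < 30500, (fun u => chkFin tab u) u = true := ext_range (a := 30250) (len := 250) h121 f_121
  have h123 : ∀ u < 30750, (fun u => chkFin tab u) u = true := ext_range (a := 30500) (len := 250) h122 f_122
  have h124 : ∀ u < 31000, (fun u => chkFin tab u) u = true := ext_range (a := 30750) (len := 250) h123 f_123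
  have h125 : ∀ u < 31250, (fun u => chkFin tab u) u = true := ext_range (a := 31000) (len := 250) h124 f_124
  have h126 : ∀ u < 31500, (fun u => chkFin tab u) u = true := ext_range (a := 31250) (len := 250) h125 f_125
  have h127 : ∀ u < 31671, (fun u => chkFin tab u) u = true := ext_range (a := 31500) (len := 171) h126 f_126
  exact h127

theorem hC : ∀ u < 64481, chkCls tab u = true := by
  have h0 : ∀ u < 0, (fun u => chkCls tab u) u = true := range_zero
  have h1 : ∀ u < 2667, (fun u => chkCls tab u) u = true := ext_range (a := 0) (len := 2667) h0 c_0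
  have h2 : ∀ u < 5334, (fun u => chkCls tab u) u = true := ext_range (a := 2667) (len := 2667) h1 c_1
  have h3 : ∀ u < 8001, (fun u => chkCls tab u) u = true := ext_range (a := 5334) (len := 2667) h2 c_2
  have h4 : ∀ u < 10668, (fun u => chkCls tab u) u = true := ext_range (a := 8001) (len := 2667) h3 c_3
  have h5 : ∀ u < 13335, (fun u => chkCls tab u) u = true := ext_range (a := 10668) (len := 2667) h4 c_4
  have h6 : ∀ u < 16002, (fun u => chkCls tab u) u = true := ext_range (a := 13335) (len := 2667) h5 c_5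
  have h7 : ∀ u < 18669, (fun u => chkCls tab u) u = true := ext_range (a := 16002) (len := 2667) h6 c_6
  have h8 : ∀ u < 21336, (fun u => chkCls tab u) u = true := ext_range (a := 18669) (len := 2667) h7 c_7
  have h9 : ∀ u < 24003, (fun u => chkCls tab u) u = true := ext_range (a := 21336) (len := 2667) h8 c_8
  have h10 : ∀ u < 26670, (fun u => chkCls tab u) u = true := ext_range (a := 24003) (len := 2667) h9 c_9
  have h11 : ∀ u < 29337, (fun u => chkCls tab u) u = true := ext_range (a := 26670) (len := 2667) h10 c_10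
  have h12 : ∀ u < 32004, (fun u => chkCls tab u) u = true := ext_range (a := 29337) (len := 2667) h11 c_11
  have h13 : ∀ u < 34671, (fun u => chkCls tab u) u = true := ext_range (a := 32004) (len := 2667) h12 c_12
  have h14 : ∀ u < 37338, (fun u => chkCls tab u) u = true := ext_range (a := 34671) (len := 2667) h13 c_13
  have h15 : ∀ u < 40005, (fun u => chkCls tab u) u = true := ext_range (a := 37338) (len := 2667) h14 c_14
  have h16 : ∀ u < 42672, (fun u => chkCls tab u) u = true := ext_range (a := 40005) (len := 2667) h15 c_15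
  have h17 : ∀ u < 45339, (fun u => chkCls tab u) u = true := ext_range (a := 42672) (len := 2667) h16 c_16
  have h18 : ∀ u < 48006, (fun u => chkCls tab u) u = true := ext_range (a := 45339) (len := 2667) h17 c_17
  have h19 : ∀ u < 50673, (fun u => chkCls tab u) u = true := ext_range (a := 48006) (len := 2667) h18 c_18
  have h20 : ∀ u < 53340, (fun u => chkCls tab u) u = true := ext_range (a := 50673) (len := 2667) h19 c_19
  have h21 : ∀ u < 56007, (fun u => chkCls tab u) u = true := ext_range (a := 53340) (len := 2667) h20 c_20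
  have h22 : ∀ u < 58674, (fun u => chkCls tab u) u = true := ext_range (a := 56007) (len := 2667) h21 c_21
  have h23 : ∀ u < 61341, (fun u => chkCls tab u) u = true := ext_range (a := 58674) (len := 2667) h22 c_22
  have h24 : ∀ u < 64008, (fun u => chkCls tab u) u = true := ext_range (a := 61341) (len := 2667) h23 c_23
  have h25 : ∀ u < 64481, (fun u => chkCls tab u) u = true := ext_range (a := 64008) (len := 473) h24 c_24
  exact h25

theorem hM1 : ∀ u < 31671, chkM1 tab u = true := by
  have h0 : ∀ u < 0, (fun u => chkM1 tab u) u = true := range_zero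
  have h1 : ∀ u < 640, (fun u => chkM1 tab u) u = true := ext_range (a := 0) (len := 640) h0 m1_0
  have h2 : ∀ u < 1280, (fun u => chkM1 tab u) u = true := ext_range (a := 640) (len := 640) h1 m1_1
  have h3 : ∀ u < 1920, (fun u => chkM1 tab u) u = true := ext_range (a := 1280) (len := 640) h2 m1_2
  have h4 : ∀ u < 2560, (fun u => chkM1 tab u) u = true := ext_range (a := 1920) (len := 640) h3 m1_3
  have h5 : ∀ u < 3200, (fun u => chkM1 tab u) u = true := ext_range (a := 2560) (len := 640) h4 m1_4
  have h6 : ∀ u < 3840, (fun u => chkM1 tab u) u = true := ext_range (a := 3200) (len := 640) h5 m1_5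
  have h7 : ∀ u < 4480, (fun u => chkM1 tab u) u = true := ext_range (a := 3840) (len := 640) h6 m1_6
  have h8 : ∀ u < 5120, (fun u => chkM1 tab u) u = true := ext_range (a := 4480) (len := 640) h7 m1_7
  have h9 : ∀ u < 5760, (fun u => chkM1 tab u) u = true := ext_range (a := 5120) (len := 640) h8 m1_8
  have h10 : ∀ u < 6400, (fun u => chkM1 tab u) u = true := ext_range (a := 5760) (len := 640) h9 m1_9
  have h11 : ∀ u < 7040, (fun u => chkM1 tab u) u = true := ext_range (a := 6400) (len := 640) h10 m1_10
  have h12 : ∀ u < 7680, (fun u => chkM1 tab u) u = true := ext_range (a := 7040) (len := 640) h11 m1_11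
  have h13 : ∀ u < 8320, (fun u => chkM1 tab u) u = true := ext_range (a := 7680) (len := 640) h12 m1_12
  have h14 : ∀ u < 8960, (fun u => chkM1 tab u) u = true := ext_range (a := 8320) (len := 640) h13 m1_13
  have h15 : ∀ u < 9600, (fun u => chkM1 tab u) u = true := ext_range (a := 8960) (len := 640) h14 m1_14
  have h16 : ∀ u < 10240, (fun u => chkM1 tab u) u = true := ext_range (a := 9600) (len := 640) h15 m1_15
  have h17 : ∀ u < 10880, (fun u => chkM1 tab u) u = true := ext_range (a := 10240) (len := 640) h16 m1_16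
  have h18 : ∀ u < 11520, (fun u => chkM1 tab u) u = true := ext_range (a := 10880) (len := 640) h17 m1_17
  have h19 : ∀ u < 12160, (fun u => chkM1 tab u) u = true := ext_range (a := 11520) (len := 640) h18 m1_18
  have h20 : ∀ u < 12800, (fun u => chkM1 tab u) u = true := ext_range (a := 12160) (len := 640) h19 m1_19
  have h21 : ∀ u < 13440, (fun u => chkM1 tab u) u = true := ext_range (a := 12800) (len := 640) h20 m1_20
  have h22 : ∀ u < 14080, (fun u => chkM1 tab u) u = true := ext_range (a := 13440) (len := 640) h21 m1_21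
  have h23 : ∀ u < 14720, (fun u => chkM1 tab u) u = true := ext_range (a := 14080) (len := 640) h22 m1_22
  have h24 : ∀ u < 15360, (fun u => chkM1 tab u) u = true := ext_range (a := 14720) (len := 640) h23 m1_23
  have h25 : ∀ u < 16000, (fun u => chkM1 tab u) u = true := ext_range (a := 15360) (len := 640) h24 m1_24
  have h26 : ∀ u < 16640, (fun u => chkM1 tab u) u = true := ext_range (a := 16000) (len := 640) h25 m1_25
  have h27 : ∀ u < 17280, (fun u => chkM1 tab u) u = true := ext_range (a := 16640) (len := 640) h26 m1_26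
  have h28 : ∀ u < 17920, (fun u => chkM1 tab u) u = true := ext_range (a := 17280) (len := 640) h27 m1_27
  have h29 : ∀ u < 18560, (fun u => chkM1 tab u) u = true := ext_range (a := 17920) (len := 640) h28 m1_28
  have h30 : ∀ u < 19200, (fun u => chkM1 tab u) u = true := ext_range (a := 18560) (len := 640) h29 m1_29
  have h31 : ∀ u < 19840, (fun u => chkM1 tab u) u = true := ext_range (a := 19200) (len := 640) h30 m1_30
  have h32 : ∀ u < 20480, (fun u => chkM1 tab u) u = true := ext_range (a := 19840) (len := 640) h31 m1_31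
  have h33 : ∀ u < 21120, (fun u => chkM1 tab u) u = true := ext_range (a := 20480) (len := 640) h32 m1_32
  have h34 : ∀ u < 21760, (fun u => chkM1 tab u) u = true := ext_range (a := 21120) (len := 640) h33 m1_33
  have h35 : ∀ u < 22400, (fun u => chkM1 tab u) u = true := ext_range (a := 21760) (len := 640) h34 m1_34
  have h36 : ∀ u < 23040, (fun u => chkM1 tab u) u = true := ext_range (a := 22400) (len := 640) h35 m1_35
  have h37 : ∀ u < 23680, (fun u => chkM1 tab u) u = true := ext_range (a := 23040) (len := 640) h36 m1_36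
  have h38 : ∀ u < 24320, (fun u => chkM1 tab u) u = true := ext_range (a := 23680) (len := 640) h37 m1_37
  have h39 : ∀ u < 24960, (fun u => chkM1 tab u) u = true := ext_range (a := 24320) (len := 640) h38 m1_38
  have h40 : ∀ u < 25600, (fun u => chkM1 tab u) u = true := ext_range (a := 24960) (len := 640) h39 m1_39
  have h41 : ∀ u < 26240, (fun u => chkM1 tab u) u = true := ext_range (a := 25600) (len := 640) h40 m1_40
  have h42 : ∀ u < 26880, (fun u => chkM1 tab u) u = true := ext_range (a := 26240) (len := 640) h41 m1_41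
  have h43 : ∀ u < 27520, (fun u => chkM1 tab u) u = true := ext_range (a := 26880) (len := 640) h42 m1_42
  have h44 : ∀ u < 28160, (fun u => chkM1 tab u) u = true := ext_range (a := 27520) (len := 640) h43 m1_43
  have h45 : ∀ u < 28800, (fun u => chkM1 tab u) u = true := ext_range (a := 28160) (len := 640) h44 m1_44
  have h46 : ∀ u < 29440, (fun u => chkM1 tab u) u = true := ext_range (a := 28800) (len := 640) h45 m1_45
  have h47 : ∀ u < 30080, (fun u => chkM1 tab u) u = true := ext_range (a := 29440) (len := 640) h46 m1_46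
  have h48 : ∀ u < 30720, (fun u => chkM1 tab u) u = true := ext_range (a := 30080) (len := 640) h47 m1_47
  have h49 : ∀ u < 31360, (fun u => chkM1 tab u) u = true := ext_range (a := 30720) (len := 640) h48 m1_48
  have h50 : ∀ u < 31671, (fun u => chkM1 tab u) u = true := ext_range (a := 31360) (len := 311) h49 m1_49
  exact h50

theorem hMA : ∀ u < 31671, chkAux tab aux u = true := by
  have h0 : ∀ u < 0, (fun u => chkAux tab aux u) u = true := range_zero
  have h1 : ∀ u < 690, (fun u => chkAux tab aux u) u = true := ext_range (a := 0) (len := 690) h0 ma_0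
  have h2 : ∀ u < 1380, (fun u => chkAux tab aux u) u = true := ext_range (a := 690) (len := 690) h1 ma_1
  have h3 : ∀ u < 2070, (fun u => chkAux tab aux u) u = true := ext_range (a := 1380) (len := 690) h2 ma_2
  have h4 : ∀ u < 2760, (fun u => chkAux tab aux u) u = true := ext_range (a := 2070) (len := 690) h3 ma_3
  have h5 : ∀ u < 3450, (fun u => chkAux tab aux u) u = true := ext_range (a := 2760) (len := 690) h4 ma_4
  have h6 : ∀ u < 4140, (fun u => chkAux tab aux u) u = true := ext_range (a := 3450) (len := 690) h5 ma_5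
  have h7 : ∀ u < 4830, (fun u => chkAux tab aux u) u = true := ext_range (a := 4140) (len := 690) h6 ma_6
  have h8 : ∀ u < 5520, (fun u => chkAux tab aux u) u = true := ext_range (a := 4830) (len := 690) h7 ma_7
  have h9 : ∀ u < 6210, (fun u => chkAux tab aux u) u = true := ext_range (a := 5520) (len := 690) h8 ma_8
  have h10 : ∀ u < 6900, (fun u => chkAux tab aux u) u = true := ext_range (a := 6210) (len := 690) h9 ma_9
  have h11 : ∀ u < 7590, (fun u => chkAux tab aux u) u = true := ext_range (a := 6900) (len := 690) h10 ma_10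
  have h12 : ∀ u < 8280, (fun u => chkAux tab aux u) u = true := ext_range (a := 7590) (len := 690) h11 ma_11
  have h13 : ∀ u < 8970, (fun u => chkAux tab aux u) u = true := ext_range (a := 8280) (len := 690) h12 ma_12
  have h14 : ∀ u < 9660, (fun u => chkAux tab aux u) u = true := ext_range (a := 8970) (len := 690) h13 ma_13
  have h15 : ∀ u < 10350, (fun u => chkAux tab aux u) u = true := ext_range (a := 9660) (len := 690) h14 ma_14
  have h16 : ∀ u < 11040, (fun u => chkAux tab aux u) u = true := ext_range (a := 10350) (len := 690) h15 ma_15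
  have h17 : ∀ u < 11730, (fun u => chkAux tab aux u) u = true := ext_range (a := 11040) (len := 690) h16 ma_16
  have h18 : ∀ u < 12420, (fun u => chkAux tab aux u) u = true := ext_range (a := 11730) (len := 690) h17 ma_17
  have h19 : ∀ u < 13110, (fun u => chkAux tab aux u) u = true := ext_range (a := 12420) (len := 690) h18 ma_18
  have h20 : ∀ u < 13800, (fun u => chkAux tab aux u) u = true := ext_range (a := 13110) (len := 690) h19 ma_19
  have h21 : ∀ u < 14490, (fun u => chkAux tab aux u) u = true := ext_range (a := 13800) (len := 690) h20 ma_20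
  have h22 : ∀ u < 15180, (fun u => chkAux tab aux u) u = true := ext_range (a := 14490) (len := 690) h21 ma_21
  have h23 : ∀ u < 15870, (fun u => chkAux tab aux u) u = true := ext_range (a := 15180) (len := 690) h22 ma_22
  have h24 : ∀ u < 16560, (fun u => chkAux tab aux u) u = true := ext_range (a := 15870) (len := 690) h23 ma_23
  have h25 : ∀ u < 17250, (fun u => chkAux tab aux u) u = true := ext_range (a := 16560) (len := 690) h24 ma_24
  have h26 : ∀ u < 17940, (fun u => chkAux tab aux u) u = true := ext_range (a := 17250) (len := 690) h25 ma_25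
  have h27 : ∀ u < 18630, (fun u => chkAux tab aux u) u = true := ext_range (a := 17940) (len := 690) h26 ma_26
  have h28 : ∀ u < 19320, (fun u => chkAux tab aux u) u = true := ext_range (a := 18630) (len := 690) h27 ma_27
  have h29 : ∀ u < 20010, (fun u => chkAux tab aux u) u = true := ext_range (a := 19320) (len := 690) h28 ma_28
  have h30 : ∀ u < 20700, (fun u => chkAux tab aux u) u = true := ext_range (a := 20010) (len := 690) h29 ma_29
  have h31 : ∀ u < 21390, (fun u => chkAux tab aux u) u = true := ext_range (a := 20700) (len := 690) h30 ma_30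
  have h32 : ∀ u < 22080, (fun u => chkAux tab aux u) u = true := ext_range (a := 21390) (len := 690) h31 ma_31
  have h33 : ∀ u < 22770, (fun u => chkAux tab aux u) u = true := ext_range (a := 22080) (len := 690) h32 ma_32
  have h34 : ∀ u < 23460, (fun u => chkAux tab aux u) u = true := ext_range (a := 22770) (len := 690) h33 ma_33
  have h35 : ∀ u < 24150, (fun u => chkAux tab aux u) u = true := ext_range (a := 23460) (len := 690) h34 ma_34
  have h36 : ∀ u < 24840, (fun u => chkAux tab aux u) u = true := ext_range (a := 24150) (len := 690) h35 ma_35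
  have h37 : ∀ u < 25530, (fun u => chkAux tab aux u) u = true := ext_range (a := 24840) (len := 690) h36 ma_36
  have h38 : ∀ u < 26220, (fun u => chkAux tab aux u) u = true := ext_range (a := 25530) (len := 690) h37 ma_37
  have h39 : ∀ u < 26910, (fun u => chkAux tab aux u) u = true := ext_range (a := 26220) (len := 690) h38 ma_38
  have h40 : ∀ u < 27600, (fun u => chkAux tab aux u) u = true := ext_range (a := 26910) (len := 690) h39 ma_39
  have h41 : ∀ u < 28290, (fun u => chkAux tab aux u) u = true := ext_range (a := 27600) (len := 690) h40 ma_40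
  have h42 : ∀ u < 28980, (fun u => chkAux tab aux u) u = true := ext_range (a := 28290) (len := 690) h41 ma_41
  have h43 : ∀ u < 29670, (fun u => chkAux tab aux u) u = true := ext_range (a := 28980) (len := 690) h42 ma_42
  have h44 : ∀ u < 30360, (fun u => chkAux tab aux u) u = true := ext_range (a := 29670) (len := 690) h43 ma_43
  have h45 : ∀ u < 31050, (fun u => chkAux tab aux u) u = true := ext_range (a := 30360) (len := 690) h44 ma_44
  have h46 : ∀ u < 31671, (fun u => chkAux tab aux u) u = true := ext_range (a := 31050) (len := 621) h45 ma_45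
  exact h46

theorem hM2A : ∀ u < 31671, chkFix tab mwordsA u = true := by
  have h0 : ∀ u < 0, (fun u => chkFix tab mwordsA u) u = true := range_zero
  have h1 : ∀ u < 62, (fun u => chkFix tab mwordsA u) u = true := ext_range (a := 0) (len := 62) h0 m2_0
  have h2 : ∀ u < 124, (fun u => chkFix tab mwordsA u) u = true := ext_range (a := 62) (len := 62) h1 m2_1
  have h3 : ∀ u < 186, (fun u => chkFix tab mwordsA u) u = true := ext_range (a := 124) (len := 62) h2 m2_2
  have h4 : ∀ u < 248, (fun u => chkFix tab mwordsA u) u = true := ext_range (a := 186) (len := 62) h3 m2_3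
  have h5 : ∀ u < 310, (fun u => chkFix tab mwordsA u) u = true := ext_range (a := 248) (len := 62) h4 m2_4
  have h6 : ∀ u < 372, (fun u => chkFix tab mwordsA u) u = true := ext_range (a := 310) (len := 62) h5 m2_5
  have h7 : ∀ u < 434, (fun u => chkFix tab mwordsA u) u = true := ext_range (a := 372) (len := 62) h6 m2_6
  have h8 : ∀ u < 496, (fun u => chkFix tab mwordsA u) u = true := ext_range (a := 434) (len := 62) h7 m2_7
  have h9 : ∀ u < 558, (fun u => chkFix tab mwordsA u) u = true := ext_range (a := 496) (len := 62) h8 m2_8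
  have h10 : ∀ u < 620, (fun u => chkFix tab mwordsA u) u = true := ext_range (a := 558) (len := 62) h9 m2_9
  have h11 : ∀ u < 682, (fun u => chkFix tab mwordsA u) u = true := ext_range (a := 620) (len := 62) h10 m2_10
  have h12 : ∀ u < 744, (fun u => chkFix tab mwordsA u) u = true := ext_range (a := 682) (len := 62) h11 m2_11
  have h13 : ∀ u < 806, (fun u => chkFix tab mwordsA u) u = true := ext_range (a := 744) (len := 62) h12 m2_12
  have h14 : ∀ u < 868, (fun u => chkFix tab mwordsA u) u = true := ext_range (a := 806) (len := 62) h13 m2_13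
  have h15 : ∀ u < 930, (fun u => chkFix tab mwordsA u) u = true := ext_range (a := 868) (len := 62) h14 m2_14
  have h16 : ∀ u < 992, (fun u => chkFix tab mwordsA u) u = true := ext_range (a := 930) (len := 62) h15 m2_15
  have h17 : ∀ u < 1054, (fun u => chkFix tab mwordsA u) u = true := ext_range (a := 992) (len := 62) h16 m2_16
  have h18 : ∀ u < 1116, (fun u => chkFix tab mwordsA u) u = true := ext_range (a := 1054) (len := 62) h17 m2_17
  have h19 : ∀ u < 1178, (fun u => chkFix tab mwordsA u) u = true := ext_range (a := 1116) (len := 62) h18 m2_18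
  have h20 : ∀ u < 1240, (fun u => chkFix tab mwordsA u) u = true := ext_range (a := 1178) (len := 62) h19 m2_19
  have h21 : ∀ u < 1302, (fun u => chkFix tab mwordsA u) u = true := ext_range (a := 1240) (len := 62) h20 m2_20
  have h22 : ∀ u < 1364, (fun u => chkFix tab mwordsA u) u = true := ext_range (a := 1302) (len := 62) h21 m2_21
  have h23 : ∀ u < 1426, (fun u => chkFix tab mwordsA u) u = true := ext_range (a := 1364) (len := 62) h22 m2_22
  have h24 : ∀ u < 1488, (fun u => chkFix tab mwordsA u) u = true := ext_range (a := 1426) (len := 62) h23 m2_23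
  have h25 : ∀ u < 1550, (fun u => chkFix tab mwordsA u) u = true := ext_range (a := 1488) (len := 62) h24 m2_24
  have h26 : ∀ u < 1612, (fun u => chkFix tab mwordsA u) u = true := ext_range (a := 1550) (len := 62) h25 m2_25
  have h27 : ∀ u < 1674, (fun u => chkFix tab mwordsA u) u = true := ext_range (a := 1612) (len := 62) h26 m2_26
  have h28 : ∀ u < 1736, (fun u => chkFix tab mwordsA u) u = true := ext_range (a := 1674) (len := 62) h27 m2_27
  have h29 : ∀ u < 1798, (fun u => chkFix tab mwordsA u) u = true := ext_range (a := 1736) (len := 62) h28 m2_28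
  have h30 : ∀ u < 1860, (fun u => chkFix tab mwordsA u) u = true := ext_range (a := 1798) (len := 62) h29 m2_29
  have h31 : ∀ u < 1922, (fun u => chkFix tab mwordsA u) u = true := ext_range (a := 1860) (len := 62) h30 m2_30
  have h32 : ∀ u < 1984, (fun u => chkFix tab mwordsA u) u = true := ext_range (a := 1922) (len := 62) h31 m2_31
  have h33 : ∀ u < 2046, (fun u => chkFix tab mwordsA u) u = true := ext_range (a := 1984) (len := 62) h32 m2_32
  have h34 : ∀ u < 2108, (fun u => chkFix tab mwordsA u) u = true := ext_range (a := 2046) (len := 62) h33 m2_33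
  have h35 : ∀ u < 2170, (fun u => chkFix tab mwordsA u) u = true := ext_range (a := 2108) (len := 62) h34 m2_34
  have h36 : ∀ u < 2232, (fun u => chkFix tab mwordsA u) u = true := ext_range (a := 2170) (len := 62) h35 m2_35
  have h37 : ∀ u < 2294, (fun u => chkFix tab mwordsA u) u = true := ext_range (a := 2232) (len := 62) h36 m2_36
  have h38 : ∀ u < 2356, (fun u => chkFix tab mwordsA u) u = true := ext_range (a := 2294) (len := 62) h37 m2_37
  have h39 : ∀ u < 2418, (fun u => chkFix tab mwordsA u) u = true := ext_range (a := 2356) (len := 62) h38 m2_38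
  have h40 : ∀ u < 2480, (fun u => chkFix tab mwordsA u) u = true := ext_range (a := 2418) (len := 62) h39 m2_39
  have h41 : ∀ u < 2542, (fun u => chkFix tab mwordsA u) u = true := ext_range (a := 2480) (len := 62) h40 m2_40
  have h42 : ∀ u < 2604, (fun u => chkFix tab mwordsA u) u = true := ext_range (a := 2542) (len := 62) h41 m2_41
  have h43 : ∀ u < 2666, (fun u => chkFix tab mwordsA u) u = true := ext_range (a := 2604) (len := 62) h42 m2_42
  have h44 : ∀ u < 2728, (fun u => chkFix tab mwordsA u) u = true := ext_range (a := 2666) (len := 62) h43 m2_43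
  have h45 : ∀ u < 2790, (fun u => chkFix tab mwordsA u) u = true := ext_range (a := 2728) (len := 62) h44 m2_44
  have h46 : ∀ u < 2852, (fun u => chkFix tab mwordsA u) u = true := ext_range (a := 2790) (len := 62) h45 m2_45
  have h47 : ∀ u < 2914, (fun u => chkFix tab mwordsA u) u = true := ext_range (a := 2852) (len := 62) h46 m2_46
  have h48 : ∀ u < 2976, (fun u => chkFix tab mwordsA u) u = true := ext_range (a := 2914) (len := 62) h47 m2_47
  have h49 : ∀ u < 3038, (fun u => chkFix tab mwordsA u) u = true := ext_range (a := 2976) (len := 62) h48 m2_48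
  have h50 : ∀ u < 3100, (fun u => chkFix tab mwordsA u) u = true := ext_range (a := 3038) (len := 62) h49 m2_49
  have h51 : ∀ u < 3162, (fun u => chkFix tab mwordsA u) u = true := ext_range (a := 3100) (len := 62) h50 m2_50
  have h52 : ∀ u < 3224, (fun u => chkFix tab mwordsA u) u = true := ext_range (a := 3162) (len := 62) h51 m2_51
  have h53 : ∀ u < 3286, (fun u => chkFix tab mwordsA u) u = true := ext_range (a := 3224) (len := 62) h52 m2_52
  have h54 : ∀ u < 3348, (fun u => chkFix tab mwordsA u) u = true := ext_range (a := 3286) (len := 62) h53 m2_53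
  have h55 : ∀ u < 3410, (fun u => chkFix tab mwordsA u) u = true := ext_range (a := 3348) (len := 62) h54 m2_54
  have h56 : ∀ u < 3472, (fun u => chkFix tab mwordsA u) u = true := ext_range (a := 3410) (len := 62) h55 m2_55
  have h57 : ∀ u < 3534, (fun u => chkFix tab mwordsA u) u = true := ext_range (a := 3472) (len := 62) h56 m2_56
  have h58 : ∀ u < 3596, (fun u => chkFix tab mwordsA u) u = true := ext_range (a := 3534) (len := 62) h57 m2_57
  have h59 : ∀ u < 3658, (fun u => chkFix tab mwordsA u) u = true := ext_range (a := 3596) (len := 62) h58 m2_58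
  have h60 : ∀ u < 3720, (fun u => chkFix tab mwordsA u) u = true := ext_range (a := 3658) (len := 62) h59 m2_59
  have h61 : ∀ u < 3782, (fun u => chkFix tab mwordsA u) u = true := ext_range (a := 3720) (len := 62) h60 m2_60
  have h62 : ∀ u < 3844, (fun u => chkFix tab mwordsA u) u = true := ext_range (a := 3782) (len := 62) h61 m2_61
  have h63 : ∀ u < 3906, (fun u => chkFix tab mwordsA u) u = true := ext_range (a := 3844) (len := 62) h62 m2_62
  have h64 : ∀ u < 3968, (fun u => chkFix tab mwordsA u) u = true := ext_range (a := 3906) (len := 62) h63 m2_63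
  have h65 : ∀ u < 4030, (fun u => chkFix tab mwordsA u) u = true := ext_range (a := 3968) (len := 62) h64 m2_64
  have h66 : ∀ u < 4092, (fun u => chkFix tab mwordsA u) u = true := ext_range (a := 4030) (len := 62) h65 m2_65
  have h67 : ∀ u < 4154, (fun u => chkFix tab mwordsA u) u = true := ext_range (a := 4092) (len := 62) h66 m2_66
  have h68 : ∀ u < 4216, (fun u => chkFix tab mwordsA u) u = true := ext_range (a := 4154) (len := 62) h67 m2_67
  have h69 : ∀ u < 4278, (fun u => chkFix tab mwordsA u) u = true := ext_range (a := 4216) (len := 62) h68 m2_68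
  have h70 : ∀ u < 4340, (fun u => chkFix tab mwordsA u) u = true := ext_range (a := 4278) (len := 62) h69 m2_69
  have h71 : ∀ u < 4402, (fun u => chkFix tab mwordsA u) u = true := ext_range (a := 4340) (len := 62) h70 m2_70
  have h72 : ∀ u < 4464, (fun u => chkFix tab mwordsA u) u = true := ext_range (a := 4402) (len := 62) h71 m2_71
  have h73 : ∀ u < 4526, (fun u => chkFix tab mwordsA u) u = true := ext_range (a := 4464) (len := 62) h72 m2_72
  have h74 : ∀ u < 4588, (fun u => chkFix tab mwordsA u) u = true := ext_range (a := 4526) (len := 62) h73 m2_73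
  have h75 : ∀ u < 4650, (fun u => chkFix tab mwordsA u) u = true := ext_range (a := 4588) (len := 62) h74 m2_74
  have h76 : ∀ u < 4712, (fun u => chkFix tab mwordsA u) u = true := ext_range (a := 4650) (len := 62) h75 m2_75
  have h77 : ∀ u < 4774, (fun u => chkFix tab mwordsA u) u = true := ext_range (a := 4712) (len := 62) h76 m2_76
  have h78 : ∀ u < 4836, (fun u => chkFix tab mwordsA u) u = true := ext_range (a := 4774) (len := 62) h77 m2_77
  have h79 : ∀ u < 4898, (fun u => chkFix tab mwordsA u) u = true := ext_range (a := 4836) (len := 62) h78 m2_78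
  have h80 : ∀ u < 4960, (fun u => chkFix tab mwordsA u) u = true := ext_range (a := 4898) (len := 62) h79 m2_79
  have h81 : ∀ u < 5022, (fun u => chkFix tab mwordsA u) u = true := ext_range (a := 4960) (len := 62) h80 m2_80
  have h82 : ∀ u < 5084, (fun u => chkFix tab mwordsA u) u = true := ext_range (a := 5022) (len := 62) h81 m2_81
  have h83 : ∀ u < 5146, (fun u => chkFix tab mwordsA u) u = true := ext_range (a := 5084) (len := 62) h82 m2_82
  have h84 : ∀ u < 5208, (fun u => chkFix tab mwordsA u) u = true := ext_range (a := 5146) (len := 62) h83 m2_83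
  have h85 : ∀ u < 5270, (fun u => chkFix tab mwordsA u) u = true := ext_range (a := 5208) (len := 62) h84 m2_84
  have h86 : ∀ u < 5332, (fun u => chkFix tab mwordsA u) u = true := ext_range (a := 5270) (len := 62) h85 m2_85
  have h87 : ∀ u < 5394, (fun u => chkFix tab mwordsA u) u = true := ext_range (a := 5332) (len := 62) h86 m2_86
  have h88 : ∀ u < 5456, (fun u => chkFix tab mwordsA u) u = true := ext_range (a := 5394) (len := 62) h87 m2_87
  have h89 : ∀ u < 5518, (fun u => chkFix tab mwordsA u) u = true := ext_range (a := 5456) (len := 62) h88 m2_88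
  have h90 : ∀ u < 5580, (fun u => chkFix tab mwordsA u) u = true := ext_range (a := 5518) (len := 62) h89 m2_89
  have h91 : ∀ u < 5642, (fun u => chkFix tab mwordsA u) u = true := ext_range (a := 5580) (len := 62) h90 m2_90
  have h92 : ∀ u < 5704, (fun u => chkFix tab mwordsA u) u = true := ext_range (a := 5642) (len := 62) h91 m2_91
  have h93 : ∀ u < 5766, (fun u => chkFix tab mwordsA u) u = true := ext_range (a := 5704) (len := 62) h92 m2_92
  have h94 : ∀ u < 5828, (fun u => chkFix tab mwordsA u) u = true := ext_range (a := 5766) (len := 62) h93 m2_93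
  have h95 : ∀ u < 5890, (fun u => chkFix tab mwordsA u) u = true := ext_range (a := 5828) (len := 62) h94 m2_94
  have h96 : ∀ u < 5952, (fun u => chkFix tab mwordsA u) u = true := ext_range (a := 5890) (len := 62) h95 m2_95
  have h97 : ∀ u < 6014, (fun u => chkFix tab mwordsA u) u = true := ext_range (a := 5952) (len := 62) h96 m2_96
  have h98 : ∀ u < 6076, (fun u => chkFix tab mwordsA u) u = true := ext_range (a := 6014) (len := 62) h97 m2_97
  have h99 : ∀ u < 6138, (fun u => chkFix tab mwordsA u) u = true := ext_range (a := 6076) (len := 62) h98 m2_98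
  have h100 : ∀ u < 6200, (fun u => chkFix tab mwordsA u) u = true := ext_range (a := 6138) (len := 62) h99 m2_99
  have h101 : ∀ u < 6262, (fun u => chkFix tab mwordsA u) u = true := ext_range (a := 6200) (len := 62) h100 m2_100
  have h102 : ∀ u < 6324, (fun u => chkFix tab mwordsA u) u = true := ext_range (a := 6262) (len := 62) h101 m2_101
  have h103 : ∀ u < 6386, (fun u => chkFix tab mwordsA u) u = true := ext_range (a := 6324) (len := 62) h102 m2_102
  have h104 : ∀ u < 6448, (fun u => chkFix tab mwordsA u) u = true := ext_range (a := 6386) (len := 62) h103 m2_103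
  have h105 : ∀ u < 6510, (fun u => chkFix tab mwordsA u) u = true := ext_range (a := 6448) (len := 62) h104 m2_104
  have h106 : ∀ u < 6572, (fun u => chkFix tab mwordsA u) u = true := ext_range (a := 6510) (len := 62) h105 m2_105
  have h107 : ∀ u < 6634, (fun u => chkFix tab mwordsA u) u = true := ext_range (a := 6572) (len := 62) h106 m2_106
  have h108 : ∀ u < 6696, (fun u => chkFix tab mwordsA u) u = true := ext_range (a := 6634) (len := 62) h107 m2_107
  have h109 : ∀ u < 6758, (fun u => chkFix tab mwordsA u) u = true := ext_range (a := 6696) (len := 62) h108 m2_108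
  have h110 : ∀ u < 6820, (fun u => chkFix tab mwordsA u) u = true := ext_range (a := 6758) (len := 62) h109 m2_109
  have h111 : ∀ u < 6882, (fun u => chkFix tab mwordsA u) u = true := ext_range (a := 6820) (len := 62) h110 m2_110
  have h112 : ∀ u < 6944, (fun u => chkFix tab mwordsA u) u = true := ext_range (a := 6882) (len := 62) h111 m2_111
  have h113 : ∀ u < 7006, (fun u => chkFix tab mwordsA u) u = true := ext_range (a := 6944) (len := 62) h112 m2_112
  have h114 : ∀ u < 7068, (fun u => chkFix tab mwordsA u) u = true := ext_range (a := 7006) (len := 62) h113 m2_113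
  have h115 : ∀ u < 7130, (fun u => chkFix tab mwordsA u) u = true := ext_range (a := 7068) (len := 62) h114 m2_114
  have h116 : ∀ u < 7192, (fun u => chkFix tab mwordsA u) u = true := ext_range (a := 7130) (len := 62) h115 m2_115
  have h117 : ∀ u < 7254, (fun u => chkFix tab mwordsA u) u = true := ext_range (a := 7192) (len := 62) h116 m2_116
  have h118 : ∀ u < 7316, (fun u => chkFix tab mwordsA u) u = true := ext_range (a := 7254) (len := 62) h117 m2_117
  have h119 : ∀ u < 7378, (fun u => chkFix tab mwordsA u) u = true := ext_range (a := 7316) (len := 62) h118 m2_118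
  have h120 : ∀ u < 7440, (fun u => chkFix tab mwordsA u) u = true := ext_range (a := 7378) (len := 62) h119 m2_119
  have h121 : ∀ u < 7502, (fun u => chkFix tab mwordsA u) u = true := ext_range (a := 7440) (len := 62) h120 m2_120
  have h122 : ∀ u < 7564, (fun u => chkFix tab mwordsA u) u = true := ext_range (a := 7502) (len := 62) h121 m2_121
  have h123 : ∀ u < 7626, (fun u => chkFix tab mwordsA u) u = true := ext_range (a := 7564) (len := 62) h122 m2_122
  have h124 : ∀ u < 7688, (fun u => chkFix tab mwordsA u) u = true := ext_range (a := 7626) (len := 62) h123 m2_123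
  have h125 : ∀ u < 7750, (fun u => chkFix tab mwordsA u) u = true := ext_range (a := 7688) (len := 62) h124 m2_124
  have h126 : ∀ u < 7812, (fun u => chkFix tab mwordsA u) u = true := ext_range (a := 7750) (len := 62) h125 m2_125
  have h127 : ∀ u < 7874, (fun u => chkFix tab mwordsA u) u = true := ext_range (a := 7812) (len := 62) h126 m2_126
  have h128 : ∀ u < 7936, (fun u => chkFix tab mwordsA u) u = true := ext_range (a := 7874) (len := 62) h127 m2_127
  have h129 : ∀ u < 7998, (fun u => chkFix tab mwordsA u) u = true := ext_range (a := 7936) (len := 62) h128 m2_128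
  have h130 : ∀ u < 8060, (fun u => chkFix tab mwordsA u) u = true := ext_range (a := 7998) (len := 62) h129 m2_129
  have h131 : ∀ u < 8122, (fun u => chkFix tab mwordsA u) u = true := ext_range (a := 8060) (len := 62) h130 m2_130
  have h132 : ∀ u < 8184, (fun u => chkFix tab mwordsA u) u = true := ext_range (a := 8122) (len := 62) h131 m2_131
  have h133 : ∀ u < 8246, (fun u => chkFix tab mwordsA u) u = true := ext_range (a := 8184) (len := 62) h132 m2_132
  have h134 : ∀ u < 8308, (fun u => chkFix tab mwordsA u) u = true := ext_range (a := 8246) (len := 62) h133 m2_133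
  have h135 : ∀ u < 8370, (fun u => chkFix tab mwordsA u) u = true := ext_range (a := 8308) (len := 62) h134 m2_134
  have h136 : ∀ u < 8432, (fun u => chkFix tab mwordsA u) u = true := ext_range (a := 8370) (len := 62) h135 m2_135
  have h137 : ∀ u < 8494, (fun u => chkFix tab mwordsA u) u = true := ext_range (a := 8432) (len := 62) h136 m2_136
  have h138 : ∀ u < 8556, (fun u => chkFix tab mwordsA u) u = true := ext_range (a := 8494) (len := 62) h137 m2_137
  have h139 : ∀ u < 8618, (fun u => chkFix tab mwordsA u) u = true := ext_range (a := 8556) (len := 62) h138 m2_138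
  have h140 : ∀ u < 8680, (fun u => chkFix tab mwordsA u) u = true := ext_range (a := 8618) (len := 62) h139 m2_139
  have h141 : ∀ u < 8742, (fun u => chkFix tab mwordsA u) u = true := ext_range (a := 8680) (len := 62) h140 m2_140
  have h142 : ∀ u < 8804, (fun u => chkFix tab mwordsA u) u = true := ext_range (a := 8742) (len := 62) h141 m2_141
  have h143 : ∀ u < 8866, (fun u => chkFix tab mwordsA u) u = true := ext_range (a := 8804) (len := 62) h142 m2_142
  have h144 : ∀ u < 8928, (fun u => chkFix tab mwordsA u) u = true := ext_range (a := 8866) (len := 62) h143 m2_143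
  have h145 : ∀ u < 8990, (fun u => chkFix tab mwordsA u) u = true := ext_range (a := 8928) (len := 62) h144 m2_144
  have h146 : ∀ u < 9052, (fun u => chkFix tab mwordsA u) u = true := ext_range (a := 8990) (len := 62) h145 m2_145
  have h147 : ∀ u < 9114, (fun u => chkFix tab mwordsA u) u = true := ext_range (a := 9052) (len := 62) h146 m2_146
  have h148 : ∀ u < 9176, (fun u => chkFix tab mwordsA u) u = true := ext_range (a := 9114) (len := 62) h147 m2_147
  have h149 : ∀ u < 9238, (fun u => chkFix tab mwordsA u) u = true := ext_range (a := 9176) (len := 62) h148 m2_148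
  have h150 : ∀ u < 9300, (fun u => chkFix tab mwordsA u) u = true := ext_range (a := 9238) (len := 62) h149 m2_149
  have h151 : ∀ u < 9362, (fun u => chkFix tab mwordsA u) u = true := ext_range (a := 9300) (len := 62) h150 m2_150
  have h152 : ∀ u < 9424, (fun u => chkFix tab mwordsA u) u = true := ext_range (a := 9362) (len := 62) h151 m2_151
  have h153 : ∀ u < 9486, (fun u => chkFix tab mwordsA u) u = true := ext_range (a := 9424) (len := 62) h152 m2_152
  have h154 : ∀ u < 9548, (fun u => chkFix tab mwordsA u) u = true := ext_range (a := 9486) (len := 62) h153 m2_153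
  have h155 : ∀ u < 9610, (fun u => chkFix tab mwordsA u) u = true := ext_range (a := 9548) (len := 62) h154 m2_154
  have h156 : ∀ u < 9672, (fun u => chkFix tab mwordsA u) u = true := ext_range (a := 9610) (len := 62) h155 m2_155
  have h157 : ∀ u < 9734, (fun u => chkFix tab mwordsA u) u = true := ext_range (a := 9672) (len := 62) h156 m2_156
  have h158 : ∀ u < 9796, (fun u => chkFix tab mwordsA u) u = true := ext_range (a := 9734) (len := 62) h157 m2_157
  have h159 : ∀ u < 9858, (fun u => chkFix tab mwordsA u) u = true := ext_range (a := 9796) (len := 62) h158 m2_158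
  have h160 : ∀ u < 9920, (fun u => chkFix tab mwordsA u) u = true := ext_range (a := 9858) (len := 62) h159 m2_159
  have h161 : ∀ u < 9982, (fun u => chkFix tab mwordsA u) u = true := ext_range (a := 9920) (len := 62) h160 m2_160
  have h162 : ∀ u < 10044, (fun u => chkFix tab mwordsA u) u = true := ext_range (a := 9982) (len := 62) h161 m2_161
  have h163 : ∀ u < 10106, (fun u => chkFix tab mwordsA u) u = true := ext_range (a := 10044) (len := 62) h162 m2_162
  have h164 : ∀ u < 10168, (fun u => chkFix tab mwordsA u) u = true := ext_range (a := 10106) (len := 62) h163 m2_163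
  have h165 : ∀ u < 10230, (fun u => chkFix tab mwordsA u) u = true := ext_range (a := 10168) (len := 62) h164 m2_164
  have h166 : ∀ u < 10292, (fun u => chkFix tab mwordsA u) u = true := ext_range (a := 10230) (len := 62) h165 m2_165
  have h167 : ∀ u < 10354, (fun u => chkFix tab mwordsA u) u = true := ext_range (a := 10292) (len := 62) h166 m2_166
  have h168 : ∀ u < 10416, (fun u => chkFix tab mwordsA u) u = true := ext_range (a := 10354) (len := 62) h167 m2_167
  have h169 : ∀ u < 10478, (fun u => chkFix tab mwordsA u) u = true := ext_range (a := 10416) (len := 62) h168 m2_168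
  have h170 : ∀ u < 10540, (fun u => chkFix tab mwordsA u) u = true := ext_range (a := 10478) (len := 62) h169 m2_169
  have h171 : ∀ u < 10602, (fun u => chkFix tab mwordsA u) u = true := ext_range (a := 10540) (len := 62) h170 m2_170
  have h172 : ∀ u < 10664, (fun u => chkFix tab mwordsA u) u = true := ext_range (a := 10602) (len := 62) h171 m2_171
  have h173 : ∀ u < 10726, (fun u => chkFix tab mwordsA u) u = true := ext_range (a := 10664) (len := 62) h172 m2_172
  have h174 : ∀ u < 10788, (fun u => chkFix tab mwordsA u) u = true := ext_range (a := 10726) (len := 62) h173 m2_173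
  have h175 : ∀ u < 10850, (fun u => chkFix tab mwordsA u) u = true := ext_range (a := 10788) (len := 62) h174 m2_174
  have h176 : ∀ u < 10912, (fun u => chkFix tab mwordsA u) u = true := ext_range (a := 10850) (len := 62) h175 m2_175
  have h177 : ∀ u < 10974, (fun u => chkFix tab mwordsA u) u = true := ext_range (a := 10912) (len := 62) h176 m2_176
  have h178 : ∀ u < 11036, (fun u => chkFix tab mwordsA u) u = true := ext_range (a := 10974) (len := 62) h177 m2_177
  have h179 : ∀ u < 11098, (fun u => chkFix tab mwordsA u) u = true := ext_range (a := 11036) (len := 62) h178 m2_178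
  have h180 : ∀ u < 11160, (fun u => chkFix tab mwordsA u) u = true := ext_range (a := 11098) (len := 62) h179 m2_179
  have h181 : ∀ u < 11222, (fun u => chkFix tab mwordsA u) u = true := ext_range (a := 11160) (len := 62) h180 m2_180
  have h182 : ∀ u < 11284, (fun u => chkFix tab mwordsA u) u = true := ext_range (a := 11222) (len := 62) h181 m2_181
  have h183 : ∀ u < 11346, (fun u => chkFix tab mwordsA u) u = true := ext_range (a := 11284) (len := 62) h182 m2_182
  have h184 : ∀ u < 11408, (fun u => chkFix tab mwordsA u) u = true := ext_range (a := 11346) (len := 62) h183 m2_183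
  have h185 : ∀ u < 11470, (fun u => chkFix tab mwordsA u) u = true := ext_range (a := 11408) (len := 62) h184 m2_184
  have h186 : ∀ u < 11532, (fun u => chkFix tab mwordsA u) u = true := ext_range (a := 11470) (len := 62) h185 m2_185
  have h187 : ∀ u < 11594, (fun u => chkFix tab mwordsA u) u = true := ext_range (a := 11532) (len := 62) h186 m2_186
  have h188 : ∀ u < 11656, (fun u => chkFix tab mwordsA u) u = true := ext_range (a := 11594) (len := 62) h187 m2_187
  have h189 : ∀ u < 11718, (fun u => chkFix tab mwordsA u) u = true := ext_range (a := 11656) (len := 62) h188 m2_188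
  have h190 : ∀ u < 11780, (fun u => chkFix tab mwordsA u) u = true := ext_range (a := 11718) (len := 62) h189 m2_189
  have h191 : ∀ u < 11842, (fun u => chkFix tab mwordsA u) u = true := ext_range (a := 11780) (len := 62) h190 m2_190
  have h192 : ∀ u < 11904, (fun u => chkFix tab mwordsA u) u = true := ext_range (a := 11842) (len := 62) h191 m2_191
  have h193 : ∀ u < 11966, (fun u => chkFix tab mwordsA u) u = true := ext_range (a := 11904) (len := 62) h192 m2_192
  have h194 : ∀ u < 12028, (fun u => chkFix tab mwordsA u) u = true := ext_range (a := 11966) (len := 62) h193 m2_193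
  have h195 : ∀ u < 12090, (fun u => chkFix tab mwordsA u) u = true := ext_range (a := 12028) (len := 62) h194 m2_194
  have h196 : ∀ u < 12152, (fun u => chkFix tab mwordsA u) u = true := ext_range (a := 12090) (len := 62) h195 m2_195
  have h197 : ∀ u < 12214, (fun u => chkFix tab mwordsA u) u = true := ext_range (a := 12152) (len := 62) h196 m2_196
  have h198 : ∀ u < 12276, (fun u => chkFix tab mwordsA u) u = true := ext_range (a := 12214) (len := 62) h197 m2_197
  have h199 : ∀ u < 12338, (fun u => chkFix tab mwordsA u) u = true := ext_range (a := 12276) (len := 62) h198 m2_198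
  have h200 : ∀ u < 12400, (fun u => chkFix tab mwordsA u) u = true := ext_range (a := 12338) (len := 62) h199 m2_199
  have h201 : ∀ u < 12462, (fun u => chkFix tab mwordsA u) u = true := ext_range (a := 12400) (len := 62) h200 m2_200
  have h202 : ∀ u < 12524, (fun u => chkFix tab mwordsA u) u = true := ext_range (a := 12462) (len := 62) h201 m2_201
  have h203 : ∀ u < 12586, (fun u => chkFix tab mwordsA u) u = true := ext_range (a := 12524) (len := 62) h202 m2_202
  have h204 : ∀ u < 12648, (fun u => chkFix tab mwordsA u) u = true := ext_range (a := 12586) (len := 62) h203 m2_203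
  have h205 : ∀ u < 12710, (fun u => chkFix tab mwordsA u) u = true := ext_range (a := 12648) (len := 62) h204 m2_204
  have h206 : ∀ u < 12772, (fun u => chkFix tab mwordsA u) u = true := ext_range (a := 12710) (len := 62) h205 m2_205
  have h207 : ∀ u < 12834, (fun u => chkFix tab mwordsA u) u = true := ext_range (a := 12772) (len := 62) h206 m2_206
  have h208 : ∀ u < 12896, (fun u => chkFix tab mwordsA u) u = true := ext_range (a := 12834) (len := 62) h207 m2_207
  have h209 : ∀ u < 12958, (fun u => chkFix tab mwordsA u) u = true := ext_range (a := 12896) (len := 62) h208 m2_208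
  have h210 : ∀ u < 13020, (fun u => chkFix tab mwordsA u) u = true := ext_range (a := 12958) (len := 62) h209 m2_209
  have h211 : ∀ u < 13082, (fun u => chkFix tab mwordsA u) u = true := ext_range (a := 13020) (len := 62) h210 m2_210
  have h212 : ∀ u < 13144, (fun u => chkFix tab mwordsA u) u = true := ext_range (a := 13082) (len := 62) h211 m2_211
  have h213 : ∀ u < 13206, (fun u => chkFix tab mwordsA u) u = true := ext_range (a := 13144) (len := 62) h212 m2_212
  have h214 : ∀ u < 13268, (fun u => chkFix tab mwordsA u) u = true := ext_range (a := 13206) (len := 62) h213 m2_213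
  have h215 : ∀ u < 13330, (fun u => chkFix tab mwordsA u) u = true := ext_range (a := 13268) (len := 62) h214 m2_214
  have h216 : ∀ u < 13392, (fun u => chkFix tab mwordsA u) u = true := ext_range (a := 13330) (len := 62) h215 m2_215
  have h217 : ∀ u < 13454, (fun u => chkFix tab mwordsA u) u = true := ext_range (a := 13392) (len := 62) h216 m2_216
  have h218 : ∀ u < 13516, (fun u => chkFix tab mwordsA u) u = true := ext_range (a := 13454) (len := 62) h217 m2_217
  have h219 : ∀ u < 13578, (fun u => chkFix tab mwordsA u) u = true := ext_range (a := 13516) (len := 62) h218 m2_218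
  have h220 : ∀ u < 13640, (fun u => chkFix tab mwordsA u) u = true := ext_range (a := 13578) (len := 62) h219 m2_219
  have h221 : ∀ u < 13702, (fun u => chkFix tab mwordsA u) u = true := ext_range (a := 13640) (len := 62) h220 m2_220
  have h222 : ∀ u < 13764, (fun u => chkFix tab mwordsA u) u = true := ext_range (a := 13702) (len := 62) h221 m2_221
  have h223 : ∀ u < 13826, (fun u => chkFix tab mwordsA u) u = true := ext_range (a := 13764) (len := 62) h222 m2_222
  have h224 : ∀ u < 13888, (fun u => chkFix tab mwordsA u) u = true := ext_range (a := 13826) (len := 62) h223 m2_223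
  have h225 : ∀ u < 13950, (fun u => chkFix tab mwordsA u) u = true := ext_range (a := 13888) (len := 62) h224 m2_224
  have h226 : ∀ u < 14012, (fun u => chkFix tab mwordsA u) u = true := ext_range (a := 13950) (len := 62) h225 m2_225
  have h227 : ∀ u < 14074, (fun u => chkFix tab mwordsA u) u = true := ext_range (a := 14012) (len := 62) h226 m2_226
  have h228 : ∀ u < 14136, (fun u => chkFix tab mwordsA u) u = true := ext_range (a := 14074) (len := 62) h227 m2_227
  have h229 : ∀ u < 14198, (fun u => chkFix tab mwordsA u) u = true := ext_range (a := 14136) (len := 62) h228 m2_228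
  have h230 : ∀ u < 14260, (fun u => chkFix tab mwordsA u) u = true := ext_range (a := 14198) (len := 62) h229 m2_229
  have h231 : ∀ u < 14322, (fun u => chkFix tab mwordsA u) u = true := ext_range (a := 14260) (len := 62) h230 m2_230
  have h232 : ∀ u < 14384, (fun u => chkFix tab mwordsA u) u = true := ext_range (a := 14322) (len := 62) h231 m2_231
  have h233 : ∀ u < 14446, (fun u => chkFix tab mwordsA u) u = true := ext_range (a := 14384) (len := 62) h232 m2_232
  have h234 : ∀ u < 14508, (fun u => chkFix tab mwordsA u) u = true := ext_range (a := 14446) (len := 62) h233 m2_233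
  have h235 : ∀ u < 14570, (fun u => chkFix tab mwordsA u) u = true := ext_range (a := 14508) (len := 62) h234 m2_234
  have h236 : ∀ u < 14632, (fun u => chkFix tab mwordsA u) u = true := ext_range (a := 14570) (len := 62) h235 m2_235
  have h237 : ∀ u < 14694, (fun u => chkFix tab mwordsA u) u = true := ext_range (a := 14632) (len := 62) h236 m2_236
  have h238 : ∀ u < 14756, (fun u => chkFix tab mwordsA u) u = true := ext_range (a := 14694) (len := 62) h237 m2_237
  have h239 : ∀ u < 14818, (fun u => chkFix tab mwordsA u) u = true := ext_range (a := 14756) (len := 62) h238 m2_238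
  have h240 : ∀ u < 14880, (fun u => chkFix tab mwordsA u) u = true := ext_range (a := 14818) (len := 62) h239 m2_239
  have h241 : ∀ u < 14942, (fun u => chkFix tab mwordsA u) u = true := ext_range (a := 14880) (len := 62) h240 m2_240
  have h242 : ∀ u < 15004, (fun u => chkFix tab mwordsA u) u = true := ext_range (a := 14942) (len := 62) h241 m2_241
  have h243 : ∀ u < 15066, (fun u => chkFix tab mwordsA u) u = true := ext_range (a := 15004) (len := 62) h242 m2_242
  have h244 : ∀ u < 15128, (fun u => chkFix tab mwordsA u) u = true := ext_range (a := 15066) (len := 62) h243 m2_243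
  have h245 : ∀ u < 15190, (fun u => chkFix tab mwordsA u) u = true := ext_range (a := 15128) (len := 62) h244 m2_244
  have h246 : ∀ u < 15252, (fun u => chkFix tab mwordsA u) u = true := ext_range (a := 15190) (len := 62) h245 m2_245
  have h247 : ∀ u < 15314, (fun u => chkFix tab mwordsA u) u = true := ext_range (a := 15252) (len := 62) h246 m2_246
  have h248 : ∀ u < 15376, (fun u => chkFix tab mwordsA u) u = true := ext_range (a := 15314) (len := 62) h247 m2_247
  have h249 : ∀ u < 15438, (fun u => chkFix tab mwordsA u) u = true := ext_range (a := 15376) (len := 62) h248 m2_248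
  have h250 : ∀ u < 15500, (fun u => chkFix tab mwordsA u) u = true := ext_range (a := 15438) (len := 62) h249 m2_249
  have h251 : ∀ u < 15562, (fun u => chkFix tab mwordsA u) u = true := ext_range (a := 15500) (len := 62) h250 m2_250
  have h252 : ∀ u < 15624, (fun u => chkFix tab mwordsA u) u = true := ext_range (a := 15562) (len := 62) h251 m2_251
  have h253 : ∀ u < 15686, (fun u => chkFix tab mwordsA u) u = true := ext_range (a := 15624) (len := 62) h252 m2_252
  have h254 : ∀ u < 15748, (fun u => chkFix tab mwordsA u) u = true := ext_range (a := 15686) (len := 62) h253 m2_253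
  have h255 : ∀ u < 15810, (fun u => chkFix tab mwordsA u) u = true := ext_range (a := 15748) (len := 62) h254 m2_254
  have h256 : ∀ u < 15872, (fun u => chkFix tab mwordsA u) u = true := ext_range (a := 15810) (len := 62) h255 m2_255
  have h257 : ∀ u < 15934, (fun u => chkFix tab mwordsA u) u = true := ext_range (a := 15872) (len := 62) h256 m2_256
  have h258 : ∀ u < 15996, (fun u => chkFix tab mwordsA u) u = true := ext_range (a := 15934) (len := 62) h257 m2_257
  have h259 : ∀ u < 16058, (fun u => chkFix tab mwordsA u) u = true := ext_range (a := 15996) (len := 62) h258 m2_258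
  have h260 : ∀ u < 16120, (fun u => chkFix tab mwordsA u) u = true := ext_range (a := 16058) (len := 62) h259 m2_259
  have h261 : ∀ u < 16182, (fun u => chkFix tab mwordsA u) u = true := ext_range (a := 16120) (len := 62) h260 m2_260
  have h262 : ∀ u < 16244, (fun u => chkFix tab mwordsA u) u = true := ext_range (a := 16182) (len := 62) h261 m2_261
  have h263 : ∀ u < 16306, (fun u => chkFix tab mwordsA u) u = true := ext_range (a := 16244) (len := 62) h262 m2_262
  have h264 : ∀ u < 16368, (fun u => chkFix tab mwordsA u) u = true := ext_range (a := 16306) (len := 62) h263 m2_263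
  have h265 : ∀ u < 16430, (fun u => chkFix tab mwordsA u) u = true := ext_range (a := 16368) (len := 62) h264 m2_264
  have h266 : ∀ u < 16492, (fun u => chkFix tab mwordsA u) u = true := ext_range (a := 16430) (len := 62) h265 m2_265
  have h267 : ∀ u < 16554, (fun u => chkFix tab mwordsA u) u = true := ext_range (a := 16492) (len := 62) h266 m2_266
  have h268 : ∀ u < 16616, (fun u => chkFix tab mwordsA u) u = true := ext_range (a := 16554) (len := 62) h267 m2_267
  have h269 : ∀ u < 16678, (fun u => chkFix tab mwordsA u) u = true := ext_range (a := 16616) (len := 62) h268 m2_268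
  have h270 : ∀ u < 16740, (fun u => chkFix tab mwordsA u) u = true := ext_range (a := 16678) (len := 62) h269 m2_269
  have h271 : ∀ u < 16802, (fun u => chkFix tab mwordsA u) u = true := ext_range (a := 16740) (len := 62) h270 m2_270
  have h272 : ∀ u < 16864, (fun u => chkFix tab mwordsA u) u = true := ext_range (a := 16802) (len := 62) h271 m2_271
  have h273 : ∀ u < 16926, (fun u => chkFix tab mwordsA u) u = true := ext_range (a := 16864) (len := 62) h272 m2_272
  have h274 : ∀ u < 16988, (fun u => chkFix tab mwordsA u) u = true := ext_range (a := 16926) (len := 62) h273 m2_273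
  have h275 : ∀ u < 17050, (fun u => chkFix tab mwordsA u) u = true := ext_range (a := 16988) (len := 62) h274 m2_274
  have h276 : ∀ u < 17112, (fun u => chkFix tab mwordsA u) u = true := ext_range (a := 17050) (len := 62) h275 m2_275
  have h277 : ∀ u < 17174, (fun u => chkFix tab mwordsA u) u = true := ext_range (a := 17112) (len := 62) h276 m2_276
  have h278 : ∀ u < 17236, (fun u => chkFix tab mwordsA u) u = true := ext_range (a := 17174) (len := 62) h277 m2_277
  have h279 : ∀ u < 17298, (fun u => chkFix tab mwordsA u) u = true := ext_range (a := 17236) (len := 62) h278 m2_278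
  have h280 : ∀ u < 17360, (fun u => chkFix tab mwordsA u) u = true := ext_range (a := 17298) (len := 62) h279 m2_279
  have h281 : ∀ u < 17422, (fun u => chkFix tab mwordsA u) u = true := ext_range (a := 17360) (len := 62) h280 m2_280
  have h282 : ∀ u < 17484, (fun u => chkFix tab mwordsA u) u = true := ext_range (a := 17422) (len := 62) h281 m2_281
  have h283 : ∀ u < 17546, (fun u => chkFix tab mwordsA u) u = true := ext_range (a := 17484) (len := 62) h282 m2_282
  have h284 : ∀ u < 17608, (fun u => chkFix tab mwordsA u) u = true := ext_range (a := 17546) (len := 62) h283 m2_283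
  have h285 : ∀ u < 17670, (fun u => chkFix tab mwordsA u) u = true := ext_range (a := 17608) (len := 62) h284 m2_284
  have h286 : ∀ u < 17732, (fun u => chkFix tab mwordsA u) u = true := ext_range (a := 17670) (len := 62) h285 m2_285
  have h287 : ∀ u < 17794, (fun u => chkFix tab mwordsA u) u = true := ext_range (a := 17732) (len := 62) h286 m2_286
  have h288 : ∀ u < 17856, (fun u => chkFix tab mwordsA u) u = true := ext_range (a := 17794) (len := 62) h287 m2_287
  have h289 : ∀ u < 17918, (fun u => chkFix tab mwordsA u) u = true := ext_range (a := 17856) (len := 62) h288 m2_288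
  have h290 : ∀ u < 17980, (fun u => chkFix tab mwordsA u) u = true := ext_range (a := 17918) (len := 62) h289 m2_289
  have h291 : ∀ u < 18042, (fun u => chkFix tab mwordsA u) u = true := ext_range (a := 17980) (len := 62) h290 m2_290
  have h292 : ∀ u < 18104, (fun u => chkFix tab mwordsA u) u = true := ext_range (a := 18042) (len := 62) h291 m2_291
  have h293 : ∀ u < 18166, (fun u => chkFix tab mwordsA u) u = true := ext_range (a := 18104) (len := 62) h292 m2_292
  have h294 : ∀ u < 18228, (fun u => chkFix tab mwordsA u) u = true := ext_range (a := 18166) (len := 62) h293 m2_293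
  have h295 : ∀ u < 18290, (fun u => chkFix tab mwordsA u) u = true := ext_range (a := 18228) (len := 62) h294 m2_294
  have h296 : ∀ u < 18352, (fun u => chkFix tab mwordsA u) u = true := ext_range (a := 18290) (len := 62) h295 m2_295
  have h297 : ∀ u < 18414, (fun u => chkFix tab mwordsA u) u = true := ext_range (a := 18352) (len := 62) h296 m2_296
  have h298 : ∀ u < 18476, (fun u => chkFix tab mwordsA u) u = true := ext_range (a := 18414) (len := 62) h297 m2_297
  have h299 : ∀ u < 18538, (fun u => chkFix tab mwordsA u) u = true := ext_range (a := 18476) (len := 62) h298 m2_298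
  have h300 : ∀ u < 18600, (fun u => chkFix tab mwordsA u) u = true := ext_range (a := 18538) (len := 62) h299 m2_299
  have h301 : ∀ u < 18662, (fun u => chkFix tab mwordsA u) u = true := ext_range (a := 18600) (len := 62) h300 m2_300
  have h302 : ∀ u < 18724, (fun u => chkFix tab mwordsA u) u = true := ext_range (a := 18662) (len := 62) h301 m2_301
  have h303 : ∀ u < 18786, (fun u => chkFix tab mwordsA u) u = true := ext_range (a := 18724) (len := 62) h302 m2_302
  have h304 : ∀ u < 18848, (fun u => chkFix tab mwordsA u) u = true := ext_range (a := 18786) (len := 62) h303 m2_303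
  have h305 : ∀ u < 18910, (fun u => chkFix tab mwordsA u) u = true := ext_range (a := 18848) (len := 62) h304 m2_304
  have h306 : ∀ u < 18972, (fun u => chkFix tab mwordsA u) u = true := ext_range (a := 18910) (len := 62) h305 m2_305
  have h307 : ∀ u < 19034, (fun u => chkFix tab mwordsA u) u = true := ext_range (a := 18972) (len := 62) h306 m2_306
  have h308 : ∀ u < 19096, (fun u => chkFix tab mwordsA u) u = true := ext_range (a := 19034) (len := 62) h307 m2_307
  have h309 : ∀ u < 19158, (fun u => chkFix tab mwordsA u) u = true := ext_range (a := 19096) (len := 62) h308 m2_308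
  have h310 : ∀ u < 19220, (fun u => chkFix tab mwordsA u) u = true := ext_range (a := 19158) (len := 62) h309 m2_309
  have h311 : ∀ u < 19282, (fun u => chkFix tab mwordsA u) u = true := ext_range (a := 19220) (len := 62) h310 m2_310
  have h312 : ∀ u < 19344, (fun u => chkFix tab mwordsA u) u = true := ext_range (a := 19282) (len := 62) h311 m2_311
  have h313 : ∀ u < 19406, (fun u => chkFix tab mwordsA u) u = true := ext_range (a := 19344) (len := 62) h312 m2_312
  have h314 : ∀ u < 19468, (fun u => chkFix tab mwordsA u) u = true := ext_range (a := 19406) (len := 62) h313 m2_313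
  have h315 : ∀ u < 19530, (fun u => chkFix tab mwordsA u) u = true := ext_range (a := 19468) (len := 62) h314 m2_314
  have h316 : ∀ u < 19592, (fun u => chkFix tab mwordsA u) u = true := ext_range (a := 19530) (len := 62) h315 m2_315
  have h317 : ∀ u < 19654, (fun u => chkFix tab mwordsA u) u = true := ext_range (a := 19592) (len := 62) h316 m2_316
  have h318 : ∀ u < 19716, (fun u => chkFix tab mwordsA u) u = true := ext_range (a := 19654) (len := 62) h317 m2_317
  have h319 : ∀ u < 19778, (fun u => chkFix tab mwordsA u) u = true := ext_range (a := 19716) (len := 62) h318 m2_318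
  have h320 : ∀ u < 19840, (fun u => chkFix tab mwordsA u) u = true := ext_range (a := 19778) (len := 62) h319 m2_319
  have h321 : ∀ u < 19902, (fun u => chkFix tab mwordsA u) u = true := ext_range (a := 19840) (len := 62) h320 m2_320
  have h322 : ∀ u < 19964, (fun u => chkFix tab mwordsA u) u = true := ext_range (a := 19902) (len := 62) h321 m2_321
  have h323 : ∀ u < 20026, (fun u => chkFix tab mwordsA u) u = true := ext_range (a := 19964) (len := 62) h322 m2_322
  have h324 : ∀ u < 20088, (fun u => chkFix tab mwordsA u) u = true := ext_range (a := 20026) (len := 62) h323 m2_323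
  have h325 : ∀ u < 20150, (fun u => chkFix tab mwordsA u) u = true := ext_range (a := 20088) (len := 62) h324 m2_324
  have h326 : ∀ u < 20212, (fun u => chkFix tab mwordsA u) u = true := ext_range (a := 20150) (len := 62) h325 m2_325
  have h327 : ∀ u < 20274, (fun u => chkFix tab mwordsA u) u = true := ext_range (a := 20212) (len := 62) h326 m2_326
  have h328 : ∀ u < 20336, (fun u => chkFix tab mwordsA u) u = true := ext_range (a := 20274) (len := 62) h327 m2_327
  have h329 : ∀ u < 20398, (fun u => chkFix tab mwordsA u) u = true := ext_range (a := 20336) (len := 62) h328 m2_328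
  have h330 : ∀ u < 20460, (fun u => chkFix tab mwordsA u) u = true := ext_range (a := 20398) (len := 62) h329 m2_329
  have h331 : ∀ u < 20522, (fun u => chkFix tab mwordsA u) u = true := ext_range (a := 20460) (len := 62) h330 m2_330
  have h332 : ∀ u < 20584, (fun u => chkFix tab mwordsA u) u = true := ext_range (a := 20522) (len := 62) h331 m2_331
  have h333 : ∀ u < 20646, (fun u => chkFix tab mwordsA u) u = true := ext_range (a := 20584) (len := 62) h332 m2_332
  have h334 : ∀ u < 20708, (fun u => chkFix tab mwordsA u) u = true := ext_range (a := 20646) (len := 62) h333 m2_333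
  have h335 : ∀ u < 20770, (fun u => chkFix tab mwordsA u) u = true := ext_range (a := 20708) (len := 62) h334 m2_334
  have h336 : ∀ u < 20832, (fun u => chkFix tab mwordsA u) u = true := ext_range (a := 20770) (len := 62) h335 m2_335
  have h337 : ∀ u < 20894, (fun u => chkFix tab mwordsA u) u = true := ext_range (a := 20832) (len := 62) h336 m2_336
  have h338 : ∀ u < 20956, (fun u => chkFix tab mwordsA u) u = true := ext_range (a := 20894) (len := 62) h337 m2_337
  have h339 : ∀ u < 21018, (fun u => chkFix tab mwordsA u) u = true := ext_range (a := 20956) (len := 62) h338 m2_338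
  have h340 : ∀ u < 21080, (fun u => chkFix tab mwordsA u) u = true := ext_range (a := 21018) (len := 62) h339 m2_339
  have h341 : ∀ u < 21142, (fun u => chkFix tab mwordsA u) u = true := ext_range (a := 21080) (len := 62) h340 m2_340
  have h342 : ∀ u < 21204, (fun u => chkFix tab mwordsA u) u = true := ext_range (a := 21142) (len := 62) h341 m2_341
  have h343 : ∀ u < 21266, (fun u => chkFix tab mwordsA u) u = true := ext_range (a := 21204) (len := 62) h342 m2_342
  have h344 : ∀ u < 21328, (fun u => chkFix tab mwordsA u) u = true := ext_range (a := 21266) (len := 62) h343 m2_343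
  have h345 : ∀ u < 21390, (fun u => chkFix tab mwordsA u) u = true := ext_range (a := 21328) (len := 62) h344 m2_344
  have h346 : ∀ u < 21452, (fun u => chkFix tab mwordsA u) u = true := ext_range (a := 21390) (len := 62) h345 m2_345
  have h347 : ∀ u < 21514, (fun u => chkFix tab mwordsA u) u = true := ext_range (a := 21452) (len := 62) h346 m2_346
  have h348 : ∀ u < 21576, (fun u => chkFix tab mwordsA u) u = true := ext_range (a := 21514) (len := 62) h347 m2_347
  have h349 : ∀ u < 21638, (fun u => chkFix tab mwordsA u) u = true := ext_range (a := 21576) (len := 62) h348 m2_348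
  have h350 : ∀ u < 21700, (fun u => chkFix tab mwordsA u) u = true := ext_range (a := 21638) (len := 62) h349 m2_349
  have h351 : ∀ u < 21762, (fun u => chkFix tab mwordsA u) u = true := ext_range (a := 21700) (len := 62) h350 m2_350
  have h352 : ∀ u < 21824, (fun u => chkFix tab mwordsA u) u = true := ext_range (a := 21762) (len := 62) h351 m2_351
  have h353 : ∀ u < 21886, (fun u => chkFix tab mwordsA u) u = true := ext_range (a := 21824) (len := 62) h352 m2_352
  have h354 : ∀ u < 21948, (fun u => chkFix tab mwordsA u) u = true := ext_range (a := 21886) (len := 62) h353 m2_353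
  have h355 : ∀ u < 22010, (fun u => chkFix tab mwordsA u) u = true := ext_range (a := 21948) (len := 62) h354 m2_354
  have h356 : ∀ u < 22072, (fun u => chkFix tab mwordsA u) u = true := ext_range (a := 22010) (len := 62) h355 m2_355
  have h357 : ∀ u < 22134, (fun u => chkFix tab mwordsA u) u = true := ext_range (a := 22072) (len := 62) h356 m2_356
  have h358 : ∀ u < 22196, (fun u => chkFix tab mwordsA u) u = true := ext_range (a := 22134) (len := 62) h357 m2_357
  have h359 : ∀ u < 22258, (fun u => chkFix tab mwordsA u) u = true := ext_range (a := 22196) (len := 62) h358 m2_358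
  have h360 : ∀ u < 22320, (fun u => chkFix tab mwordsA u) u = true := ext_range (a := 22258) (len := 62) h359 m2_359
  have h361 : ∀ u < 22382, (fun u => chkFix tab mwordsA u) u = true := ext_range (a := 22320) (len := 62) h360 m2_360
  have h362 : ∀ u < 22444, (fun u => chkFix tab mwordsA u) u = true := ext_range (a := 22382) (len := 62) h361 m2_361
  have h363 : ∀ u < 22506, (fun u => chkFix tab mwordsA u) u = true := ext_range (a := 22444) (len := 62) h362 m2_362
  have h364 : ∀ u < 22568, (fun u => chkFix tab mwordsA u) u = true := ext_range (a := 22506) (len := 62) h363 m2_363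
  have h365 : ∀ u < 22630, (fun u => chkFix tab mwordsA u) u = true := ext_range (a := 22568) (len := 62) h364 m2_364
  have h366 : ∀ u < 22692, (fun u => chkFix tab mwordsA u) u = true := ext_range (a := 22630) (len := 62) h365 m2_365
  have h367 : ∀ u < 22754, (fun u => chkFix tab mwordsA u) u = true := ext_range (a := 22692) (len := 62) h366 m2_366
  have h368 : ∀ u < 22816, (fun u => chkFix tab mwordsA u) u = true := ext_range (a := 22754) (len := 62) h367 m2_367
  have h369 : ∀ u < 22878, (fun u => chkFix tab mwordsA u) u = true := ext_range (a := 22816) (len := 62) h368 m2_368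
  have h370 : ∀ u < 22940, (fun u => chkFix tab mwordsA u) u = true := ext_range (a := 22878) (len := 62) h369 m2_369
  have h371 : ∀ u < 23002, (fun u => chkFix tab mwordsA u) u = true := ext_range (a := 22940) (len := 62) h370 m2_370
  have h372 : ∀ u < 23064, (fun u => chkFix tab mwordsA u) u = true := ext_range (a := 23002) (len := 62) h371 m2_371
  have h373 : ∀ u < 23126, (fun u => chkFix tab mwordsA u) u = true := ext_range (a := 23064) (len := 62) h372 m2_372
  have h374 : ∀ u < 23188, (fun u => chkFix tab mwordsA u) u = true := ext_range (a := 23126) (len := 62) h373 m2_373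
  have h375 : ∀ u < 23250, (fun u => chkFix tab mwordsA u) u = true := ext_range (a := 23188) (len := 62) h374 m2_374
  have h376 : ∀ u < 23312, (fun u => chkFix tab mwordsA u) u = true := ext_range (a := 23250) (len := 62) h375 m2_375
  have h377 : ∀ u < 23374, (fun u => chkFix tab mwordsA u) u = true := ext_range (a := 23312) (len := 62) h376 m2_376
  have h378 : ∀ u < 23436, (fun u => chkFix tab mwordsA u) u = true := ext_range (a := 23374) (len := 62) h377 m2_377
  have h379 : ∀ u < 23498, (fun u => chkFix tab mwordsA u) u = true := ext_range (a := 23436) (len := 62) h378 m2_378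
  have h380 : ∀ u < 23560, (fun u => chkFix tab mwordsA u) u = true := ext_range (a := 23498) (len := 62) h379 m2_379
  have h381 : ∀ u < 23622, (fun u => chkFix tab mwordsA u) u = true := ext_range (a := 23560) (len := 62) h380 m2_380
  have h382 : ∀ u < 23684, (fun u => chkFix tab mwordsA u) u = true := ext_range (a := 23622) (len := 62) h381 m2_381
  have h383 : ∀ u < 23746, (fun u => chkFix tab mwordsA u) u = true := ext_range (a := 23684) (len := 62) h382 m2_382
  have h384 : ∀ u < 23808, (fun u => chkFix tab mwordsA u) u = true := ext_range (a := 23746) (len := 62) h383 m2_383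
  have h385 : ∀ u < 23870, (fun u => chkFix tab mwordsA u) u = true := ext_range (a := 23808) (len := 62) h384 m2_384
  have h386 : ∀ u < 23932, (fun u => chkFix tab mwordsA u) u = true := ext_range (a := 23870) (len := 62) h385 m2_385
  have h387 : ∀ u < 23994, (fun u => chkFix tab mwordsA u) u = true := ext_range (a := 23932) (len := 62) h386 m2_386
  have h388 : ∀ u < 24056, (fun u => chkFix tab mwordsA u) u = true := ext_range (a := 23994) (len := 62) h387 m2_387
  have h389 : ∀ u < 24118, (fun u => chkFix tab mwordsA u) u = true := ext_range (a := 24056) (len := 62) h388 m2_388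
  have h390 : ∀ u < 24180, (fun u => chkFix tab mwordsA u) u = true := ext_range (a := 24118) (len := 62) h389 m2_389
  have h391 : ∀ u < 24242, (fun u => chkFix tab mwordsA u) u = true := ext_range (a := 24180) (len := 62) h390 m2_390
  have h392 : ∀ u < 24304, (fun u => chkFix tab mwordsA u) u = true := ext_range (a := 24242) (len := 62) h391 m2_391
  have h393 : ∀ u < 24366, (fun u => chkFix tab mwordsA u) u = true := ext_range (a := 24304) (len := 62) h392 m2_392
  have h394 : ∀ u < 24428, (fun u => chkFix tab mwordsA u) u = true := ext_range (a := 24366) (len := 62) h393 m2_393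
  have h395 : ∀ u < 24490, (fun u => chkFix tab mwordsA u) u = true := ext_range (a := 24428) (len := 62) h394 m2_394
  have h396 : ∀ u < 24552, (fun u => chkFix tab mwordsA u) u = true := ext_range (a := 24490) (len := 62) h395 m2_395
  have h397 : ∀ u < 24614, (fun u => chkFix tab mwordsA u) u = true := ext_range (a := 24552) (len := 62) h396 m2_396
  have h398 : ∀ u < 24676, (fun u => chkFix tab mwordsA u) u = true := ext_range (a := 24614) (len := 62) h397 m2_397
  have h399 : ∀ u < 24738, (fun u => chkFix tab mwordsA u) u = true := ext_range (a := 24676) (len := 62) h398 m2_398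
  have h400 : ∀ u < 24800, (fun u => chkFix tab mwordsA u) u = true := ext_range (a := 24738) (len := 62) h399 m2_399
  have h401 : ∀ u < 24862, (fun u => chkFix tab mwordsA u) u = true := ext_range (a := 24800) (len := 62) h400 m2_400
  have h402 : ∀ u < 24924, (fun u => chkFix tab mwordsA u) u = true := ext_range (a := 24862) (len := 62) h401 m2_401
  have h403 : ∀ u < 24986, (fun u => chkFix tab mwordsA u) u = true := ext_range (a := 24924) (len := 62) h402 m2_402
  have h404 : ∀ u < 25048, (fun u => chkFix tab mwordsA u) u = true := ext_range (a := 24986) (len := 62) h403 m2_403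
  have h405 : ∀ u < 25110, (fun u => chkFix tab mwordsA u) u = true := ext_range (a := 25048) (len := 62) h404 m2_404
  have h406 : ∀ u < 25172, (fun u => chkFix tab mwordsA u) u = true := ext_range (a := 25110) (len := 62) h405 m2_405
  have h407 : ∀ u < 25234, (fun u => chkFix tab mwordsA u) u = true := ext_range (a := 25172) (len := 62) h406 m2_406
  have h408 : ∀ u < 25296, (fun u => chkFix tab mwordsA u) u = true := ext_range (a := 25234) (len := 62) h407 m2_407
  have h409 : ∀ u < 25358, (fun u => chkFix tab mwordsA u) u = true := ext_range (a := 25296) (len := 62) h408 m2_408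
  have h410 : ∀ u < 25420, (fun u => chkFix tab mwordsA u) u = true := ext_range (a := 25358) (len := 62) h409 m2_409
  have h411 : ∀ u < 25482, (fun u => chkFix tab mwordsA u) u = true := ext_range (a := 25420) (len := 62) h410 m2_410
  have h412 : ∀ u < 25544, (fun u => chkFix tab mwordsA u) u = true := ext_range (a := 25482) (len := 62) h411 m2_411
  have h413 : ∀ u < 25606, (fun u => chkFix tab mwordsA u) u = true := ext_range (a := 25544) (len := 62) h412 m2_412
  have h414 : ∀ u < 25668, (fun u => chkFix tab mwordsA u) u = true := ext_range (a := 25606) (len := 62) h413 m2_413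
  have h415 : ∀ u < 25730, (fun u => chkFix tab mwordsA u) u = true := ext_range (a := 25668) (len := 62) h414 m2_414
  have h416 : ∀ u < 25792, (fun u => chkFix tab mwordsA u) u = true := ext_range (a := 25730) (len := 62) h415 m2_415
  have h417 : ∀ u < 25854, (fun u => chkFix tab mwordsA u) u = true := ext_range (a := 25792) (len := 62) h416 m2_416
  have h418 : ∀ u < 25916, (fun u => chkFix tab mwordsA u) u = true := ext_range (a := 25854) (len := 62) h417 m2_417
  have h419 : ∀ u < 25978, (fun u => chkFix tab mwordsA u) u = true := ext_range (a := 25916) (len := 62) h418 m2_418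
  have h420 : ∀ u < 26040, (fun u => chkFix tab mwordsA u) u = true := ext_range (a := 25978) (len := 62) h419 m2_419
  have h421 : ∀ u < 26102, (fun u => chkFix tab mwordsA u) u = true := ext_range (a := 26040) (len := 62) h420 m2_420
  have h422 : ∀ u < 26164, (fun u => chkFix tab mwordsA u) u = true := ext_range (a := 26102) (len := 62) h421 m2_421
  have h423 : ∀ u < 26226, (fun u => chkFix tab mwordsA u) u = true := ext_range (a := 26164) (len := 62) h422 m2_422
  have h424 : ∀ u < 26288, (fun u => chkFix tab mwordsA u) u = true := ext_range (a := 26226) (len := 62) h423 m2_423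
  have h425 : ∀ u < 26350, (fun u => chkFix tab mwordsA u) u = true := ext_range (a := 26288) (len := 62) h424 m2_424
  have h426 : ∀ u < 26412, (fun u => chkFix tab mwordsA u) u = true := ext_range (a := 26350) (len := 62) h425 m2_425
  have h427 : ∀ u < 26474, (fun u => chkFix tab mwordsA u) u = true := ext_range (a := 26412) (len := 62) h426 m2_426
  have h428 : ∀ u < 26536, (fun u => chkFix tab mwordsA u) u = true := ext_range (a := 26474) (len := 62) h427 m2_427
  have h429 : ∀ u < 26598, (fun u => chkFix tab mwordsA u) u = true := ext_range (a := 26536) (len := 62) h428 m2_428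
  have h430 : ∀ u < 26660, (fun u => chkFix tab mwordsA u) u = true := ext_range (a := 26598) (len := 62) h429 m2_429
  have h431 : ∀ u < 26722, (fun u => chkFix tab mwordsA u) u = true := ext_range (a := 26660) (len := 62) h430 m2_430
  have h432 : ∀ u < 26784, (fun u => chkFix tab mwordsA u) u = true := ext_range (a := 26722) (len := 62) h431 m2_431
  have h433 : ∀ u < 26846, (fun u => chkFix tab mwordsA u) u = true := ext_range (a := 26784) (len := 62) h432 m2_432
  have h434 : ∀ u < 26908, (fun u => chkFix tab mwordsA u) u = true := ext_range (a := 26846) (len := 62) h433 m2_433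
  have h435 : ∀ u < 26970, (fun u => chkFix tab mwordsA u) u = true := ext_range (a := 26908) (len := 62) h434 m2_434
  have h436 : ∀ u < 27032, (fun u => chkFix tab mwordsA u) u = true := ext_range (a := 26970) (len := 62) h435 m2_435
  have h437 : ∀ u < 27094, (fun u => chkFix tab mwordsA u) u = true := ext_range (a := 27032) (len := 62) h436 m2_436
  have h438 : ∀ u < 27156, (fun u => chkFix tab mwordsA u) u = true := ext_range (a := 27094) (len := 62) h437 m2_437
  have h439 : ∀ u < 27218, (fun u => chkFix tab mwordsA u) u = true := ext_range (a := 27156) (len := 62) h438 m2_438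
  have h440 : ∀ u < 27280, (fun u => chkFix tab mwordsA u) u = true := ext_range (a := 27218) (len := 62) h439 m2_439
  have h441 : ∀ u < 27342, (fun u => chkFix tab mwordsA u) u = true := ext_range (a := 27280) (len := 62) h440 m2_440
  have h442 : ∀ u < 27404, (fun u => chkFix tab mwordsA u) u = true := ext_range (a := 27342) (len := 62) h441 m2_441
  have h443 : ∀ u < 27466, (fun u => chkFix tab mwordsA u) u = true := ext_range (a := 27404) (len := 62) h442 m2_442
  have h444 : ∀ u < 27528, (fun u => chkFix tab mwordsA u) u = true := ext_range (a := 27466) (len := 62) h443 m2_443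
  have h445 : ∀ u < 27590, (fun u => chkFix tab mwordsA u) u = true := ext_range (a := 27528) (len := 62) h444 m2_444
  have h446 : ∀ u < 27652, (fun u => chkFix tab mwordsA u) u = true := ext_range (a := 27590) (len := 62) h445 m2_445
  have h447 : ∀ u < 27714, (fun u => chkFix tab mwordsA u) u = true := ext_range (a := 27652) (len := 62) h446 m2_446
  have h448 : ∀ u < 27776, (fun u => chkFix tab mwordsA u) u = true := ext_range (a := 27714) (len := 62) h447 m2_447
  have h449 : ∀ u < 27838, (fun u => chkFix tab mwordsA u) u = true := ext_range (a := 27776) (len := 62) h448 m2_448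
  have h450 : ∀ u < 27900, (fun u => chkFix tab mwordsA u) u = true := ext_range (a := 27838) (len := 62) h449 m2_449
  have h451 : ∀ u < 27962, (fun u => chkFix tab mwordsA u) u = true := ext_range (a := 27900) (len := 62) h450 m2_450
  have h452 : ∀ u < 28024, (fun u => chkFix tab mwordsA u) u = true := ext_range (a := 27962) (len := 62) h451 m2_451
  have h453 : ∀ u < 28086, (fun u => chkFix tab mwordsA u) u = true := ext_range (a := 28024) (len := 62) h452 m2_452
  have h454 : ∀ u < 28148, (fun u => chkFix tab mwordsA u) u = true := ext_range (a := 28086) (len := 62) h453 m2_453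
  have h455 : ∀ u < 28210, (fun u => chkFix tab mwordsA u) u = true := ext_range (a := 28148) (len := 62) h454 m2_454
  have h456 : ∀ u < 28272, (fun u => chkFix tab mwordsA u) u = true := ext_range (a := 28210) (len := 62) h455 m2_455
  have h457 : ∀ u < 28334, (fun u => chkFix tab mwordsA u) u = true := ext_range (a := 28272) (len := 62) h456 m2_456
  have h458 : ∀ u < 28396, (fun u => chkFix tab mwordsA u) u = true := ext_range (a := 28334) (len := 62) h457 m2_457
  have h459 : ∀ u < 28458, (fun u => chkFix tab mwordsA u) u = true := ext_range (a := 28396) (len := 62) h458 m2_458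
  have h460 : ∀ u < 28520, (fun u => chkFix tab mwordsA u) u = true := ext_range (a := 28458) (len := 62) h459 m2_459
  have h461 : ∀ u < 28582, (fun u => chkFix tab mwordsA u) u = true := ext_range (a := 28520) (len := 62) h460 m2_460
  have h462 : ∀ u < 28644, (fun u => chkFix tab mwordsA u) u = true := ext_range (a := 28582) (len := 62) h461 m2_461
  have h463 : ∀ u < 28706, (fun u => chkFix tab mwordsA u) u = true := ext_range (a := 28644) (len := 62) h462 m2_462
  have h464 : ∀ u < 28768, (fun u => chkFix tab mwordsA u) u = true := ext_range (a := 28706) (len := 62) h463 m2_463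
  have h465 : ∀ u < 28830, (fun u => chkFix tab mwordsA u) u = true := ext_range (a := 28768) (len := 62) h464 m2_464
  have h466 : ∀ u < 28892, (fun u => chkFix tab mwordsA u) u = true := ext_range (a := 28830) (len := 62) h465 m2_465
  have h467 : ∀ u < 28954, (fun u => chkFix tab mwordsA u) u = true := ext_range (a := 28892) (len := 62) h466 m2_466
  have h468 : ∀ u < 29016, (fun u => chkFix tab mwordsA u) u = true := ext_range (a := 28954) (len := 62) h467 m2_467
  have h469 : ∀ u < 29078, (fun u => chkFix tab mwordsA u) u = true := ext_range (a := 29016) (len := 62) h468 m2_468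
  have h470 : ∀ u < 29140, (fun u => chkFix tab mwordsA u) u = true := ext_range (a := 29078) (len := 62) h469 m2_469
  have h471 : ∀ u < 29202, (fun u => chkFix tab mwordsA u) u = true := ext_range (a := 29140) (len := 62) h470 m2_470
  have h472 : ∀ u < 29264, (fun u => chkFix tab mwordsA u) u = true := ext_range (a := 29202) (len := 62) h471 m2_471
  have h473 : ∀ u < 29326, (fun u => chkFix tab mwordsA u) u = true := ext_range (a := 29264) (len := 62) h472 m2_472
  have h474 : ∀ u < 29388, (fun u => chkFix tab mwordsA u) u = true := ext_range (a := 29326) (len := 62) h473 m2_473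
  have h475 : ∀ u < 29450, (fun u => chkFix tab mwordsA u) u = true := ext_range (a := 29388) (len := 62) h474 m2_474
  have h476 : ∀ u < 29512, (fun u => chkFix tab mwordsA u) u = true := ext_range (a := 29450) (len := 62) h475 m2_475
  have h477 : ∀ u < 29574, (fun u => chkFix tab mwordsA u) u = true := ext_range (a := 29512) (len := 62) h476 m2_476
  have h478 : ∀ u < 29636, (fun u => chkFix tab mwordsA u) u = true := ext_range (a := 29574) (len := 62) h477 m2_477
  have h479 : ∀ u < 29698, (fun u => chkFix tab mwordsA u) u = true := ext_range (a := 29636) (len := 62) h478 m2_478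
  have h480 : ∀ u < 29760, (fun u => chkFix tab mwordsA u) u = true := ext_range (a := 29698) (len := 62) h479 m2_479
  have h481 : ∀ u < 29822, (fun u => chkFix tab mwordsA u) u = true := ext_range (a := 29760) (len := 62) h480 m2_480
  have h482 : ∀ u < 29884, (fun u => chkFix tab mwordsA u) u = true := ext_range (a := 29822) (len := 62) h481 m2_481
  have h483 : ∀ u < 29946, (fun u => chkFix tab mwordsA u) u = true := ext_range (a := 29884) (len := 62) h482 m2_482
  have h484 : ∀ u < 30008, (fun u => chkFix tab mwordsA u) u = true := ext_range (a := 29946) (len := 62) h483 m2_483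
  have h485 : ∀ u < 30070, (fun u => chkFix tab mwordsA u) u = true := ext_range (a := 30008) (len := 62) h484 m2_484
  have h486 : ∀ u < 30132, (fun u => chkFix tab mwordsA u) u = true := ext_range (a := 30070) (len := 62) h485 m2_485
  have h487 : ∀ u < 30194, (fun u => chkFix tab mwordsA u) u = true := ext_range (a := 30132) (len := 62) h486 m2_486
  have h488 : ∀ u < 30256, (fun u => chkFix tab mwordsA u) u = true := ext_range (a := 30194) (len := 62) h487 m2_487
  have h489 : ∀ u < 30318, (fun u => chkFix tab mwordsA u) u = true := ext_range (a := 30256) (len := 62) h488 m2_488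
  have h490 : ∀ u < 30380, (fun u => chkFix tab mwordsA u) u = true := ext_range (a := 30318) (len := 62) h489 m2_489
  have h491 : ∀ u < 30442, (fun u => chkFix tab mwordsA u) u = true := ext_range (a := 30380) (len := 62) h490 m2_490
  have h492 : ∀ u < 30504, (fun u => chkFix tab mwordsA u) u = true := ext_range (a := 30442) (len := 62) h491 m2_491
  have h493 : ∀ u < 30566, (fun u => chkFix tab mwordsA u) u = true := ext_range (a := 30504) (len := 62) h492 m2_492
  have h494 : ∀ u < 30628, (fun u => chkFix tab mwordsA u) u = true := ext_range (a := 30566) (len := 62) h493 m2_493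
  have h495 : ∀ u < 30690, (fun u => chkFix tab mwordsA u) u = true := ext_range (a := 30628) (len := 62) h494 m2_494
  have h496 : ∀ u < 30752, (fun u => chkFix tab mwordsA u) u = true := ext_range (a := 30690) (len := 62) h495 m2_495
  have h497 : ∀ u < 30814, (fun u => chkFix tab mwordsA u) u = true := ext_range (a := 30752) (len := 62) h496 m2_496
  have h498 : ∀ u < 30876, (fun u => chkFix tab mwordsA u) u = true := ext_range (a := 30814) (len := 62) h497 m2_497
  have h499 : ∀ u < 30938, (fun u => chkFix tab mwordsA u) u = true := ext_range (a := 30876) (len := 62) h498 m2_498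
  have h500 : ∀ u < 31000, (fun u => chkFix tab mwordsA u) u = true := ext_range (a := 30938) (len := 62) h499 m2_499
  have h501 : ∀ u < 31062, (fun u => chkFix tab mwordsA u) u = true := ext_range (a := 31000) (len := 62) h500 m2_500
  have h502 : ∀ u < 31124, (fun u => chkFix tab mwordsA u) u = true := ext_range (a := 31062) (len := 62) h501 m2_501
  have h503 : ∀ u < 31186, (fun u => chkFix tab mwordsA u) u = true := ext_range (a := 31124) (len := 62) h502 m2_502
  have h504 : ∀ u < 31248, (fun u => chkFix tab mwordsA u) u = true := ext_range (a := 31186) (len := 62) h503 m2_503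
  have h505 : ∀ u < 31310, (fun u => chkFix tab mwordsA u) u = true := ext_range (a := 31248) (len := 62) h504 m2_504
  have h506 : ∀ u < 31372, (fun u => chkFix tab mwordsA u) u = true := ext_range (a := 31310) (len := 62) h505 m2_505
  have h507 : ∀ u < 31434, (fun u => chkFix tab mwordsA u) u = true := ext_range (a := 31372) (len := 62) h506 m2_506
  have h508 : ∀ u < 31496, (fun u => chkFix tab mwordsA u) u = true := ext_range (a := 31434) (len := 62) h507 m2_507
  have h509 : ∀ u < 31558, (fun u => chkFix tab mwordsA u) u = true := ext_range (a := 31496) (len := 62) h508 m2_508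
  have h510 : ∀ u < 31620, (fun u => chkFix tab mwordsA u) u = true := ext_range (a := 31558) (len := 62) h509 m2_509
  have h511 : ∀ u < 31671, (fun u => chkFix tab mwordsA u) u = true := ext_range (a := 31620) (len := 51) h510 m2_510
  exact h511

theorem hO1 : ∀ u < 31671, chkO1 tab orb u = true := by
  have h0 : ∀ u < 0, (fun u => chkO1 tab orb u) u = true := range_zero
  have h1 : ∀ u < 342, (fun u => chkO1 tab orb u) u = true := ext_range (a := 0) (len := 342) h0 o1_0
  have h2 : ∀ u < 684, (fun u => chkO1 tab orb u) u = true := ext_range (a := 342) (len := 342) h1 o1_1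
  have h3 : ∀ u < 1026, (fun u => chkO1 tab orb u) u = true := ext_range (a := 684) (len := 342) h2 o1_2
  have h4 : ∀ u < 1368, (fun u => chkO1 tab orb u) u = true := ext_range (a := 1026) (len := 342) h3 o1_3
  have h5 : ∀ u < 1710, (fun u => chkO1 tab orb u) u = true := ext_range (a := 1368) (len := 342) h4 o1_4
  have h6 : ∀ u < 2052, (fun u => chkO1 tab orb u) u = true := ext_range (a := 1710) (len := 342) h5 o1_5
  have h7 : ∀ u < 2394, (fun u => chkO1 tab orb u) u = true := ext_range (a := 2052) (len := 342) h6 o1_6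
  have h8 : ∀ u < 2736, (fun u => chkO1 tab orb u) u = true := ext_range (a := 2394) (len := 342) h7 o1_7
  have h9 : ∀ u < 3078, (fun u => chkO1 tab orb u) u = true := ext_range (a := 2736) (len := 342) h8 o1_8
  have h10 : ∀ u < 3420, (fun u => chkO1 tab orb u) u = true := ext_range (a := 3078) (len := 342) h9 o1_9
  have h11 : ∀ u < 3762, (fun u => chkO1 tab orb u) u = true := ext_range (a := 3420) (len := 342) h10 o1_10
  have h12 : ∀ u < 4104, (fun u => chkO1 tab orb u) u = true := ext_range (a := 3762) (len := 342) h11 o1_11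
  have h13 : ∀ u < 4446, (fun u => chkO1 tab orb u) u = true := ext_range (a := 4104) (len := 342) h12 o1_12
  have h14 : ∀ u < 4788, (fun u => chkO1 tab orb u) u = true := ext_range (a := 4446) (len := 342) h13 o1_13
  have h15 : ∀ u < 5130, (fun u => chkO1 tab orb u) u = true := ext_range (a := 4788) (len := 342) h14 o1_14
  have h16 : ∀ u < 5472, (fun u => chkO1 tab orb u) u = true := ext_range (a := 5130) (len := 342) h15 o1_15
  have h17 : ∀ u < 5814, (fun u => chkO1 tab orb u) u = true := ext_range (a := 5472) (len := 342) h16 o1_16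
  have h18 : ∀ u < 6156, (fun u => chkO1 tab orb u) u = true := ext_range (a := 5814) (len := 342) h17 o1_17
  have h19 : ∀ u < 6498, (fun u => chkO1 tab orb u) u = true := ext_range (a := 6156) (len := 342) h18 o1_18
  have h20 : ∀ u < 6840, (fun u => chkO1 tab orb u) u = true := ext_range (a := 6498) (len := 342) h19 o1_19
  have h21 : ∀ u < 7182, (fun u => chkO1 tab orb u) u = true := ext_range (a := 6840) (len := 342) h20 o1_20
  have h22 : ∀ u < 7524, (fun u => chkO1 tab orb u) u = true := ext_range (a := 7182) (len := 342) h21 o1_21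
  have h23 : ∀ u < 7866, (fun u => chkO1 tab orb u) u = true := ext_range (a := 7524) (len := 342) h22 o1_22
  have h24 : ∀ u < 8208, (fun u => chkO1 tab orb u) u = true := ext_range (a := 7866) (len := 342) h23 o1_23
  have h25 : ∀ u < 8550, (fun u => chkO1 tab orb u) u = true := ext_range (a := 8208) (len := 342) h24 o1_24
  have h26 : ∀ u < 8892, (fun u => chkO1 tab orb u) u = true := ext_range (a := 8550) (len := 342) h25 o1_25
  have h27 : ∀ u < 9234, (fun u => chkO1 tab orb u) u = true := ext_range (a := 8892) (len := 342) h26 o1_26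
  have h28 : ∀ u < 9576, (fun u => chkO1 tab orb u) u = true := ext_range (a := 9234) (len := 342) h27 o1_27
  have h29 : ∀ u < 9918, (fun u => chkO1 tab orb u) u = true := ext_range (a := 9576) (len := 342) h28 o1_28
  have h30 : ∀ u < 10260, (fun u => chkO1 tab orb u) u = true := ext_range (a := 9918) (len := 342) h29 o1_29
  have h31 : ∀ u < 10602, (fun u => chkO1 tab orb u) u = true := ext_range (a := 10260) (len := 342) h30 o1_30
  have h32 : ∀ u < 10944, (fun u => chkO1 tab orb u) u = true := ext_range (a := 10602) (len := 342) h31 o1_31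
  have h33 : ∀ u < 11286, (fun u => chkO1 tab orb u) u = true := ext_range (a := 10944) (len := 342) h32 o1_32
  have h34 : ∀ u < 11628, (fun u => chkO1 tab orb u) u = true := ext_range (a := 11286) (len := 342) h33 o1_33
  have h35 : ∀ u < 11970, (fun u => chkO1 tab orb u) u = true := ext_range (a := 11628) (len := 342) h34 o1_34
  have h36 : ∀ u < 12312, (fun u => chkO1 tab orb u) u = true := ext_range (a := 11970) (len := 342) h35 o1_35
  have h37 : ∀ u < 12654, (fun u => chkO1 tab orb u) u = true := ext_range (a := 12312) (len := 342) h36 o1_36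
  have h38 : ∀ u < 12996, (fun u => chkO1 tab orb u) u = true := ext_range (a := 12654) (len := 342) h37 o1_37
  have h39 : ∀ u < 13338, (fun u => chkO1 tab orb u) u = true := ext_range (a := 12996) (len := 342) h38 o1_38
  have h40 : ∀ u < 13680, (fun u => chkO1 tab orb u) u = true := ext_range (a := 13338) (len := 342) h39 o1_39
  have h41 : ∀ u < 14022, (fun u => chkO1 tab orb u) u = true := ext_range (a := 13680) (len := 342) h40 o1_40
  have h42 : ∀ u < 14364, (fun u => chkO1 tab orb u) u = true := ext_range (a := 14022) (len := 342) h41 o1_41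
  have h43 : ∀ u < 14706, (fun u => chkO1 tab orb u) u = true := ext_range (a := 14364) (len := 342) h42 o1_42
  have h44 : ∀ u < 15048, (fun u => chkO1 tab orb u) u = true := ext_range (a := 14706) (len := 342) h43 o1_43
  have h45 : ∀ u < 15390, (fun u => chkO1 tab orb u) u = true := ext_range (a := 15048) (len := 342) h44 o1_44
  have h46 : ∀ u < 15732, (fun u => chkO1 tab orb u) u = true := ext_range (a := 15390) (len := 342) h45 o1_45
  have h47 : ∀ u < 16074, (fun u => chkO1 tab orb u) u = true := ext_range (a := 15732) (len := 342) h46 o1_46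
  have h48 : ∀ u < 16416, (fun u => chkO1 tab orb u) u = true := ext_range (a := 16074) (len := 342) h47 o1_47
  have h49 : ∀ u < 16758, (fun u => chkO1 tab orb u) u = true := ext_range (a := 16416) (len := 342) h48 o1_48
  have h50 : ∀ u < 17100, (fun u => chkO1 tab orb u) u = true := ext_range (a := 16758) (len := 342) h49 o1_49
  have h51 : ∀ u < 17442, (fun u => chkO1 tab orb u) u = true := ext_range (a := 17100) (len := 342) h50 o1_50
  have h52 : ∀ u < 17784, (fun u => chkO1 tab orb u) u = true := ext_range (a := 17442) (len := 342) h51 o1_51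
  have h53 : ∀ u < 18126, (fun u => chkO1 tab orb u) u = true := ext_range (a := 17784) (len := 342) h52 o1_52
  have h54 : ∀ u < 18468, (fun u => chkO1 tab orb u) u = true := ext_range (a := 18126) (len := 342) h53 o1_53
  have h55 : ∀ u < 18810, (fun u => chkO1 tab orb u) u = true := ext_range (a := 18468) (len := 342) h54 o1_54
  have h56 : ∀ u < 19152, (fun u => chkO1 tab orb u) u = true := ext_range (a := 18810) (len := 342) h55 o1_55
  have h57 : ∀ u < 19494, (fun u => chkO1 tab orb u) u = true := ext_range (a := 19152) (len := 342) h56 o1_56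
  have h58 : ∀ u < 19836, (fun u => chkO1 tab orb u) u = true := ext_range (a := 19494) (len := 342) h57 o1_57
  have h59 : ∀ u < 20178, (fun u => chkO1 tab orb u) u = true := ext_range (a := 19836) (len := 342) h58 o1_58
  have h60 : ∀ u < 20520, (fun u => chkO1 tab orb u) u = true := ext_range (a := 20178) (len := 342) h59 o1_59
  have h61 : ∀ u < 20862, (fun u => chkO1 tab orb u) u = true := ext_range (a := 20520) (len := 342) h60 o1_60
  have h62 : ∀ u < 21204, (fun u => chkO1 tab orb u) u = true := ext_range (a := 20862) (len := 342) h61 o1_61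
  have h63 : ∀ u < 21546, (fun u => chkO1 tab orb u) u = true := ext_range (a := 21204) (len := 342) h62 o1_62
  have h64 : ∀ u < 21888, (fun u => chkO1 tab orb u) u = true := ext_range (a := 21546) (len := 342) h63 o1_63
  have h65 : ∀ u < 22230, (fun u => chkO1 tab orb u) u = true := ext_range (a := 21888) (len := 342) h64 o1_64
  have h66 : ∀ u < 22572, (fun u => chkO1 tab orb u) u = true := ext_range (a := 22230) (len := 342) h65 o1_65
  have h67 : ∀ u < 22914, (fun u => chkO1 tab orb u) u = true := ext_range (a := 22572) (len := 342) h66 o1_66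
  have h68 : ∀ u < 23256, (fun u => chkO1 tab orb u) u = true := ext_range (a := 22914) (len := 342) h67 o1_67
  have h69 : ∀ u < 23598, (fun u => chkO1 tab orb u) u = true := ext_range (a := 23256) (len := 342) h68 o1_68
  have h70 : ∀ u < 23940, (fun u => chkO1 tab orb u) u = true := ext_range (a := 23598) (len := 342) h69 o1_69
  have h71 : ∀ u < 24282, (fun u => chkO1 tab orb u) u = true := ext_range (a := 23940) (len := 342) h70 o1_70
  have h72 : ∀ u < 24624, (fun u => chkO1 tab orb u) u = true := ext_range (a := 24282) (len := 342) h71 o1_71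
  have h73 : ∀ u < 24966, (fun u => chkO1 tab orb u) u = true := ext_range (a := 24624) (len := 342) h72 o1_72
  have h74 : ∀ u < 25308, (fun u => chkO1 tab orb u) u = true := ext_range (a := 24966) (len := 342) h73 o1_73
  have h75 : ∀ u < 25650, (fun u => chkO1 tab orb u) u = true := ext_range (a := 25308) (len := 342) h74 o1_74
  have h76 : ∀ u < 25992, (fun u => chkO1 tab orb u) u = true := ext_range (a := 25650) (len := 342) h75 o1_75
  have h77 : ∀ u < 26334, (fun u => chkO1 tab orb u) u = true := ext_range (a := 25992) (len := 342) h76 o1_76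
  have h78 : ∀ u < 26676, (fun u => chkO1 tab orb u) u = true := ext_range (a := 26334) (len := 342) h77 o1_77
  have h79 : ∀ u < 27018, (fun u => chkO1 tab orb u) u = true := ext_range (a := 26676) (len := 342) h78 o1_78
  have h80 : ∀ u < 27360, (fun u => chkO1 tab orb u) u = true := ext_range (a := 27018) (len := 342) h79 o1_79
  have h81 : ∀ u < 27702, (fun u => chkO1 tab orb u) u = true := ext_range (a := 27360) (len := 342) h80 o1_80
  have h82 : ∀ u < 28044, (fun u => chkO1 tab orb u) u = true := ext_range (a := 27702) (len := 342) h81 o1_81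
  have h83 : ∀ u < 28386, (fun u => chkO1 tab orb u) u = true := ext_range (a := 28044) (len := 342) h82 o1_82
  have h84 : ∀ u < 28728, (fun u => chkO1 tab orb u) u = true := ext_range (a := 28386) (len := 342) h83 o1_83
  have h85 : ∀ u < 29070, (fun u => chkO1 tab orb u) u = true := ext_range (a := 28728) (len := 342) h84 o1_84
  have h86 : ∀ u < 29412, (fun u => chkO1 tab orb u) u = true := ext_range (a := 29070) (len := 342) h85 o1_85
  have h87 : ∀ u < 29754, (fun u => chkO1 tab orb u) u = true := ext_range (a := 29412) (len := 342) h86 o1_86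
  have h88 : ∀ u < 30096, (fun u => chkO1 tab orb u) u = true := ext_range (a := 29754) (len := 342) h87 o1_87
  have h89 : ∀ u < 30438, (fun u => chkO1 tab orb u) u = true := ext_range (a := 30096) (len := 342) h88 o1_88
  have h90 : ∀ u < 30780, (fun u => chkO1 tab orb u) u = true := ext_range (a := 30438) (len := 342) h89 o1_89
  have h91 : ∀ u < 31122, (fun u => chkO1 tab orb u) u = true := ext_range (a := 30780) (len := 342) h90 o1_90
  have h92 : ∀ u < 31464, (fun u => chkO1 tab orb u) u = true := ext_range (a := 31122) (len := 342) h91 o1_91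
  have h93 : ∀ u < 31671, (fun u => chkO1 tab orb u) u = true := ext_range (a := 31464) (len := 207) h92 o1_92
  exact h93

theorem hO2 : ∀ u < 31671, chkO2 tab orb u = true := by
  have h0 : ∀ u < 0, (fun u => chkO2 tab orb u) u = true := range_zero
  have h1 : ∀ u < 1334, (fun u => chkO2 tab orb u) u = true := ext_range (a := 0) (len := 1334) h0 o2_0
  have h2 : ∀ u < 2668, (fun u => chkO2 tab orb u) u = true := ext_range (a := 1334) (len := 1334) h1 o2_1
  have h3 : ∀ u < 4002, (fun u => chkO2 tab orb u) u = true := ext_range (a := 2668) (len := 1334) h2 o2_2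
  have h4 : ∀ u < 5336, (fun u => chkO2 tab orb u) u = true := ext_range (a := 4002) (len := 1334) h3 o2_3
  have h5 : ∀ u < 6670, (fun u => chkO2 tab orb u) u = true := ext_range (a := 5336) (len := 1334) h4 o2_4
  have h6 : ∀ u < 8004, (fun u => chkO2 tab orb u) u = true := ext_range (a := 6670) (len := 1334) h5 o2_5
  have h7 : ∀ u < 9338, (fun u => chkO2 tab orb u) u = true := ext_range (a := 8004) (len := 1334) h6 o2_6
  have h8 : ∀ u < 10672, (fun u => chkO2 tab orb u) u = true := ext_range (a := 9338) (len := 1334) h7 o2_7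
  have h9 : ∀ u < 12006, (fun u => chkO2 tab orb u) u = true := ext_range (a := 10672) (len := 1334) h8 o2_8
  have h10 : ∀ u < 13340, (fun u => chkO2 tab orb u) u = true := ext_range (a := 12006) (len := 1334) h9 o2_9
  have h11 : ∀ u < 14674, (fun u => chkO2 tab orb u) u = true := ext_range (a := 13340) (len := 1334) h10 o2_10
  have h12 : ∀ u < 16008, (fun u => chkO2 tab orb u) u = true := ext_range (a := 14674) (len := 1334) h11 o2_11
  have h13 : ∀ u < 17342, (fun u => chkO2 tab orb u) u = true := ext_range (a := 16008) (len := 1334) h12 o2_12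
  have h14 : ∀ u < 18676, (fun u => chkO2 tab orb u) u = true := ext_range (a := 17342) (len := 1334) h13 o2_13
  have h15 : ∀ u < 20010, (fun u => chkO2 tab orb u) u = true := ext_range (a := 18676) (len := 1334) h14 o2_14
  have h16 : ∀ u < 21344, (fun u => chkO2 tab orb u) u = true := ext_range (a := 20010) (len := 1334) h15 o2_15
  have h17 : ∀ u < 22678, (fun u => chkO2 tab orb u) u = true := ext_range (a := 21344) (len := 1334) h16 o2_16
  have h18 : ∀ u < 24012, (fun u => chkO2 tab orb u) u = true := ext_range (a := 22678) (len := 1334) h17 o2_17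
  have h19 : ∀ u < 25346, (fun u => chkO2 tab orb u) u = true := ext_range (a := 24012) (len := 1334) h18 o2_18
  have h20 : ∀ u < 26680, (fun u => chkO2 tab orb u) u = true := ext_range (a := 25346) (len := 1334) h19 o2_19
  have h21 : ∀ u < 28014, (fun u => chkO2 tab orb u) u = true := ext_range (a := 26680) (len := 1334) h20 o2_20
  have h22 : ∀ u < 29348, (fun u => chkO2 tab orb u) u = true := ext_range (a := 28014) (len := 1334) h21 o2_21
  have h23 : ∀ u < 30682, (fun u => chkO2 tab orb u) u = true := ext_range (a := 29348) (len := 1334) h22 o2_22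
  have h24 : ∀ u < 31671, (fun u => chkO2 tab orb u) u = true := ext_range (a := 30682) (len := 989) h23 o2_23
  exact h24

theorem hOL : ∀ u < 31671, Nat.blt (orb.lab u) 3 = true := by
  have h0 : ∀ u < 0, (fun u => Nat.blt (orb.lab u) 3) u = true := range_zero
  have h1 : ∀ u < 8000, (fun u => Nat.blt (orb.lab u) 3) u = true := ext_range (a := 0) (len := 8000) h0 ol_0
  have h2 : ∀ u < 16000, (fun u => Nat.blt (orb.lab u) 3) u = true := ext_range (a := 8000) (len := 8000) h1 ol_1
  have h3 : ∀ u < 24000, (fun u => Nat.blt (orb.lab u) 3) u = true := ext_range (a := 16000) (len := 8000) h2 ol_2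
  have h4 : ∀ u < 31671, (fun u => Nat.blt (orb.lab u) 3) u = true := ext_range (a := 24000) (len := 7671) h3 ol_3
  exact h4

theorem hSlp : ∀ u < 31671, chkSlp tab slp u = true := by
  have h0 : ∀ u < 0, (fun u => chkSlp tab slp u) u = true := range_zero
  have h1 : ∀ u < 589, (fun u => chkSlp tab slp u) u = true := ext_range (a := 0) (len := 589) h0 sl_0
  have h2 : ∀ u < 1178, (fun u => chkSlp tab slp u) u = true := ext_range (a := 589) (len := 589) h1 sl_1
  have h3 : ∀ u < 1767, (fun u => chkSlp tab slp u) u = true := ext_range (a := 1178) (len := 589) h2 sl_2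
  have h4 : ∀ u < 2356, (fun u => chkSlp tab slp u) u = true := ext_range (a := 1767) (len := 589) h3 sl_3
  have h5 : ∀ u < 2945, (fun u => chkSlp tab slp u) u = true := ext_range (a := 2356) (len := 589) h4 sl_4
  have h6 : ∀ u < 3534, (fun u => chkSlp tab slp u) u = true := ext_range (a := 2945) (len := 589) h5 sl_5
  have h7 : ∀ u < 4123, (fun u => chkSlp tab slp u) u = true := ext_range (a := 3534) (len := 589) h6 sl_6
  have h8 : ∀ u < 4712, (fun u => chkSlp tab slp u) u = true := ext_range (a := 4123) (len := 589) h7 sl_7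
  have h9 : ∀ u < 5301, (fun u => chkSlp tab slp u) u = true := ext_range (a := 4712) (len := 589) h8 sl_8
  have h10 : ∀ u < 5890, (fun u => chkSlp tab slp u) u = true := ext_range (a := 5301) (len := 589) h9 sl_9
  have h11 : ∀ u < 6479, (fun u => chkSlp tab slp u) u = true := ext_range (a := 5890) (len := 589) h10 sl_10
  have h12 : ∀ u < 7068, (fun u => chkSlp tab slp u) u = true := ext_range (a := 6479) (len := 589) h11 sl_11
  have h13 : ∀ u < 7657, (fun u => chkSlp tab slp u) u = true := ext_range (a := 7068) (len := 589) h12 sl_12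
  have h14 : ∀ u < 8246, (fun u => chkSlp tab slp u) u = true := ext_range (a := 7657) (len := 589) h13 sl_13
  have h15 : ∀ u < 8835, (fun u => chkSlp tab slp u) u = true := ext_range (a := 8246) (len := 589) h14 sl_14
  have h16 : ∀ u < 9424, (fun u => chkSlp tab slp u) u = true := ext_range (a := 8835) (len := 589) h15 sl_15
  have h17 : ∀ u < 10013, (fun u => chkSlp tab slp u) u = true := ext_range (a := 9424) (len := 589) h16 sl_16
  have h18 : ∀ u < 10602, (fun u => chkSlp tab slp u) u = true := ext_range (a := 10013) (len := 589) h17 sl_17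
  have h19 : ∀ u < 11191, (fun u => chkSlp tab slp u) u = true := ext_range (a := 10602) (len := 589) h18 sl_18
  have h20 : ∀ u < 11780, (fun u => chkSlp tab slp u) u = true := ext_range (a := 11191) (len := 589) h19 sl_19
  have h21 : ∀ u < 12369, (fun u => chkSlp tab slp u) u = true := ext_range (a := 11780) (len := 589) h20 sl_20
  have h22 : ∀ u < 12958, (fun u => chkSlp tab slp u) u = true := ext_range (a := 12369) (len := 589) h21 sl_21
  have h23 : ∀ u < 13547, (fun u => chkSlp tab slp u) u = true := ext_range (a := 12958) (len := 589) h22 sl_22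
  have h24 : ∀ u < 14136, (fun u => chkSlp tab slp u) u = true := ext_range (a := 13547) (len := 589) h23 sl_23
  have h25 : ∀ u < 14725, (fun u => chkSlp tab slp u) u = true := ext_range (a := 14136) (len := 589) h24 sl_24
  have h26 : ∀ u < 15314, (fun u => chkSlp tab slp u) u = true := ext_range (a := 14725) (len := 589) h25 sl_25
  have h27 : ∀ u < 15903, (fun u => chkSlp tab slp u) u = true := ext_range (a := 15314) (len := 589) h26 sl_26
  have h28 : ∀ u < 16492, (fun u => chkSlp tab slp u) u = true := ext_range (a := 15903) (len := 589) h27 sl_27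
  have h29 : ∀ u < 17081, (fun u => chkSlp tab slp u) u = true := ext_range (a := 16492) (len := 589) h28 sl_28
  have h30 : ∀ u < 17670, (fun u => chkSlp tab slp u) u = true := ext_range (a := 17081) (len := 589) h29 sl_29
  have h31 : ∀ u < 18259, (fun u => chkSlp tab slp u) u = true := ext_range (a := 17670) (len := 589) h30 sl_30
  have h32 : ∀ u < 18848, (fun u => chkSlp tab slp u) u = true := ext_range (a := 18259) (len := 589) h31 sl_31
  have h33 : ∀ u < 19437, (fun u => chkSlp tab slp u) u = true := ext_range (a := 18848) (len := 589) h32 sl_32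
  have h34 : ∀ u < 20026, (fun u => chkSlp tab slp u) u = true := ext_range (a := 19437) (len := 589) h33 sl_33
  have h35 : ∀ u < 20615, (fun u => chkSlp tab slp u) u = true := ext_range (a := 20026) (len := 589) h34 sl_34
  have h36 : ∀ u < 21204, (fun u => chkSlp tab slp u) u = true := ext_range (a := 20615) (len := 589) h35 sl_35
  have h37 : ∀ u < 21793, (fun u => chkSlp tab slp u) u = true := ext_range (a := 21204) (len := 589) h36 sl_36
  have h38 : ∀ u < 22382, (fun u => chkSlp tab slp u) u = true := ext_range (a := 21793) (len := 589) h37 sl_37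
  have h39 : ∀ u < 22971, (fun u => chkSlp tab slp u) u = true := ext_range (a := 22382) (len := 589) h38 sl_38
  have h40 : ∀ u < 23560, (fun u => chkSlp tab slp u) u = true := ext_range (a := 22971) (len := 589) h39 sl_39
  have h41 : ∀ u < 24149, (fun u => chkSlp tab slp u) u = true := ext_range (a := 23560) (len := 589) h40 sl_40
  have h42 : ∀ u < 24738, (fun u => chkSlp tab slp u) u = true := ext_range (a := 24149) (len := 589) h41 sl_41
  have h43 : ∀ u < 25327, (fun u => chkSlp tab slp u) u = true := ext_range (a := 24738) (len := 589) h42 sl_42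
  have h44 : ∀ u < 25916, (fun u => chkSlp tab slp u) u = true := ext_range (a := 25327) (len := 589) h43 sl_43
  have h45 : ∀ u < 26505, (fun u => chkSlp tab slp u) u = true := ext_range (a := 25916) (len := 589) h44 sl_44
  have h46 : ∀ u < 27094, (fun u => chkSlp tab slp u) u = true := ext_range (a := 26505) (len := 589) h45 sl_45
  have h47 : ∀ u < 27683, (fun u => chkSlp tab slp u) u = true := ext_range (a := 27094) (len := 589) h46 sl_46
  have h48 : ∀ u < 28272, (fun u => chkSlp tab slp u) u = true := ext_range (a := 27683) (len := 589) h47 sl_47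
  have h49 : ∀ u < 28861, (fun u => chkSlp tab slp u) u = true := ext_range (a := 28272) (len := 589) h48 sl_48
  have h50 : ∀ u < 29450, (fun u => chkSlp tab slp u) u = true := ext_range (a := 28861) (len := 589) h49 sl_49
  have h51 : ∀ u < 30039, (fun u => chkSlp tab slp u) u = true := ext_range (a := 29450) (len := 589) h50 sl_50
  have h52 : ∀ u < 30628, (fun u => chkSlp tab slp u) u = true := ext_range (a := 30039) (len := 589) h51 sl_51
  have h53 : ∀ u < 31217, (fun u => chkSlp tab slp u) u = true := ext_range (a := 30628) (len := 589) h52 sl_52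
  have h54 : ∀ u < 31671, (fun u => chkSlp tab slp u) u = true := ext_range (a := 31217) (len := 454) h53 sl_53
  exact h54

theorem hT0 : ∀ u < 31671, chkTree tab (lidx 0) (lpar 0) (lgi 0) 0 [0, 1, 2, 3, 4, 5, 6, 7, 8, 9] u = true := by
  have h0 : ∀ u < 0, (fun u => chkTree tab (lidx 0) (lpar 0) (lgi 0) 0 [0, 1, 2, 3, 4, 5, 6, 7, 8, 9] u) u = true := range_zero
  have h1 : ∀ u < 1000, (fun u => chkTree tab (lidx 0) (lpar 0) (lgi 0) 0 [0, 1, 2, 3, 4, 5, 6, 7, 8, 9] u) u = true := ext_range (a := 0) (len := 1000) h0 tr0x_0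
  have h2 : ∀ u < 2000, (fun u => chkTree tab (lidx 0) (lpar 0) (lgi 0) 0 [0, 1, 2, 3, 4, 5, 6, 7, 8, 9] u) u = true := ext_range (a := 1000) (len := 1000) h1 tr0x_1
  have h3 : ∀ u < 3000, (fun u => chkTree tab (lidx 0) (lpar 0) (lgi 0) 0 [0, 1, 2, 3, 4, 5, 6, 7, 8, 9] u) u = true := ext_range (a := 2000) (len := 1000) h2 tr0x_2
  have h4 : ∀ u < 4000, (fun u => chkTree tab (lidx 0) (lpar 0) (lgi 0) 0 [0, 1, 2, 3, 4, 5, 6, 7, 8, 9] u) u = true := ext_range (a := 3000) (len := 1000) h3 tr0x_3
  have h5 : ∀ u < 5000, (fun u => chkTree tab (lidx 0) (lpar 0) (lgi 0) 0 [0, 1, 2, 3, 4, 5, 6, 7, 8, 9] u) u = true := ext_range (a := 4000) (len := 1000) h4 tr0x_4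
  have h6 : ∀ u < 6000, (fun u => chkTree tab (lidx 0) (lpar 0) (lgi 0) 0 [0, 1, 2, 3, 4, 5, 6, 7, 8, 9] u) u = true := ext_range (a := 5000) (len := 1000) h5 tr0x_5
  have h7 : ∀ u < 7000, (fun u => chkTree tab (lidx 0) (lpar 0) (lgi 0) 0 [0, 1, 2, 3, 4, 5, 6, 7, 8, 9] u) u = true := ext_range (a := 6000) (len := 1000) h6 tr0x_6
  have h8 : ∀ u < 8000, (fun u => chkTree tab (lidx 0) (lpar 0) (lgi 0) 0 [0, 1, 2, 3, 4, 5, 6, 7, 8, 9] u) u = true := ext_range (a := 7000) (len := 1000) h7 tr0x_7
  have h9 : ∀ u < 9000, (fun u => chkTree tab (lidx 0) (lpar 0) (lgi 0) 0 [0, 1, 2, 3, 4, 5, 6, 7, 8, 9] u) u = true := ext_range (a := 8000) (len := 1000) h8 tr0x_8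
  have h10 : ∀ u < 10000, (fun u => chkTree tab (lidx 0) (lpar 0) (lgi 0) 0 [0, 1, 2, 3, 4, 5, 6, 7, 8, 9] u) u = true := ext_range (a := 9000) (len := 1000) h9 tr0x_9
  have h11 : ∀ u < 11000, (fun u => chkTree tab (lidx 0) (lpar 0) (lgi 0) 0 [0, 1, 2, 3, 4, 5, 6, 7, 8, 9] u) u = true := ext_range (a := 10000) (len := 1000) h10 tr0x_10
  have h12 : ∀ u < 12000, (fun u => chkTree tab (lidx 0) (lpar 0) (lgi 0) 0 [0, 1, 2, 3, 4, 5, 6, 7, 8, 9] u) u = true := ext_range (a := 11000) (len := 1000) h11 tr0x_11
  have h13 : ∀ u < 13000, (fun u => chkTree tab (lidx 0) (lpar 0) (lgi 0) 0 [0, 1, 2, 3, 4, 5, 6, 7, 8, 9] u) u = true := ext_range (a := 12000) (len := 1000) h12 tr0x_12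
  have h14 : ∀ u < 14000, (fun u => chkTree tab (lidx 0) (lpar 0) (lgi 0) 0 [0, 1, 2, 3, 4, 5, 6, 7, 8, 9] u) u = true := ext_range (a := 13000) (len := 1000) h13 tr0x_13
  have h15 : ∀ u < 15000, (fun u => chkTree tab (lidx 0) (lpar 0) (lgi 0) 0 [0, 1, 2, 3, 4, 5, 6, 7, 8, 9] u) u = true := ext_range (a := 14000) (len := 1000) h14 tr0x_14
  have h16 : ∀ u < 16000, (fun u => chkTree tab (lidx 0) (lpar 0) (lgi 0) 0 [0, 1, 2, 3, 4, 5, 6, 7, 8, 9] u) u = true := ext_range (a := 15000) (len := 1000) h15 tr0x_15
  have h17 : ∀ u < 17000, (fun u => chkTree tab (lidx 0) (lpar 0) (lgi 0) 0 [0, 1, 2, 3, 4, 5, 6, 7, 8, 9] u) u = true := ext_range (a := 16000) (len := 1000) h16 tr0x_16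
  have h18 : ∀ u < 18000, (fun u => chkTree tab (lidx 0) (lpar 0) (lgi 0) 0 [0, 1, 2, 3, 4, 5, 6, 7, 8, 9] u) u = true := ext_range (a := 17000) (len := 1000) h17 tr0x_17
  have h19 : ∀ u < 19000, (fun u => chkTree tab (lidx 0) (lpar 0) (lgi 0) 0 [0, 1, 2, 3, 4, 5, 6, 7, 8, 9] u) u = true := ext_range (a := 18000) (len := 1000) h18 tr0x_18
  have h20 : ∀ u < 20000, (fun u => chkTree tab (lidx 0) (lpar 0) (lgi 0) 0 [0, 1, 2, 3, 4, 5, 6, 7, 8, 9] u) u = true := ext_range (a := 19000) (len := 1000) h19 tr0x_19
  have h21 : ∀ u < 21000, (fun u => chkTree tab (lidx 0) (lpar 0) (lgi 0) 0 [0, 1, 2, 3, 4, 5, 6, 7, 8, 9] u) u = true := ext_range (a := 20000) (len := 1000) h20 tr0x_20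
  have h22 : ∀ u < 22000, (fun u => chkTree tab (lidx 0) (lpar 0) (lgi 0) 0 [0, 1, 2, 3, 4, 5, 6, 7, 8, 9] u) u = true := ext_range (a := 21000) (len := 1000) h21 tr0x_21
  have h23 : ∀ u < 23000, (fun u => chkTree tab (lidx 0) (lpar 0) (lgi 0) 0 [0, 1, 2, 3, 4, 5, 6, 7, 8, 9] u) u = true := ext_range (a := 22000) (len := 1000) h22 tr0x_22
  have h24 : ∀ u < 24000, (fun u => chkTree tab (lidx 0) (lpar 0) (lgi 0) 0 [0, 1, 2, 3, 4, 5, 6, 7, 8, 9] u) u = true := ext_range (a := 23000) (len := 1000) h23 tr0x_23
  have h25 : ∀ u < 25000, (fun u => chkTree tab (lidx 0) (lpar 0) (lgi 0) 0 [0, 1, 2, 3, 4, 5, 6, 7, 8, 9] u) u = true := ext_range (a := 24000) (len := 1000) h24 tr0x_24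
  have h26 : ∀ u < 26000, (fun u => chkTree tab (lidx 0) (lpar 0) (lgi 0) 0 [0, 1, 2, 3, 4, 5, 6, 7, 8, 9] u) u = true := ext_range (a := 25000) (len := 1000) h25 tr0x_25
  have h27 : ∀ u < 27000, (fun u => chkTree tab (lidx 0) (lpar 0) (lgi 0) 0 [0, 1, 2, 3, 4, 5, 6, 7, 8, 9] u) u = true := ext_range (a := 26000) (len := 1000) h26 tr0x_26
  have h28 : ∀ u < 28000, (fun u => chkTree tab (lidx 0) (lpar 0) (lgi 0) 0 [0, 1, 2, 3, 4, 5, 6, 7, 8, 9] u) u = true := ext_range (a := 27000) (len := 1000) h27 tr0x_27
  have h29 : ∀ u < 29000, (fun u => chkTree tab (lidx 0) (lpar 0) (lgi 0) 0 [0, 1, 2, 3, 4, 5, 6, 7, 8, 9] u) u = true := ext_range (a := 28000) (len := 1000) h28 tr0x_28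
  have h30 : ∀ u < 30000, (fun u => chkTree tab (lidx 0) (lpar 0) (lgi 0) 0 [0, 1, 2, 3, 4, 5, 6, 7, 8, 9] u) u = true := ext_range (a := 29000) (len := 1000) h29 tr0x_29
  have h31 : ∀ u < 31000, (fun u => chkTree tab (lidx 0) (lpar 0) (lgi 0) 0 [0, 1, 2, 3, 4, 5, 6, 7, 8, 9] u) u = true := ext_range (a := 30000) (len := 1000) h30 tr0x_30
  have h32 : ∀ u < 31671, (fun u => chkTree tab (lidx 0) (lpar 0) (lgi 0) 0 [0, 1, 2, 3, 4, 5, 6, 7, 8, 9] u) u = true := ext_range (a := 31000) (len := 671) h31 tr0x_31
  exact h32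

theorem hT1 : ∀ u < 31671, chkTree tab (lidx 1) (lpar 1) (lgi 1) 1 [0, 1, 2, 3, 4, 5, 6, 8, 9] u = true := by
  have h0 : ∀ u < 0, (fun u => chkTree tab (lidx 1) (lpar 1) (lgi 1) 1 [0, 1, 2, 3, 4, 5, 6, 8, 9] u) u = true := range_zero
  have h1 : ∀ u < 1000, (fun u => chkTree tab (lidx 1) (lpar 1) (lgi 1) 1 [0, 1, 2, 3, 4, 5, 6, 8, 9] u) u = true := ext_range (a := 0) (len := 1000) h0 tr1x_0
  have h2 : ∀ u < 2000, (fun u => chkTree tab (lidx 1) (lpar 1) (lgi 1) 1 [0, 1, 2, 3, 4, 5, 6, 8, 9] u) u = true := ext_range (a := 1000) (len := 1000) h1 tr1x_1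
  have h3 : ∀ u < 3000, (fun u => chkTree tab (lidx 1) (lpar 1) (lgi 1) 1 [0, 1, 2, 3, 4, 5, 6, 8, 9] u) u = true := ext_range (a := 2000) (len := 1000) h2 tr1x_2
  have h4 : ∀ u < 4000, (fun u => chkTree tab (lidx 1) (lpar 1) (lgi 1) 1 [0, 1, 2, 3, 4, 5, 6, 8, 9] u) u = true := ext_range (a := 3000) (len := 1000) h3 tr1x_3
  have h5 : ∀ u < 5000, (fun u => chkTree tab (lidx 1) (lpar 1) (lgi 1) 1 [0, 1, 2, 3, 4, 5, 6, 8, 9] u) u = true := ext_range (a := 4000) (len := 1000) h4 tr1x_4
  have h6 : ∀ u < 6000, (fun u => chkTree tab (lidx 1) (lpar 1) (lgi 1) 1 [0, 1, 2, 3, 4, 5, 6, 8, 9] u) u = true := ext_range (a := 5000) (len := 1000) h5 tr1x_5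
  have h7 : ∀ u < 7000, (fun u => chkTree tab (lidx 1) (lpar 1) (lgi 1) 1 [0, 1, 2, 3, 4, 5, 6, 8, 9] u) u = true := ext_range (a := 6000) (len := 1000) h6 tr1x_6
  have h8 : ∀ u < 8000, (fun u => chkTree tab (lidx 1) (lpar 1) (lgi 1) 1 [0, 1, 2, 3, 4, 5, 6, 8, 9] u) u = true := ext_range (a := 7000) (len := 1000) h7 tr1x_7
  have h9 : ∀ u < 9000, (fun u => chkTree tab (lidx 1) (lpar 1) (lgi 1) 1 [0, 1, 2, 3, 4, 5, 6, 8, 9] u) u = true := ext_range (a := 8000) (len := 1000) h8 tr1x_8
  have h10 : ∀ u < 10000, (fun u => chkTree tab (lidx 1) (lpar 1) (lgi 1) 1 [0, 1, 2, 3, 4, 5, 6, 8, 9] u) u = true := ext_range (a := 9000) (len := 1000) h9 tr1x_9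
  have h11 : ∀ u < 11000, (fun u => chkTree tab (lidx 1) (lpar 1) (lgi 1) 1 [0, 1, 2, 3, 4, 5, 6, 8, 9] u) u = true := ext_range (a := 10000) (len := 1000) h10 tr1x_10
  have h12 : ∀ u < 12000, (fun u => chkTree tab (lidx 1) (lpar 1) (lgi 1) 1 [0, 1, 2, 3, 4, 5, 6, 8, 9] u) u = true := ext_range (a := 11000) (len := 1000) h11 tr1x_11
  have h13 : ∀ u < 13000, (fun u => chkTree tab (lidx 1) (lpar 1) (lgi 1) 1 [0, 1, 2, 3, 4, 5, 6, 8, 9] u) u = true := ext_range (a := 12000) (len := 1000) h12 tr1x_12
  have h14 : ∀ u < 14000, (fun u => chkTree tab (lidx 1) (lpar 1) (lgi 1) 1 [0, 1, 2, 3, 4, 5, 6, 8, 9] u) u = true := ext_range (a := 13000) (len := 1000) h13 tr1x_13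
  have h15 : ∀ u < 15000, (fun u => chkTree tab (lidx 1) (lpar 1) (lgi 1) 1 [0, 1, 2, 3, 4, 5, 6, 8, 9] u) u = true := ext_range (a := 14000) (len := 1000) h14 tr1x_14
  have h16 : ∀ u < 16000, (fun u => chkTree tab (lidx 1) (lpar 1) (lgi 1) 1 [0, 1, 2, 3, 4, 5, 6, 8, 9] u) u = true := ext_range (a := 15000) (len := 1000) h15 tr1x_15
  have h17 : ∀ u < 17000, (fun u => chkTree tab (lidx 1) (lpar 1) (lgi 1) 1 [0, 1, 2, 3, 4, 5, 6, 8, 9] u) u = true := ext_range (a := 16000) (len := 1000) h16 tr1x_16
  have h18 : ∀ u < 18000, (fun u => chkTree tab (lidx 1) (lpar 1) (lgi 1) 1 [0, 1, 2, 3, 4, 5, 6, 8, 9] u) u = true := ext_range (a := 17000) (len := 1000) h17 tr1x_17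
  have h19 : ∀ u < 19000, (fun u => chkTree tab (lidx 1) (lpar 1) (lgi 1) 1 [0, 1, 2, 3, 4, 5, 6, 8, 9] u) u = true := ext_range (a := 18000) (len := 1000) h18 tr1x_18
  have h20 : ∀ u < 20000, (fun u => chkTree tab (lidx 1) (lpar 1) (lgi 1) 1 [0, 1, 2, 3, 4, 5, 6, 8, 9] u) u = true := ext_range (a := 19000) (len := 1000) h19 tr1x_19
  have h21 : ∀ u < 21000, (fun u => chkTree tab (lidx 1) (lpar 1) (lgi 1) 1 [0, 1, 2, 3, 4, 5, 6, 8, 9] u) u = true := ext_range (a := 20000) (len := 1000) h20 tr1x_20
  have h22 : ∀ u < 22000, (fun u => chkTree tab (lidx 1) (lpar 1) (lgi 1) 1 [0, 1, 2, 3, 4, 5, 6, 8, 9] u) u = true := ext_range (a := 21000) (len := 1000) h21 tr1x_21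
  have h23 : ∀ u < 23000, (fun u => chkTree tab (lidx 1) (lpar 1) (lgi 1) 1 [0, 1, 2, 3, 4, 5, 6, 8, 9] u) u = true := ext_range (a := 22000) (len := 1000) h22 tr1x_22
  have h24 : ∀ u < 24000, (fun u => chkTree tab (lidx 1) (lpar 1) (lgi 1) 1 [0, 1, 2, 3, 4, 5, 6, 8, 9] u) u = true := ext_range (a := 23000) (len := 1000) h23 tr1x_23
  have h25 : ∀ u < 25000, (fun u => chkTree tab (lidx 1) (lpar 1) (lgi 1) 1 [0, 1, 2, 3, 4, 5, 6, 8, 9] u) u = true := ext_range (a := 24000) (len := 1000) h24 tr1x_24
  have h26 : ∀ u < 26000, (fun u => chkTree tab (lidx 1) (lpar 1) (lgi 1) 1 [0, 1, 2, 3, 4, 5, 6, 8, 9] u) u = true := ext_range (a := 25000) (len := 1000) h25 tr1x_25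
  have h27 : ∀ u < 27000, (fun u => chkTree tab (lidx 1) (lpar 1) (lgi 1) 1 [0, 1, 2, 3, 4, 5, 6, 8, 9] u) u = true := ext_range (a := 26000) (len := 1000) h26 tr1x_26
  have h28 : ∀ u < 28000, (fun u => chkTree tab (lidx 1) (lpar 1) (lgi 1) 1 [0, 1, 2, 3, 4, 5, 6, 8, 9] u) u = true := ext_range (a := 27000) (len := 1000) h27 tr1x_27
  have h29 : ∀ u < 29000, (fun u => chkTree tab (lidx 1) (lpar 1) (lgi 1) 1 [0, 1, 2, 3, 4, 5, 6, 8, 9] u) u = true := ext_range (a := 28000) (len := 1000) h28 tr1x_28
  have h30 : ∀ u < 30000, (fun u => chkTree tab (lidx 1) (lpar 1) (lgi 1) 1 [0, 1, 2, 3, 4, 5, 6, 8, 9] u) u = true := ext_range (a := 29000) (len := 1000) h29 tr1x_29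
  have h31 : ∀ u < 31000, (fun u => chkTree tab (lidx 1) (lpar 1) (lgi 1) 1 [0, 1, 2, 3, 4, 5, 6, 8, 9] u) u = true := ext_range (a := 30000) (len := 1000) h30 tr1x_30
  have h32 : ∀ u < 31671, (fun u => chkTree tab (lidx 1) (lpar 1) (lgi 1) 1 [0, 1, 2, 3, 4, 5, 6, 8, 9] u) u = true := ext_range (a := 31000) (len := 671) h31 tr1x_31
  exact h32

theorem hT2 : ∀ u < 31671, chkTree tab (lidx 2) (lpar 2) (lgi 2) 2 [0, 1, 2, 3, 4, 5, 8, 9] u = true := by
  have h0 : ∀ u < 0, (fun u => chkTree tab (lidx 2) (lpar 2) (lgi 2) 2 [0, 1, 2, 3, 4, 5, 8, 9] u) u = true := range_zero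
  have h1 : ∀ u < 1000, (fun u => chkTree tab (lidx 2) (lpar 2) (lgi 2) 2 [0, 1, 2, 3, 4, 5, 8, 9] u) u = true := ext_range (a := 0) (len := 1000) h0 tr2x_0
  have h2 : ∀ u < 2000, (fun u => chkTree tab (lidx 2) (lpar 2) (lgi 2) 2 [0, 1, 2, 3, 4, 5, 8, 9] u) u = true := ext_range (a := 1000) (len := 1000) h1 tr2x_1
  have h3 : ∀ u < 3000, (fun u => chkTree tab (lidx 2) (lpar 2) (lgi 2) 2 [0, 1, 2, 3, 4, 5, 8, 9] u) u = true := ext_range (a := 2000) (len := 1000) h2 tr2x_2
  have h4 : ∀ u < 4000, (fun u => chkTree tab (lidx 2) (lpar 2) (lgi 2) 2 [0, 1, 2, 3, 4, 5, 8, 9] u) u = true := ext_range (a := 3000) (len := 1000) h3 tr2x_3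
  have h5 : ∀ u < 5000, (fun u => chkTree tab (lidx 2) (lpar 2) (lgi 2) 2 [0, 1, 2, 3, 4, 5, 8, 9] u) u = true := ext_range (a := 4000) (len := 1000) h4 tr2x_4
  have h6 : ∀ u < 6000, (fun u => chkTree tab (lidx 2) (lpar 2) (lgi 2) 2 [0, 1, 2, 3, 4, 5, 8, 9] u) u = true := ext_range (a := 5000) (len := 1000) h5 tr2x_5
  have h7 : ∀ u < 7000, (fun u => chkTree tab (lidx 2) (lpar 2) (lgi 2) 2 [0, 1, 2, 3, 4, 5, 8, 9] u) u = true := ext_range (a := 6000) (len := 1000) h6 tr2x_6
  have h8 : ∀ u < 8000, (fun u => chkTree tab (lidx 2) (lpar 2) (lgi 2) 2 [0, 1, 2, 3, 4, 5, 8, 9] u) u = true := ext_range (a := 7000) (len := 1000) h7 tr2x_7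
  have h9 : ∀ u < 9000, (fun u => chkTree tab (lidx 2) (lpar 2) (lgi 2) 2 [0, 1, 2, 3, 4, 5, 8, 9] u) u = true := ext_range (a := 8000) (len := 1000) h8 tr2x_8
  have h10 : ∀ u < 10000, (fun u => chkTree tab (lidx 2) (lpar 2) (lgi 2) 2 [0, 1, 2, 3, 4, 5, 8, 9] u) u = true := ext_range (a := 9000) (len := 1000) h9 tr2x_9
  have h11 : ∀ u < 11000, (fun u => chkTree tab (lidx 2) (lpar 2) (lgi 2) 2 [0, 1, 2, 3, 4, 5, 8, 9] u) u = true := ext_range (a := 10000) (len := 1000) h10 tr2x_10
  have h12 : ∀ u < 12000, (fun u => chkTree tab (lidx 2) (lpar 2) (lgi 2) 2 [0, 1, 2, 3, 4, 5, 8, 9] u) u = true := ext_range (a := 11000) (len := 1000) h11 tr2x_11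
  have h13 : ∀ u < 13000, (fun u => chkTree tab (lidx 2) (lpar 2) (lgi 2) 2 [0, 1, 2, 3, 4, 5, 8, 9] u) u = true := ext_range (a := 12000) (len := 1000) h12 tr2x_12
  have h14 : ∀ u < 14000, (fun u => chkTree tab (lidx 2) (lpar 2) (lgi 2) 2 [0, 1, 2, 3, 4, 5, 8, 9] u) u = true := ext_range (a := 13000) (len := 1000) h13 tr2x_13
  have h15 : ∀ u < 15000, (fun u => chkTree tab (lidx 2) (lpar 2) (lgi 2) 2 [0, 1, 2, 3, 4, 5, 8, 9] u) u = true := ext_range (a := 14000) (len := 1000) h14 tr2x_14
  have h16 : ∀ u < 16000, (fun u => chkTree tab (lidx 2) (lpar 2) (lgi 2) 2 [0, 1, 2, 3, 4, 5, 8, 9] u) u = true := ext_range (a := 15000) (len := 1000) h15 tr2x_15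
  have h17 : ∀ u < 17000, (fun u => chkTree tab (lidx 2) (lpar 2) (lgi 2) 2 [0, 1, 2, 3, 4, 5, 8, 9] u) u = true := ext_range (a := 16000) (len := 1000) h16 tr2x_16
  have h18 : ∀ u < 18000, (fun u => chkTree tab (lidx 2) (lpar 2) (lgi 2) 2 [0, 1, 2, 3, 4, 5, 8, 9] u) u = true := ext_range (a := 17000) (len := 1000) h17 tr2x_17
  have h19 : ∀ u < 19000, (fun u => chkTree tab (lidx 2) (lpar 2) (lgi 2) 2 [0, 1, 2, 3, 4, 5, 8, 9] u) u = true := ext_range (a := 18000) (len := 1000) h18 tr2x_18
  have h20 : ∀ u < 20000, (fun u => chkTree tab (lidx 2) (lpar 2) (lgi 2) 2 [0, 1, 2, 3, 4, 5, 8, 9] u) u = true := ext_range (a := 19000) (len := 1000) h19 tr2x_19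
  have h21 : ∀ u < 21000, (fun u => chkTree tab (lidx 2) (lpar 2) (lgi 2) 2 [0, 1, 2, 3, 4, 5, 8, 9] u) u = true := ext_range (a := 20000) (len := 1000) h20 tr2x_20
  have h22 : ∀ u < 22000, (fun u => chkTree tab (lidx 2) (lpar 2) (lgi 2) 2 [0, 1, 2, 3, 4, 5, 8, 9] u) u = true := ext_range (a := 21000) (len := 1000) h21 tr2x_21
  have h23 : ∀ u < 23000, (fun u => chkTree tab (lidx 2) (lpar 2) (lgi 2) 2 [0, 1, 2, 3, 4, 5, 8, 9] u) u = true := ext_range (a := 22000) (len := 1000) h22 tr2x_22
  have h24 : ∀ u < 24000, (fun u => chkTree tab (lidx 2) (lpar 2) (lgi 2) 2 [0, 1, 2, 3, 4, 5, 8, 9] u) u = true := ext_range (a := 23000) (len := 1000) h23 tr2x_23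
  have h25 : ∀ u < 25000, (fun u => chkTree tab (lidx 2) (lpar 2) (lgi 2) 2 [0, 1, 2, 3, 4, 5, 8, 9] u) u = true := ext_range (a := 24000) (len := 1000) h24 tr2x_24
  have h26 : ∀ u < 26000, (fun u => chkTree tab (lidx 2) (lpar 2) (lgi 2) 2 [0, 1, 2, 3, 4, 5, 8, 9] u) u = true := ext_range (a := 25000) (len := 1000) h25 tr2x_25
  have h27 : ∀ u < 27000, (fun u => chkTree tab (lidx 2) (lpar 2) (lgi 2) 2 [0, 1, 2, 3, 4, 5, 8, 9] u) u = true := ext_range (a := 26000) (len := 1000) h26 tr2x_26
  have h28 : ∀ u < 28000, (fun u => chkTree tab (lidx 2) (lpar 2) (lgi 2) 2 [0, 1, 2, 3, 4, 5, 8, 9] u) u = true := ext_range (a := 27000) (len := 1000) h27 tr2x_27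
  have h29 : ∀ u < 29000, (fun u => chkTree tab (lidx 2) (lpar 2) (lgi 2) 2 [0, 1, 2, 3, 4, 5, 8, 9] u) u = true := ext_range (a := 28000) (len := 1000) h28 tr2x_28
  have h30 : ∀ u < 30000, (fun u => chkTree tab (lidx 2) (lpar 2) (lgi 2) 2 [0, 1, 2, 3, 4, 5, 8, 9] u) u = true := ext_range (a := 29000) (len := 1000) h29 tr2x_29
  have h31 : ∀ u < 31000, (fun u => chkTree tab (lidx 2) (lpar 2) (lgi 2) 2 [0, 1, 2, 3, 4, 5, 8, 9] u) u = true := ext_range (a := 30000) (len := 1000) h30 tr2x_30
  have h32 : ∀ u < 31671, (fun u => chkTree tab (lidx 2) (lpar 2) (lgi 2) 2 [0, 1, 2, 3, 4, 5, 8, 9] u) u = true := ext_range (a := 31000) (len := 671) h31 tr2x_31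
  exact h32

theorem hT3 : ∀ u < 31671, chkTree tab (lidx 3) (lpar 3) (lgi 3) 3 [0, 1, 2, 3, 4, 8, 9] u = true := by
  have h0 : ∀ u < 0, (fun u => chkTree tab (lidx 3) (lpar 3) (lgi 3) 3 [0, 1, 2, 3, 4, 8, 9] u) u = true := range_zero
  have h1 : ∀ u < 1000, (fun u => chkTree tab (lidx 3) (lpar 3) (lgi 3) 3 [0, 1, 2, 3, 4, 8, 9] u) u = true := ext_range (a := 0) (len := 1000) h0 tr3x_0
  have h2 : ∀ u < 2000, (fun u => chkTree tab (lidx 3) (lpar 3) (lgi 3) 3 [0, 1, 2, 3, 4, 8, 9] u) u = true := ext_range (a := 1000) (len := 1000) h1 tr3x_1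
  have h3 : ∀ u < 3000, (fun u => chkTree tab (lidx 3) (lpar 3) (lgi 3) 3 [0, 1, 2, 3, 4, 8, 9] u) u = true := ext_range (a := 2000) (len := 1000) h2 tr3x_2
  have h4 : ∀ u < 4000, (fun u => chkTree tab (lidx 3) (lpar 3) (lgi 3) 3 [0, 1, 2, 3, 4, 8, 9] u) u = true := ext_range (a := 3000) (len := 1000) h3 tr3x_3
  have h5 : ∀ u < 5000, (fun u => chkTree tab (lidx 3) (lpar 3) (lgi 3) 3 [0, 1, 2, 3, 4, 8, 9] u) u = true := ext_range (a := 4000) (len := 1000) h4 tr3x_4
  have h6 : ∀ u < 6000, (fun u => chkTree tab (lidx 3) (lpar 3) (lgi 3) 3 [0, 1, 2, 3, 4, 8, 9] u) u = true := ext_range (a := 5000) (len := 1000) h5 tr3x_5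
  have h7 : ∀ u < 7000, (fun u => chkTree tab (lidx 3) (lpar 3) (lgi 3) 3 [0, 1, 2, 3, 4, 8, 9] u) u = true := ext_range (a := 6000) (len := 1000) h6 tr3x_6
  have h8 : ∀ u < 8000, (fun u => chkTree tab (lidx 3) (lpar 3) (lgi 3) 3 [0, 1, 2, 3, 4, 8, 9] u) u = true := ext_range (a := 7000) (len := 1000) h7 tr3x_7
  have h9 : ∀ u < 9000, (fun u => chkTree tab (lidx 3) (lpar 3) (lgi 3) 3 [0, 1, 2, 3, 4, 8, 9] u) u = true := ext_range (a := 8000) (len := 1000) h8 tr3x_8
  have h10 : ∀ u < 10000, (fun u => chkTree tab (lidx 3) (lpar 3) (lgi 3) 3 [0, 1, 2, 3, 4, 8, 9] u) u = true := ext_range (a := 9000) (len := 1000) h9 tr3x_9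
  have h11 : ∀ u < 11000, (fun u => chkTree tab (lidx 3) (lpar 3) (lgi 3) 3 [0, 1, 2, 3, 4, 8, 9] u) u = true := ext_range (a := 10000) (len := 1000) h10 tr3x_10
  have h12 : ∀ u < 12000, (fun u => chkTree tab (lidx 3) (lpar 3) (lgi 3) 3 [0, 1, 2, 3, 4, 8, 9] u) u = true := ext_range (a := 11000) (len := 1000) h11 tr3x_11
  have h13 : ∀ u < 13000, (fun u => chkTree tab (lidx 3) (lpar 3) (lgi 3) 3 [0, 1, 2, 3, 4, 8, 9] u) u = true := ext_range (a := 12000) (len := 1000) h12 tr3x_12
  have h14 : ∀ u < 14000, (fun u => chkTree tab (lidx 3) (lpar 3) (lgi 3) 3 [0, 1, 2, 3, 4, 8, 9] u) u = true := ext_range (a := 13000) (len := 1000) h13 tr3x_13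
  have h15 : ∀ u < 15000, (fun u => chkTree tab (lidx 3) (lpar 3) (lgi 3) 3 [0, 1, 2, 3, 4, 8, 9] u) u = true := ext_range (a := 14000) (len := 1000) h14 tr3x_14
  have h16 : ∀ u < 16000, (fun u => chkTree tab (lidx 3) (lpar 3) (lgi 3) 3 [0, 1, 2, 3, 4, 8, 9] u) u = true := ext_range (a := 15000) (len := 1000) h15 tr3x_15
  have h17 : ∀ u < 17000, (fun u => chkTree tab (lidx 3) (lpar 3) (lgi 3) 3 [0, 1, 2, 3, 4, 8, 9] u) u = true := ext_range (a := 16000) (len := 1000) h16 tr3x_16
  have h18 : ∀ u < 18000, (fun u => chkTree tab (lidx 3) (lpar 3) (lgi 3) 3 [0, 1, 2, 3, 4, 8, 9] u) u = true := ext_range (a := 17000) (len := 1000) h17 tr3x_17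
  have h19 : ∀ u < 19000, (fun u => chkTree tab (lidx 3) (lpar 3) (lgi 3) 3 [0, 1, 2, 3, 4, 8, 9] u) u = true := ext_range (a := 18000) (len := 1000) h18 tr3x_18
  have h20 : ∀ u < 20000, (fun u => chkTree tab (lidx 3) (lpar 3) (lgi 3) 3 [0, 1, 2, 3, 4, 8, 9] u) u = true := ext_range (a := 19000) (len := 1000) h19 tr3x_19
  have h21 : ∀ u < 21000, (fun u => chkTree tab (lidx 3) (lpar 3) (lgi 3) 3 [0, 1, 2, 3, 4, 8, 9] u) u = true := ext_range (a := 20000) (len := 1000) h20 tr3x_20
  have h22 : ∀ u < 22000, (fun u => chkTree tab (lidx 3) (lpar 3) (lgi 3) 3 [0, 1, 2, 3, 4, 8, 9] u) u = true := ext_range (a := 21000) (len := 1000) h21 tr3x_21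
  have h23 : ∀ u < 23000, (fun u => chkTree tab (lidx 3) (lpar 3) (lgi 3) 3 [0, 1, 2, 3, 4, 8, 9] u) u = true := ext_range (a := 22000) (len := 1000) h22 tr3x_22
  have h24 : ∀ u < 24000, (fun u => chkTree tab (lidx 3) (lpar 3) (lgi 3) 3 [0, 1, 2, 3, 4, 8, 9] u) u = true := ext_range (a := 23000) (len := 1000) h23 tr3x_23
  have h25 : ∀ u < 25000, (fun u => chkTree tab (lidx 3) (lpar 3) (lgi 3) 3 [0, 1, 2, 3, 4, 8, 9] u) u = true := ext_range (a := 24000) (len := 1000) h24 tr3x_24
  have h26 : ∀ u < 26000, (fun u => chkTree tab (lidx 3) (lpar 3) (lgi 3) 3 [0, 1, 2, 3, 4, 8, 9] u) u = true := ext_range (a := 25000) (len := 1000) h25 tr3x_25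
  have h27 : ∀ u < 27000, (fun u => chkTree tab (lidx 3) (lpar 3) (lgi 3) 3 [0, 1, 2, 3, 4, 8, 9] u) u = true := ext_range (a := 26000) (len := 1000) h26 tr3x_26
  have h28 : ∀ u < 28000, (fun u => chkTree tab (lidx 3) (lpar 3) (lgi 3) 3 [0, 1, 2, 3, 4, 8, 9] u) u = true := ext_range (a := 27000) (len := 1000) h27 tr3x_27
  have h29 : ∀ u < 29000, (fun u => chkTree tab (lidx 3) (lpar 3) (lgi 3) 3 [0, 1, 2, 3, 4, 8, 9] u) u = true := ext_range (a := 28000) (len := 1000) h28 tr3x_28
  have h30 : ∀ u < 30000, (fun u => chkTree tab (lidx 3) (lpar 3) (lgi 3) 3 [0, 1, 2, 3, 4, 8, 9] u) u = true := ext_range (a := 29000) (len := 1000) h29 tr3x_29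
  have h31 : ∀ u < 31000, (fun u => chkTree tab (lidx 3) (lpar 3) (lgi 3) 3 [0, 1, 2, 3, 4, 8, 9] u) u = true := ext_range (a := 30000) (len := 1000) h30 tr3x_30
  have h32 : ∀ u < 31671, (fun u => chkTree tab (lidx 3) (lpar 3) (lgi 3) 3 [0, 1, 2, 3, 4, 8, 9] u) u = true := ext_range (a := 31000) (len := 671) h31 tr3x_31
  exact h32

theorem hT4 : ∀ u < 31671, chkTree tab (lidx 4) (lpar 4) (lgi 4) 4 [0, 1, 2, 3, 8, 9] u = true := by
  have h0 : ∀ u < 0, (fun u => chkTree tab (lidx 4) (lpar 4) (lgi 4) 4 [0, 1, 2, 3, 8, 9] u) u = true := range_zero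
  have h1 : ∀ u < 1000, (fun u => chkTree tab (lidx 4) (lpar 4) (lgi 4) 4 [0, 1, 2, 3, 8, 9] u) u = true := ext_range (a := 0) (len := 1000) h0 tr4x_0
  have h2 : ∀ u < 2000, (fun u => chkTree tab (lidx 4) (lpar 4) (lgi 4) 4 [0, 1, 2, 3, 8, 9] u) u = true := ext_range (a := 1000) (len := 1000) h1 tr4x_1
  have h3 : ∀ u < 3000, (fun u => chkTree tab (lidx 4) (lpar 4) (lgi 4) 4 [0, 1, 2, 3, 8, 9] u) u = true := ext_range (a := 2000) (len := 1000) h2 tr4x_2
  have h4 : ∀ u < 4000, (fun u => chkTree tab (lidx 4) (lpar 4) (lgi 4) 4 [0, 1, 2, 3, 8, 9] u) u = true := ext_range (a := 3000) (len := 1000) h3 tr4x_3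
  have h5 : ∀ u < 5000, (fun u => chkTree tab (lidx 4) (lpar 4) (lgi 4) 4 [0, 1, 2, 3, 8, 9] u) u = true := ext_range (a := 4000) (len := 1000) h4 tr4x_4
  have h6 : ∀ u < 6000, (fun u => chkTree tab (lidx 4) (lpar 4) (lgi 4) 4 [0, 1, 2, 3, 8, 9] u) u = true := ext_range (a := 5000) (len := 1000) h5 tr4x_5
  have h7 : ∀ u < 7000, (fun u => chkTree tab (lidx 4) (lpar 4) (lgi 4) 4 [0, 1, 2, 3, 8, 9] u) u = true := ext_range (a := 6000) (len := 1000) h6 tr4x_6
  have h8 : ∀ u < 8000, (fun u => chkTree tab (lidx 4) (lpar 4) (lgi 4) 4 [0, 1, 2, 3, 8, 9] u) u = true := ext_range (a := 7000) (len := 1000) h7 tr4x_7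
  have h9 : ∀ u < 9000, (fun u => chkTree tab (lidx 4) (lpar 4) (lgi 4) 4 [0, 1, 2, 3, 8, 9] u) u = true := ext_range (a := 8000) (len := 1000) h8 tr4x_8
  have h10 : ∀ u < 10000, (fun u => chkTree tab (lidx 4) (lpar 4) (lgi 4) 4 [0, 1, 2, 3, 8, 9] u) u = true := ext_range (a := 9000) (len := 1000) h9 tr4x_9
  have h11 : ∀ u < 11000, (fun u => chkTree tab (lidx 4) (lpar 4) (lgi 4) 4 [0, 1, 2, 3, 8, 9] u) u = true := ext_range (a := 10000) (len := 1000) h10 tr4x_10
  have h12 : ∀ u < 12000, (fun u => chkTree tab (lidx 4) (lpar 4) (lgi 4) 4 [0, 1, 2, 3, 8, 9] u) u = true := ext_range (a := 11000) (len := 1000) h11 tr4x_11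
  have h13 : ∀ u < 13000, (fun u => chkTree tab (lidx 4) (lpar 4) (lgi 4) 4 [0, 1, 2, 3, 8, 9] u) u = true := ext_range (a := 12000) (len := 1000) h12 tr4x_12
  have h14 : ∀ u < 14000, (fun u => chkTree tab (lidx 4) (lpar 4) (lgi 4) 4 [0, 1, 2, 3, 8, 9] u) u = true := ext_range (a := 13000) (len := 1000) h13 tr4x_13
  have h15 : ∀ u < 15000, (fun u => chkTree tab (lidx 4) (lpar 4) (lgi 4) 4 [0, 1, 2, 3, 8, 9] u) u = true := ext_range (a := 14000) (len := 1000) h14 tr4x_14
  have h16 : ∀ u < 16000, (fun u => chkTree tab (lidx 4) (lpar 4) (lgi 4) 4 [0, 1, 2, 3, 8, 9] u) u = true := ext_range (a := 15000) (len := 1000) h15 tr4x_15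
  have h17 : ∀ u < 17000, (fun u => chkTree tab (lidx 4) (lpar 4) (lgi 4) 4 [0, 1, 2, 3, 8, 9] u) u = true := ext_range (a := 16000) (len := 1000) h16 tr4x_16
  have h18 : ∀ u < 18000, (fun u => chkTree tab (lidx 4) (lpar 4) (lgi 4) 4 [0, 1, 2, 3, 8, 9] u) u = true := ext_range (a := 17000) (len := 1000) h17 tr4x_17
  have h19 : ∀ u < 19000, (fun u => chkTree tab (lidx 4) (lpar 4) (lgi 4) 4 [0, 1, 2, 3, 8, 9] u) u = true := ext_range (a := 18000) (len := 1000) h18 tr4x_18
  have h20 : ∀ u < 20000, (fun u => chkTree tab (lidx 4) (lpar 4) (lgi 4) 4 [0, 1, 2, 3, 8, 9] u) u = true := ext_range (a := 19000) (len := 1000) h19 tr4x_19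
  have h21 : ∀ u < 21000, (fun u => chkTree tab (lidx 4) (lpar 4) (lgi 4) 4 [0, 1, 2, 3, 8, 9] u) u = true := ext_range (a := 20000) (len := 1000) h20 tr4x_20
  have h22 : ∀ u < 22000, (fun u => chkTree tab (lidx 4) (lpar 4) (lgi 4) 4 [0, 1, 2, 3, 8, 9] u) u = true := ext_range (a := 21000) (len := 1000) h21 tr4x_21
  have h23 : ∀ u < 23000, (fun u => chkTree tab (lidx 4) (lpar 4) (lgi 4) 4 [0, 1, 2, 3, 8, 9] u) u = true := ext_range (a := 22000) (len := 1000) h22 tr4x_22
  have h24 : ∀ u < 24000, (fun u => chkTree tab (lidx 4) (lpar 4) (lgi 4) 4 [0, 1, 2, 3, 8, 9] u) u = true := ext_range (a := 23000) (len := 1000) h23 tr4x_23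
  have h25 : ∀ u < 25000, (fun u => chkTree tab (lidx 4) (lpar 4) (lgi 4) 4 [0, 1, 2, 3, 8, 9] u) u = true := ext_range (a := 24000) (len := 1000) h24 tr4x_24
  have h26 : ∀ u < 26000, (fun u => chkTree tab (lidx 4) (lpar 4) (lgi 4) 4 [0, 1, 2, 3, 8, 9] u) u = true := ext_range (a := 25000) (len := 1000) h25 tr4x_25
  have h27 : ∀ u < 27000, (fun u => chkTree tab (lidx 4) (lpar 4) (lgi 4) 4 [0, 1, 2, 3, 8, 9] u) u = true := ext_range (a := 26000) (len := 1000) h26 tr4x_26
  have h28 : ∀ u < 28000, (fun u => chkTree tab (lidx 4) (lpar 4) (lgi 4) 4 [0, 1, 2, 3, 8, 9] u) u = true := ext_range (a := 27000) (len := 1000) h27 tr4x_27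
  have h29 : ∀ u < 29000, (fun u => chkTree tab (lidx 4) (lpar 4) (lgi 4) 4 [0, 1, 2, 3, 8, 9] u) u = true := ext_range (a := 28000) (len := 1000) h28 tr4x_28
  have h30 : ∀ u < 30000, (fun u => chkTree tab (lidx 4) (lpar 4) (lgi 4) 4 [0, 1, 2, 3, 8, 9] u) u = true := ext_range (a := 29000) (len := 1000) h29 tr4x_29
  have h31 : ∀ u < 31000, (fun u => chkTree tab (lidx 4) (lpar 4) (lgi 4) 4 [0, 1, 2, 3, 8, 9] u) u = true := ext_range (a := 30000) (len := 1000) h30 tr4x_30
  have h32 : ∀ u < 31671, (fun u => chkTree tab (lidx 4) (lpar 4) (lgi 4) 4 [0, 1, 2, 3, 8, 9] u) u = true := ext_range (a := 31000) (len := 671) h31 tr4x_31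
  exact h32

theorem hT5 : ∀ u < 31671, chkTree tab (lidx 5) (lpar 5) (lgi 5) 5 [0, 1, 2, 8, 9] u = true := by
  have h0 : ∀ u < 0, (fun u => chkTree tab (lidx 5) (lpar 5) (lgi 5) 5 [0, 1, 2, 8, 9] u) u = true := range_zero
  have h1 : ∀ u < 1000, (fun u => chkTree tab (lidx 5) (lpar 5) (lgi 5) 5 [0, 1, 2, 8, 9] u) u = true := ext_range (a := 0) (len := 1000) h0 tr5x_0
  have h2 : ∀ u < 2000, (fun u => chkTree tab (lidx 5) (lpar 5) (lgi 5) 5 [0, 1, 2, 8, 9] u) u = true := ext_range (a := 1000) (len := 1000) h1 tr5x_1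
  have h3 : ∀ u < 3000, (fun u => chkTree tab (lidx 5) (lpar 5) (lgi 5) 5 [0, 1, 2, 8, 9] u) u = true := ext_range (a := 2000) (len := 1000) h2 tr5x_2
  have h4 : ∀ u < 4000, (fun u => chkTree tab (lidx 5) (lpar 5) (lgi 5) 5 [0, 1, 2, 8, 9] u) u = true := ext_range (a := 3000) (len := 1000) h3 tr5x_3
  have h5 : ∀ u < 5000, (fun u => chkTree tab (lidx 5) (lpar 5) (lgi 5) 5 [0, 1, 2, 8, 9] u) u = true := ext_range (a := 4000) (len := 1000) h4 tr5x_4
  have h6 : ∀ u < 6000, (fun u => chkTree tab (lidx 5) (lpar 5) (lgi 5) 5 [0, 1, 2, 8, 9] u) u = true := ext_range (a := 5000) (len := 1000) h5 tr5x_5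
  have h7 : ∀ u < 7000, (fun u => chkTree tab (lidx 5) (lpar 5) (lgi 5) 5 [0, 1, 2, 8, 9] u) u = true := ext_range (a := 6000) (len := 1000) h6 tr5x_6
  have h8 : ∀ u < 8000, (fun u => chkTree tab (lidx 5) (lpar 5) (lgi 5) 5 [0, 1, 2, 8, 9] u) u = true := ext_range (a := 7000) (len := 1000) h7 tr5x_7
  have h9 : ∀ u < 9000, (fun u => chkTree tab (lidx 5) (lpar 5) (lgi 5) 5 [0, 1, 2, 8, 9] u) u = true := ext_range (a := 8000) (len := 1000) h8 tr5x_8
  have h10 : ∀ u < 10000, (fun u => chkTree tab (lidx 5) (lpar 5) (lgi 5) 5 [0, 1, 2, 8, 9] u) u = true := ext_range (a := 9000) (len := 1000) h9 tr5x_9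
  have h11 : ∀ u < 11000, (fun u => chkTree tab (lidx 5) (lpar 5) (lgi 5) 5 [0, 1, 2, 8, 9] u) u = true := ext_range (a := 10000) (len := 1000) h10 tr5x_10
  have h12 : ∀ u < 12000, (fun u => chkTree tab (lidx 5) (lpar 5) (lgi 5) 5 [0, 1, 2, 8, 9] u) u = true := ext_range (a := 11000) (len := 1000) h11 tr5x_11
  have h13 : ∀ u < 13000, (fun u => chkTree tab (lidx 5) (lpar 5) (lgi 5) 5 [0, 1, 2, 8, 9] u) u = true := ext_range (a := 12000) (len := 1000) h12 tr5x_12
  have h14 : ∀ u < 14000, (fun u => chkTree tab (lidx 5) (lpar 5) (lgi 5) 5 [0, 1, 2, 8, 9] u) u = true := ext_range (a := 13000) (len := 1000) h13 tr5x_13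
  have h15 : ∀ u < 15000, (fun u => chkTree tab (lidx 5) (lpar 5) (lgi 5) 5 [0, 1, 2, 8, 9] u) u = true := ext_range (a := 14000) (len := 1000) h14 tr5x_14
  have h16 : ∀ u < 16000, (fun u => chkTree tab (lidx 5) (lpar 5) (lgi 5) 5 [0, 1, 2, 8, 9] u) u = true := ext_range (a := 15000) (len := 1000) h15 tr5x_15
  have h17 : ∀ u < 17000, (fun u => chkTree tab (lidx 5) (lpar 5) (lgi 5) 5 [0, 1, 2, 8, 9] u) u = true := ext_range (a := 16000) (len := 1000) h16 tr5x_16
  have h18 : ∀ u < 18000, (fun u => chkTree tab (lidx 5) (lpar 5) (lgi 5) 5 [0, 1, 2, 8, 9] u) u = true := ext_range (a := 17000) (len := 1000) h17 tr5x_17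
  have h19 : ∀ u < 19000, (fun u => chkTree tab (lidx 5) (lpar 5) (lgi 5) 5 [0, 1, 2, 8, 9] u) u = true := ext_range (a := 18000) (len := 1000) h18 tr5x_18
  have h20 : ∀ u < 20000, (fun u => chkTree tab (lidx 5) (lpar 5) (lgi 5) 5 [0, 1, 2, 8, 9] u) u = true := ext_range (a := 19000) (len := 1000) h19 tr5x_19
  have h21 : ∀ u < 21000, (fun u => chkTree tab (lidx 5) (lpar 5) (lgi 5) 5 [0, 1, 2, 8, 9] u) u = true := ext_range (a := 20000) (len := 1000) h20 tr5x_20
  have h22 : ∀ u < 22000, (fun u => chkTree tab (lidx 5) (lpar 5) (lgi 5) 5 [0, 1, 2, 8, 9] u) u = true := ext_range (a := 21000) (len := 1000) h21 tr5x_21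
  have h23 : ∀ u < 23000, (fun u => chkTree tab (lidx 5) (lpar 5) (lgi 5) 5 [0, 1, 2, 8, 9] u) u = true := ext_range (a := 22000) (len := 1000) h22 tr5x_22
  have h24 : ∀ u < 24000, (fun u => chkTree tab (lidx 5) (lpar 5) (lgi 5) 5 [0, 1, 2, 8, 9] u) u = true := ext_range (a := 23000) (len := 1000) h23 tr5x_23
  have h25 : ∀ u < 25000, (fun u => chkTree tab (lidx 5) (lpar 5) (lgi 5) 5 [0, 1, 2, 8, 9] u) u = true := ext_range (a := 24000) (len := 1000) h24 tr5x_24
  have h26 : ∀ u < 26000, (fun u => chkTree tab (lidx 5) (lpar 5) (lgi 5) 5 [0, 1, 2, 8, 9] u) u = true := ext_range (a := 25000) (len := 1000) h25 tr5x_25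
  have h27 : ∀ u < 27000, (fun u => chkTree tab (lidx 5) (lpar 5) (lgi 5) 5 [0, 1, 2, 8, 9] u) u = true := ext_range (a := 26000) (len := 1000) h26 tr5x_26
  have h28 : ∀ u < 28000, (fun u => chkTree tab (lidx 5) (lpar 5) (lgi 5) 5 [0, 1, 2, 8, 9] u) u = true := ext_range (a := 27000) (len := 1000) h27 tr5x_27
  have h29 : ∀ u < 29000, (fun u => chkTree tab (lidx 5) (lpar 5) (lgi 5) 5 [0, 1, 2, 8, 9] u) u = true := ext_range (a := 28000) (len := 1000) h28 tr5x_28
  have h30 : ∀ u < 30000, (fun u => chkTree tab (lidx 5) (lpar 5) (lgi 5) 5 [0, 1, 2, 8, 9] u) u = true := ext_range (a := 29000) (len := 1000) h29 tr5x_29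
  have h31 : ∀ u < 31000, (fun u => chkTree tab (lidx 5) (lpar 5) (lgi 5) 5 [0, 1, 2, 8, 9] u) u = true := ext_range (a := 30000) (len := 1000) h30 tr5x_30
  have h32 : ∀ u < 31671, (fun u => chkTree tab (lidx 5) (lpar 5) (lgi 5) 5 [0, 1, 2, 8, 9] u) u = true := ext_range (a := 31000) (len := 671) h31 tr5x_31
  exact h32

theorem hT6 : ∀ u < 31671, chkTree tab (lidx 6) (lpar 6) (lgi 6) 6 [0, 1] u = true := by
  have h0 : ∀ u < 0, (fun u => chkTree tab (lidx 6) (lpar 6) (lgi 6) 6 [0, 1] u) u = true := range_zero
  have h1 : ∀ u < 1000, (fun u => chkTree tab (lidx 6) (lpar 6) (lgi 6) 6 [0, 1] u) u = true := ext_range (a := 0) (len := 1000) h0 tr6x_0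
  have h2 : ∀ u < 2000, (fun u => chkTree tab (lidx 6) (lpar 6) (lgi 6) 6 [0, 1] u) u = true := ext_range (a := 1000) (len := 1000) h1 tr6x_1
  have h3 : ∀ u < 3000, (fun u => chkTree tab (lidx 6) (lpar 6) (lgi 6) 6 [0, 1] u) u = true := ext_range (a := 2000) (len := 1000) h2 tr6x_2
  have h4 : ∀ u < 4000, (fun u => chkTree tab (lidx 6) (lpar 6) (lgi 6) 6 [0, 1] u) u = true := ext_range (a := 3000) (len := 1000) h3 tr6x_3
  have h5 : ∀ u < 5000, (fun u => chkTree tab (lidx 6) (lpar 6) (lgi 6) 6 [0, 1] u) u = true := ext_range (a := 4000) (len := 1000) h4 tr6x_4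
  have h6 : ∀ u < 6000, (fun u => chkTree tab (lidx 6) (lpar 6) (lgi 6) 6 [0, 1] u) u = true := ext_range (a := 5000) (len := 1000) h5 tr6x_5
  have h7 : ∀ u < 7000, (fun u => chkTree tab (lidx 6) (lpar 6) (lgi 6) 6 [0, 1] u) u = true := ext_range (a := 6000) (len := 1000) h6 tr6x_6
  have h8 : ∀ u < 8000, (fun u => chkTree tab (lidx 6) (lpar 6) (lgi 6) 6 [0, 1] u) u = true := ext_range (a := 7000) (len := 1000) h7 tr6x_7
  have h9 : ∀ u < 9000, (fun u => chkTree tab (lidx 6) (lpar 6) (lgi 6) 6 [0, 1] u) u = true := ext_range (a := 8000) (len := 1000) h8 tr6x_8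
  have h10 : ∀ u < 10000, (fun u => chkTree tab (lidx 6) (lpar 6) (lgi 6) 6 [0, 1] u) u = true := ext_range (a := 9000) (len := 1000) h9 tr6x_9
  have h11 : ∀ u < 11000, (fun u => chkTree tab (lidx 6) (lpar 6) (lgi 6) 6 [0, 1] u) u = true := ext_range (a := 10000) (len := 1000) h10 tr6x_10
  have h12 : ∀ u < 12000, (fun u => chkTree tab (lidx 6) (lpar 6) (lgi 6) 6 [0, 1] u) u = true := ext_range (a := 11000) (len := 1000) h11 tr6x_11
  have h13 : ∀ u < 13000, (fun u => chkTree tab (lidx 6) (lpar 6) (lgi 6) 6 [0, 1] u) u = true := ext_range (a := 12000) (len := 1000) h12 tr6x_12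
  have h14 : ∀ u < 14000, (fun u => chkTree tab (lidx 6) (lpar 6) (lgi 6) 6 [0, 1] u) u = true := ext_range (a := 13000) (len := 1000) h13 tr6x_13
  have h15 : ∀ u < 15000, (fun u => chkTree tab (lidx 6) (lpar 6) (lgi 6) 6 [0, 1] u) u = true := ext_range (a := 14000) (len := 1000) h14 tr6x_14
  have h16 : ∀ u < 16000, (fun u => chkTree tab (lidx 6) (lpar 6) (lgi 6) 6 [0, 1] u) u = true := ext_range (a := 15000) (len := 1000) h15 tr6x_15
  have h17 : ∀ u < 17000, (fun u => chkTree tab (lidx 6) (lpar 6) (lgi 6) 6 [0, 1] u) u = true := ext_range (a := 16000) (len := 1000) h16 tr6x_16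
  have h18 : ∀ u < 18000, (fun u => chkTree tab (lidx 6) (lpar 6) (lgi 6) 6 [0, 1] u) u = true := ext_range (a := 17000) (len := 1000) h17 tr6x_17
  have h19 : ∀ u < 19000, (fun u => chkTree tab (lidx 6) (lpar 6) (lgi 6) 6 [0, 1] u) u = true := ext_range (a := 18000) (len := 1000) h18 tr6x_18
  have h20 : ∀ u < 20000, (fun u => chkTree tab (lidx 6) (lpar 6) (lgi 6) 6 [0, 1] u) u = true := ext_range (a := 19000) (len := 1000) h19 tr6x_19
  have h21 : ∀ u < 21000, (fun u => chkTree tab (lidx 6) (lpar 6) (lgi 6) 6 [0, 1] u) u = true := ext_range (a := 20000) (len := 1000) h20 tr6x_20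
  have h22 : ∀ u < 22000, (fun u => chkTree tab (lidx 6) (lpar 6) (lgi 6) 6 [0, 1] u) u = true := ext_range (a := 21000) (len := 1000) h21 tr6x_21
  have h23 : ∀ u < 23000, (fun u => chkTree tab (lidx 6) (lpar 6) (lgi 6) 6 [0, 1] u) u = true := ext_range (a := 22000) (len := 1000) h22 tr6x_22
  have h24 : ∀ u < 24000, (fun u => chkTree tab (lidx 6) (lpar 6) (lgi 6) 6 [0, 1] u) u = true := ext_range (a := 23000) (len := 1000) h23 tr6x_23
  have h25 : ∀ u < 25000, (fun u => chkTree tab (lidx 6) (lpar 6) (lgi 6) 6 [0, 1] u) u = true := ext_range (a := 24000) (len := 1000) h24 tr6x_24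
  have h26 : ∀ u < 26000, (fun u => chkTree tab (lidx 6) (lpar 6) (lgi 6) 6 [0, 1] u) u = true := ext_range (a := 25000) (len := 1000) h25 tr6x_25
  have h27 : ∀ u < 27000, (fun u => chkTree tab (lidx 6) (lpar 6) (lgi 6) 6 [0, 1] u) u = true := ext_range (a := 26000) (len := 1000) h26 tr6x_26
  have h28 : ∀ u < 28000, (fun u => chkTree tab (lidx 6) (lpar 6) (lgi 6) 6 [0, 1] u) u = true := ext_range (a := 27000) (len := 1000) h27 tr6x_27
  have h29 : ∀ u < 29000, (fun u => chkTree tab (lidx 6) (lpar 6) (lgi 6) 6 [0, 1] u) u = true := ext_range (a := 28000) (len := 1000) h28 tr6x_28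
  have h30 : ∀ u < 30000, (fun u => chkTree tab (lidx 6) (lpar 6) (lgi 6) 6 [0, 1] u) u = true := ext_range (a := 29000) (len := 1000) h29 tr6x_29
  have h31 : ∀ u < 31000, (fun u => chkTree tab (lidx 6) (lpar 6) (lgi 6) 6 [0, 1] u) u = true := ext_range (a := 30000) (len := 1000) h30 tr6x_30
  have h32 : ∀ u < 31671, (fun u => chkTree tab (lidx 6) (lpar 6) (lgi 6) 6 [0, 1] u) u = true := ext_range (a := 31000) (len := 671) h31 tr6x_31
  exact h32

theorem hT7 : ∀ u < 31671, chkTree tab (lidx 7) (lpar 7) (lgi 7) 8 [0] u = true := by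
  have h0 : ∀ u < 0, (fun u => chkTree tab (lidx 7) (lpar 7) (lgi 7) 8 [0] u) u = true := range_zero
  have h1 : ∀ u < 1000, (fun u => chkTree tab (lidx 7) (lpar 7) (lgi 7) 8 [0] u) u = true := ext_range (a := 0) (len := 1000) h0 tr7x_0
  have h2 : ∀ u < 2000, (fun u => chkTree tab (lidx 7) (lpar 7) (lgi 7) 8 [0] u) u = true := ext_range (a := 1000) (len := 1000) h1 tr7x_1
  have h3 : ∀ u < 3000, (fun u => chkTree tab (lidx 7) (lpar 7) (lgi 7) 8 [0] u) u = true := ext_range (a := 2000) (len := 1000) h2 tr7x_2
  have h4 : ∀ u < 4000, (fun u => chkTree tab (lidx 7) (lpar 7) (lgi 7) 8 [0] u) u = true := ext_range (a := 3000) (len := 1000) h3 tr7x_3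
  have h5 : ∀ u < 5000, (fun u => chkTree tab (lidx 7) (lpar 7) (lgi 7) 8 [0] u) u = true := ext_range (a := 4000) (len := 1000) h4 tr7x_4
  have h6 : ∀ u < 6000, (fun u => chkTree tab (lidx 7) (lpar 7) (lgi 7) 8 [0] u) u = true := ext_range (a := 5000) (len := 1000) h5 tr7x_5
  have h7 : ∀ u < 7000, (fun u => chkTree tab (lidx 7) (lpar 7) (lgi 7) 8 [0] u) u = true := ext_range (a := 6000) (len := 1000) h6 tr7x_6
  have h8 : ∀ u < 8000, (fun u => chkTree tab (lidx 7) (lpar 7) (lgi 7) 8 [0] u) u = true := ext_range (a := 7000) (len := 1000) h7 tr7x_7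
  have h9 : ∀ u < 9000, (fun u => chkTree tab (lidx 7) (lpar 7) (lgi 7) 8 [0] u) u = true := ext_range (a := 8000) (len := 1000) h8 tr7x_8
  have h10 : ∀ u < 10000, (fun u => chkTree tab (lidx 7) (lpar 7) (lgi 7) 8 [0] u) u = true := ext_range (a := 9000) (len := 1000) h9 tr7x_9
  have h11 : ∀ u < 11000, (fun u => chkTree tab (lidx 7) (lpar 7) (lgi 7) 8 [0] u) u = true := ext_range (a := 10000) (len := 1000) h10 tr7x_10
  have h12 : ∀ u < 12000, (fun u => chkTree tab (lidx 7) (lpar 7) (lgi 7) 8 [0] u) u = true := ext_range (a := 11000) (len := 1000) h11 tr7x_11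
  have h13 : ∀ u < 13000, (fun u => chkTree tab (lidx 7) (lpar 7) (lgi 7) 8 [0] u) u = true := ext_range (a := 12000) (len := 1000) h12 tr7x_12
  have h14 : ∀ u < 14000, (fun u => chkTree tab (lidx 7) (lpar 7) (lgi 7) 8 [0] u) u = true := ext_range (a := 13000) (len := 1000) h13 tr7x_13
  have h15 : ∀ u < 15000, (fun u => chkTree tab (lidx 7) (lpar 7) (lgi 7) 8 [0] u) u = true := ext_range (a := 14000) (len := 1000) h14 tr7x_14
  have h16 : ∀ u < 16000, (fun u => chkTree tab (lidx 7) (lpar 7) (lgi 7) 8 [0] u) u = true := ext_range (a := 15000) (len := 1000) h15 tr7x_15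
  have h17 : ∀ u < 17000, (fun u => chkTree tab (lidx 7) (lpar 7) (lgi 7) 8 [0] u) u = true := ext_range (a := 16000) (len := 1000) h16 tr7x_16
  have h18 : ∀ u < 18000, (fun u => chkTree tab (lidx 7) (lpar 7) (lgi 7) 8 [0] u) u = true := ext_range (a := 17000) (len := 1000) h17 tr7x_17
  have h19 : ∀ u < 19000, (fun u => chkTree tab (lidx 7) (lpar 7) (lgi 7) 8 [0] u) u = true := ext_range (a := 18000) (len := 1000) h18 tr7x_18
  have h20 : ∀ u < 20000, (fun u => chkTree tab (lidx 7) (lpar 7) (lgi 7) 8 [0] u) u = true := ext_range (a := 19000) (len := 1000) h19 tr7x_19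
  have h21 : ∀ u < 21000, (fun u => chkTree tab (lidx 7) (lpar 7) (lgi 7) 8 [0] u) u = true := ext_range (a := 20000) (len := 1000) h20 tr7x_20
  have h22 : ∀ u < 22000, (fun u => chkTree tab (lidx 7) (lpar 7) (lgi 7) 8 [0] u) u = true := ext_range (a := 21000) (len := 1000) h21 tr7x_21
  have h23 : ∀ u < 23000, (fun u => chkTree tab (lidx 7) (lpar 7) (lgi 7) 8 [0] u) u = true := ext_range (a := 22000) (len := 1000) h22 tr7x_22
  have h24 : ∀ u < 24000, (fun u => chkTree tab (lidx 7) (lpar 7) (lgi 7) 8 [0] u) u = true := ext_range (a := 23000) (len := 1000) h23 tr7x_23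
  have h25 : ∀ u < 25000, (fun u => chkTree tab (lidx 7) (lpar 7) (lgi 7) 8 [0] u) u = true := ext_range (a := 24000) (len := 1000) h24 tr7x_24
  have h26 : ∀ u < 26000, (fun u => chkTree tab (lidx 7) (lpar 7) (lgi 7) 8 [0] u) u = true := ext_range (a := 25000) (len := 1000) h25 tr7x_25
  have h27 : ∀ u < 27000, (fun u => chkTree tab (lidx 7) (lpar 7) (lgi 7) 8 [0] u) u = true := ext_range (a := 26000) (len := 1000) h26 tr7x_26
  have h28 : ∀ u < 28000, (fun u => chkTree tab (lidx 7) (lpar 7) (lgi 7) 8 [0] u) u = true := ext_range (a := 27000) (len := 1000) h27 tr7x_27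
  have h29 : ∀ u < 29000, (fun u => chkTree tab (lidx 7) (lpar 7) (lgi 7) 8 [0] u) u = true := ext_range (a := 28000) (len := 1000) h28 tr7x_28
  have h30 : ∀ u < 30000, (fun u => chkTree tab (lidx 7) (lpar 7) (lgi 7) 8 [0] u) u = true := ext_range (a := 29000) (len := 1000) h29 tr7x_29
  have h31 : ∀ u < 31000, (fun u => chkTree tab (lidx 7) (lpar 7) (lgi 7) 8 [0] u) u = true := ext_range (a := 30000) (len := 1000) h30 tr7x_30
  have h32 : ∀ u < 31671, (fun u => chkTree tab (lidx 7) (lpar 7) (lgi 7) 8 [0] u) u = true := ext_range (a := 31000) (len := 671) h31 tr7x_31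
  exact h32

theorem hT8 : ∀ u < 31671, chkTree tab (lidx 8) (lpar 8) (lgi 8) 7 [9] u = true := by
  have h0 : ∀ u < 0, (fun u => chkTree tab (lidx 8) (lpar 8) (lgi 8) 7 [9] u) u = true := range_zero
  have h1 : ∀ u < 1000, (fun u => chkTree tab (lidx 8) (lpar 8) (lgi 8) 7 [9] u) u = true := ext_range (a := 0) (len := 1000) h0 tr8x_0
  have h2 : ∀ u < 2000, (fun u => chkTree tab (lidx 8) (lpar 8) (lgi 8) 7 [9] u) u = true := ext_range (a := 1000) (len := 1000) h1 tr8x_1
  have h3 : ∀ u < 3000, (fun u => chkTree tab (lidx 8) (lpar 8) (lgi 8) 7 [9] u) u = true := ext_range (a := 2000) (len := 1000) h2 tr8x_2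
  have h4 : ∀ u < 4000, (fun u => chkTree tab (lidx 8) (lpar 8) (lgi 8) 7 [9] u) u = true := ext_range (a := 3000) (len := 1000) h3 tr8x_3
  have h5 : ∀ u < 5000, (fun u => chkTree tab (lidx 8) (lpar 8) (lgi 8) 7 [9] u) u = true := ext_range (a := 4000) (len := 1000) h4 tr8x_4
  have h6 : ∀ u < 6000, (fun u => chkTree tab (lidx 8) (lpar 8) (lgi 8) 7 [9] u) u = true := ext_range (a := 5000) (len := 1000) h5 tr8x_5
  have h7 : ∀ u < 7000, (fun u => chkTree tab (lidx 8) (lpar 8) (lgi 8) 7 [9] u) u = true := ext_range (a := 6000) (len := 1000) h6 tr8x_6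
  have h8 : ∀ u < 8000, (fun u => chkTree tab (lidx 8) (lpar 8) (lgi 8) 7 [9] u) u = true := ext_range (a := 7000) (len := 1000) h7 tr8x_7
  have h9 : ∀ u < 9000, (fun u => chkTree tab (lidx 8) (lpar 8) (lgi 8) 7 [9] u) u = true := ext_range (a := 8000) (len := 1000) h8 tr8x_8
  have h10 : ∀ u < 10000, (fun u => chkTree tab (lidx 8) (lpar 8) (lgi 8) 7 [9] u) u = true := ext_range (a := 9000) (len := 1000) h9 tr8x_9
  have h11 : ∀ u < 11000, (fun u => chkTree tab (lidx 8) (lpar 8) (lgi 8) 7 [9] u) u = true := ext_range (a := 10000) (len := 1000) h10 tr8x_10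
  have h12 : ∀ u < 12000, (fun u => chkTree tab (lidx 8) (lpar 8) (lgi 8) 7 [9] u) u = true := ext_range (a := 11000) (len := 1000) h11 tr8x_11
  have h13 : ∀ u < 13000, (fun u => chkTree tab (lidx 8) (lpar 8) (lgi 8) 7 [9] u) u = true := ext_range (a := 12000) (len := 1000) h12 tr8x_12
  have h14 : ∀ u < 14000, (fun u => chkTree tab (lidx 8) (lpar 8) (lgi 8) 7 [9] u) u = true := ext_range (a := 13000) (len := 1000) h13 tr8x_13
  have h15 : ∀ u < 15000, (fun u => chkTree tab (lidx 8) (lpar 8) (lgi 8) 7 [9] u) u = true := ext_range (a := 14000) (len := 1000) h14 tr8x_14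
  have h16 : ∀ u < 16000, (fun u => chkTree tab (lidx 8) (lpar 8) (lgi 8) 7 [9] u) u = true := ext_range (a := 15000) (len := 1000) h15 tr8x_15
  have h17 : ∀ u < 17000, (fun u => chkTree tab (lidx 8) (lpar 8) (lgi 8) 7 [9] u) u = true := ext_range (a := 16000) (len := 1000) h16 tr8x_16
  have h18 : ∀ u < 18000, (fun u => chkTree tab (lidx 8) (lpar 8) (lgi 8) 7 [9] u) u = true := ext_range (a := 17000) (len := 1000) h17 tr8x_17
  have h19 : ∀ u < 19000, (fun u => chkTree tab (lidx 8) (lpar 8) (lgi 8) 7 [9] u) u = true := ext_range (a := 18000) (len := 1000) h18 tr8x_18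
  have h20 : ∀ u < 20000, (fun u => chkTree tab (lidx 8) (lpar 8) (lgi 8) 7 [9] u) u = true := ext_range (a := 19000) (len := 1000) h19 tr8x_19
  have h21 : ∀ u < 21000, (fun u => chkTree tab (lidx 8) (lpar 8) (lgi 8) 7 [9] u) u = true := ext_range (a := 20000) (len := 1000) h20 tr8x_20
  have h22 : ∀ u < 22000, (fun u => chkTree tab (lidx 8) (lpar 8) (lgi 8) 7 [9] u) u = true := ext_range (a := 21000) (len := 1000) h21 tr8x_21
  have h23 : ∀ u < 23000, (fun u => chkTree tab (lidx 8) (lpar 8) (lgi 8) 7 [9] u) u = true := ext_range (a := 22000) (len := 1000) h22 tr8x_22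
  have h24 : ∀ u < 24000, (fun u => chkTree tab (lidx 8) (lpar 8) (lgi 8) 7 [9] u) u = true := ext_range (a := 23000) (len := 1000) h23 tr8x_23
  have h25 : ∀ u < 25000, (fun u => chkTree tab (lidx 8) (lpar 8) (lgi 8) 7 [9] u) u = true := ext_range (a := 24000) (len := 1000) h24 tr8x_24
  have h26 : ∀ u < 26000, (fun u => chkTree tab (lidx 8) (lpar 8) (lgi 8) 7 [9] u) u = true := ext_range (a := 25000) (len := 1000) h25 tr8x_25
  have h27 : ∀ u < 27000, (fun u => chkTree tab (lidx 8) (lpar 8) (lgi 8) 7 [9] u) u = true := ext_range (a := 26000) (len := 1000) h26 tr8x_26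
  have h28 : ∀ u < 28000, (fun u => chkTree tab (lidx 8) (lpar 8) (lgi 8) 7 [9] u) u = true := ext_range (a := 27000) (len := 1000) h27 tr8x_27
  have h29 : ∀ u < 29000, (fun u => chkTree tab (lidx 8) (lpar 8) (lgi 8) 7 [9] u) u = true := ext_range (a := 28000) (len := 1000) h28 tr8x_28
  have h30 : ∀ u < 30000, (fun u => chkTree tab (lidx 8) (lpar 8) (lgi 8) 7 [9] u) u = true := ext_range (a := 29000) (len := 1000) h29 tr8x_29
  have h31 : ∀ u < 31000, (fun u => chkTree tab (lidx 8) (lpar 8) (lgi 8) 7 [9] u) u = true := ext_range (a := 30000) (len := 1000) h30 tr8x_30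
  have h32 : ∀ u < 31671, (fun u => chkTree tab (lidx 8) (lpar 8) (lgi 8) 7 [9] u) u = true := ext_range (a := 31000) (len := 671) h31 tr8x_31
  exact h32

theorem hX : ∀ u < 31671, Nat.beq ((runT tab xw)^[17] u) u = true := by
  have h0 : ∀ u < 0, (fun u => Nat.beq ((runT tab xw)^[17] u) u) u = true := range_zero
  have h1 : ∀ u < 61, (fun u => Nat.beq ((runT tab xw)^[17] u) u) u = true := ext_range (a := 0) (len := 61) h0 x_0
  have h2 : ∀ u < 122, (fun u => Nat.beq ((runT tab xw)^[17] u) u) u = true := ext_range (a := 61) (len := 61) h1 x_1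
  have h3 : ∀ u < 183, (fun u => Nat.beq ((runT tab xw)^[17] u) u) u = true := ext_range (a := 122) (len := 61) h2 x_2
  have h4 : ∀ u < 244, (fun u => Nat.beq ((runT tab xw)^[17] u) u) u = true := ext_range (a := 183) (len := 61) h3 x_3
  have h5 : ∀ u < 305, (fun u => Nat.beq ((runT tab xw)^[17] u) u) u = true := ext_range (a := 244) (len := 61) h4 x_4
  have h6 : ∀ u < 366, (fun u => Nat.beq ((runT tab xw)^[17] u) u) u = true := ext_range (a := 305) (len := 61) h5 x_5
  have h7 : ∀ u < 427, (fun u => Nat.beq ((runT tab xw)^[17] u) u) u = true := ext_range (a := 366) (len := 61) h6 x_6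
  have h8 : ∀ u < 488, (fun u => Nat.beq ((runT tab xw)^[17] u) u) u = true := ext_range (a := 427) (len := 61) h7 x_7
  have h9 : ∀ u < 549, (fun u => Nat.beq ((runT tab xw)^[17] u) u) u = true := ext_range (a := 488) (len := 61) h8 x_8
  have h10 : ∀ u < 610, (fun u => Nat.beq ((runT tab xw)^[17] u) u) u = true := ext_range (a := 549) (len := 61) h9 x_9
  have h11 : ∀ u < 671, (fun u => Nat.beq ((runT tab xw)^[17] u) u) u = true := ext_range (a := 610) (len := 61) h10 x_10
  have h12 : ∀ u < 732, (fun u => Nat.beq ((runT tab xw)^[17] u) u) u = true := ext_range (a := 671) (len := 61) h11 x_11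
  have h13 : ∀ u < 793, (fun u => Nat.beq ((runT tab xw)^[17] u) u) u = true := ext_range (a := 732) (len := 61) h12 x_12
  have h14 : ∀ u < 854, (fun u => Nat.beq ((runT tab xw)^[17] u) u) u = true := ext_range (a := 793) (len := 61) h13 x_13
  have h15 : ∀ u < 915, (fun u => Nat.beq ((runT tab xw)^[17] u) u) u = true := ext_range (a := 854) (len := 61) h14 x_14
  have h16 : ∀ u < 976, (fun u => Nat.beq ((runT tab xw)^[17] u) u) u = true := ext_range (a := 915) (len := 61) h15 x_15
  have h17 : ∀ u < 1037, (fun u => Nat.beq ((runT tab xw)^[17] u) u) u = true := ext_range (a := 976) (len := 61) h16 x_16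
  have h18 : ∀ u < 1098, (fun u => Nat.beq ((runT tab xw)^[17] u) u) u = true := ext_range (a := 1037) (len := 61) h17 x_17
  have h19 : ∀ u < 1159, (fun u => Nat.beq ((runT tab xw)^[17] u) u) u = true := ext_range (a := 1098) (len := 61) h18 x_18
  have h20 : ∀ u < 1220, (fun u => Nat.beq ((runT tab xw)^[17] u) u) u = true := ext_range (a := 1159) (len := 61) h19 x_19
  have h21 : ∀ u < 1281, (fun u => Nat.beq ((runT tab xw)^[17] u) u) u = true := ext_range (a := 1220) (len := 61) h20 x_20
  have h22 : ∀ u < 1342, (fun u => Nat.beq ((runT tab xw)^[17] u) u) u = true := ext_range (a := 1281) (len := 61) h21 x_21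
  have h23 : ∀ u < 1403, (fun u => Nat.beq ((runT tab xw)^[17] u) u) u = true := ext_range (a := 1342) (len := 61) h22 x_22
  have h24 : ∀ u < 1464, (fun u => Nat.beq ((runT tab xw)^[17] u) u) u = true := ext_range (a := 1403) (len := 61) h23 x_23
  have h25 : ∀ u < 1525, (fun u => Nat.beq ((runT tab xw)^[17] u) u) u = true := ext_range (a := 1464) (len := 61) h24 x_24
  have h26 : ∀ u < 1586, (fun u => Nat.beq ((runT tab xw)^[17] u) u) u = true := ext_range (a := 1525) (len := 61) h25 x_25
  have h27 : ∀ u < 1647, (fun u => Nat.beq ((runT tab xw)^[17] u) u) u = true := ext_range (a := 1586) (len := 61) h26 x_26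
  have h28 : ∀ u < 1708, (fun u => Nat.beq ((runT tab xw)^[17] u) u) u = true := ext_range (a := 1647) (len := 61) h27 x_27
  have h29 : ∀ u < 1769, (fun u => Nat.beq ((runT tab xw)^[17] u) u) u = true := ext_range (a := 1708) (len := 61) h28 x_28
  have h30 : ∀ u < 1830, (fun u => Nat.beq ((runT tab xw)^[17] u) u) u = true := ext_range (a := 1769) (len := 61) h29 x_29
  have h31 : ∀ u < 1891, (fun u => Nat.beq ((runT tab xw)^[17] u) u) u = true := ext_range (a := 1830) (len := 61) h30 x_30
  have h32 : ∀ u < 1952, (fun u => Nat.beq ((runT tab xw)^[17] u) u) u = true := ext_range (a := 1891) (len := 61) h31 x_31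
  have h33 : ∀ u < 2013, (fun u => Nat.beq ((runT tab xw)^[17] u) u) u = true := ext_range (a := 1952) (len := 61) h32 x_32
  have h34 : ∀ u < 2074, (fun u => Nat.beq ((runT tab xw)^[17] u) u) u = true := ext_range (a := 2013) (len := 61) h33 x_33
  have h35 : ∀ u < 2135, (fun u => Nat.beq ((runT tab xw)^[17] u) u) u = true := ext_range (a := 2074) (len := 61) h34 x_34
  have h36 : ∀ u < 2196, (fun u => Nat.beq ((runT tab xw)^[17] u) u) u = true := ext_range (a := 2135) (len := 61) h35 x_35
  have h37 : ∀ u < 2257, (fun u => Nat.beq ((runT tab xw)^[17] u) u) u = true := ext_range (a := 2196) (len := 61) h36 x_36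
  have h38 : ∀ u < 2318, (fun u => Nat.beq ((runT tab xw)^[17] u) u) u = true := ext_range (a := 2257) (len := 61) h37 x_37
  have h39 : ∀ u < 2379, (fun u => Nat.beq ((runT tab xw)^[17] u) u) u = true := ext_range (a := 2318) (len := 61) h38 x_38
  have h40 : ∀ u < 2440, (fun u => Nat.beq ((runT tab xw)^[17] u) u) u = true := ext_range (a := 2379) (len := 61) h39 x_39
  have h41 : ∀ u < 2501, (fun u => Nat.beq ((runT tab xw)^[17] u) u) u = true := ext_range (a := 2440) (len := 61) h40 x_40
  have h42 : ∀ u < 2562, (fun u => Nat.beq ((runT tab xw)^[17] u) u) u = true := ext_range (a := 2501) (len := 61) h41 x_41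
  have h43 : ∀ u < 2623, (fun u => Nat.beq ((runT tab xw)^[17] u) u) u = true := ext_range (a := 2562) (len := 61) h42 x_42
  have h44 : ∀ u < 2684, (fun u => Nat.beq ((runT tab xw)^[17] u) u) u = true := ext_range (a := 2623) (len := 61) h43 x_43
  have h45 : ∀ u < 2745, (fun u => Nat.beq ((runT tab xw)^[17] u) u) u = true := ext_range (a := 2684) (len := 61) h44 x_44
  have h46 : ∀ u < 2806, (fun u => Nat.beq ((runT tab xw)^[17] u) u) u = true := ext_range (a := 2745) (len := 61) h45 x_45
  have h47 : ∀ u < 2867, (fun u => Nat.beq ((runT tab xw)^[17] u) u) u = true := ext_range (a := 2806) (len := 61) h46 x_46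
  have h48 : ∀ u < 2928, (fun u => Nat.beq ((runT tab xw)^[17] u) u) u = true := ext_range (a := 2867) (len := 61) h47 x_47
  have h49 : ∀ u < 2989, (fun u => Nat.beq ((runT tab xw)^[17] u) u) u = true := ext_range (a := 2928) (len := 61) h48 x_48
  have h50 : ∀ u < 3050, (fun u => Nat.beq ((runT tab xw)^[17] u) u) u = true := ext_range (a := 2989) (len := 61) h49 x_49
  have h51 : ∀ u < 3111, (fun u => Nat.beq ((runT tab xw)^[17] u) u) u = true := ext_range (a := 3050) (len := 61) h50 x_50
  have h52 : ∀ u < 3172, (fun u => Nat.beq ((runT tab xw)^[17] u) u) u = true := ext_range (a := 3111) (len := 61) h51 x_51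
  have h53 : ∀ u < 3233, (fun u => Nat.beq ((runT tab xw)^[17] u) u) u = true := ext_range (a := 3172) (len := 61) h52 x_52
  have h54 : ∀ u < 3294, (fun u => Nat.beq ((runT tab xw)^[17] u) u) u = true := ext_range (a := 3233) (len := 61) h53 x_53
  have h55 : ∀ u < 3355, (fun u => Nat.beq ((runT tab xw)^[17] u) u) u = true := ext_range (a := 3294) (len := 61) h54 x_54
  have h56 : ∀ u < 3416, (fun u => Nat.beq ((runT tab xw)^[17] u) u) u = true := ext_range (a := 3355) (len := 61) h55 x_55
  have h57 : ∀ u < 3477, (fun u => Nat.beq ((runT tab xw)^[17] u) u) u = true := ext_range (a := 3416) (len := 61) h56 x_56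
  have h58 : ∀ u < 3538, (fun u => Nat.beq ((runT tab xw)^[17] u) u) u = true := ext_range (a := 3477) (len := 61) h57 x_57
  have h59 : ∀ u < 3599, (fun u => Nat.beq ((runT tab xw)^[17] u) u) u = true := ext_range (a := 3538) (len := 61) h58 x_58
  have h60 : ∀ u < 3660, (fun u => Nat.beq ((runT tab xw)^[17] u) u) u = true := ext_range (a := 3599) (len := 61) h59 x_59
  have h61 : ∀ u < 3721, (fun u => Nat.beq ((runT tab xw)^[17] u) u) u = true := ext_range (a := 3660) (len := 61) h60 x_60
  have h62 : ∀ u < 3782, (fun u => Nat.beq ((runT tab xw)^[17] u) u) u = true := ext_range (a := 3721) (len := 61) h61 x_61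
  have h63 : ∀ u < 3843, (fun u => Nat.beq ((runT tab xw)^[17] u) u) u = true := ext_range (a := 3782) (len := 61) h62 x_62
  have h64 : ∀ u < 3904, (fun u => Nat.beq ((runT tab xw)^[17] u) u) u = true := ext_range (a := 3843) (len := 61) h63 x_63
  have h65 : ∀ u < 3965, (fun u => Nat.beq ((runT tab xw)^[17] u) u) u = true := ext_range (a := 3904) (len := 61) h64 x_64
  have h66 : ∀ u < 4026, (fun u => Nat.beq ((runT tab xw)^[17] u) u) u = true := ext_range (a := 3965) (len := 61) h65 x_65
  have h67 : ∀ u < 4087, (fun u => Nat.beq ((runT tab xw)^[17] u) u) u = true := ext_range (a := 4026) (len := 61) h66 x_66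
  have h68 : ∀ u < 4148, (fun u => Nat.beq ((runT tab xw)^[17] u) u) u = true := ext_range (a := 4087) (len := 61) h67 x_67
  have h69 : ∀ u < 4209, (fun u => Nat.beq ((runT tab xw)^[17] u) u) u = true := ext_range (a := 4148) (len := 61) h68 x_68
  have h70 : ∀ u < 4270, (fun u => Nat.beq ((runT tab xw)^[17] u) u) u = true := ext_range (a := 4209) (len := 61) h69 x_69
  have h71 : ∀ u < 4331, (fun u => Nat.beq ((runT tab xw)^[17] u) u) u = true := ext_range (a := 4270) (len := 61) h70 x_70
  have h72 : ∀ u < 4392, (fun u => Nat.beq ((runT tab xw)^[17] u) u) u = true := ext_range (a := 4331) (len := 61) h71 x_71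
  have h73 : ∀ u < 4453, (fun u => Nat.beq ((runT tab xw)^[17] u) u) u = true := ext_range (a := 4392) (len := 61) h72 x_72
  have h74 : ∀ u < 4514, (fun u => Nat.beq ((runT tab xw)^[17] u) u) u = true := ext_range (a := 4453) (len := 61) h73 x_73
  have h75 : ∀ u < 4575, (fun u => Nat.beq ((runT tab xw)^[17] u) u) u = true := ext_range (a := 4514) (len := 61) h74 x_74
  have h76 : ∀ u < 4636, (fun u => Nat.beq ((runT tab xw)^[17] u) u) u = true := ext_range (a := 4575) (len := 61) h75 x_75
  have h77 : ∀ u < 4697, (fun u => Nat.beq ((runT tab xw)^[17] u) u) u = true := ext_range (a := 4636) (len := 61) h76 x_76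
  have h78 : ∀ u < 4758, (fun u => Nat.beq ((runT tab xw)^[17] u) u) u = true := ext_range (a := 4697) (len := 61) h77 x_77
  have h79 : ∀ u < 4819, (fun u => Nat.beq ((runT tab xw)^[17] u) u) u = true := ext_range (a := 4758) (len := 61) h78 x_78
  have h80 : ∀ u < 4880, (fun u => Nat.beq ((runT tab xw)^[17] u) u) u = true := ext_range (a := 4819) (len := 61) h79 x_79
  have h81 : ∀ u < 4941, (fun u => Nat.beq ((runT tab xw)^[17] u) u) u = true := ext_range (a := 4880) (len := 61) h80 x_80
  have h82 : ∀ u < 5002, (fun u => Nat.beq ((runT tab xw)^[17] u) u) u = true := ext_range (a := 4941) (len := 61) h81 x_81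
  have h83 : ∀ u < 5063, (fun u => Nat.beq ((runT tab xw)^[17] u) u) u = true := ext_range (a := 5002) (len := 61) h82 x_82
  have h84 : ∀ u < 5124, (fun u => Nat.beq ((runT tab xw)^[17] u) u) u = true := ext_range (a := 5063) (len := 61) h83 x_83
  have h85 : ∀ u < 5185, (fun u => Nat.beq ((runT tab xw)^[17] u) u) u = true := ext_range (a := 5124) (len := 61) h84 x_84
  have h86 : ∀ u < 5246, (fun u => Nat.beq ((runT tab xw)^[17] u) u) u = true := ext_range (a := 5185) (len := 61) h85 x_85
  have h87 : ∀ u < 5307, (fun u => Nat.beq ((runT tab xw)^[17] u) u) u = true := ext_range (a := 5246) (len := 61) h86 x_86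
  have h88 : ∀ u < 5368, (fun u => Nat.beq ((runT tab xw)^[17] u) u) u = true := ext_range (a := 5307) (len := 61) h87 x_87
  have h89 : ∀ u < 5429, (fun u => Nat.beq ((runT tab xw)^[17] u) u) u = true := ext_range (a := 5368) (len := 61) h88 x_88
  have h90 : ∀ u < 5490, (fun u => Nat.beq ((runT tab xw)^[17] u) u) u = true := ext_range (a := 5429) (len := 61) h89 x_89
  have h91 : ∀ u < 5551, (fun u => Nat.beq ((runT tab xw)^[17] u) u) u = true := ext_range (a := 5490) (len := 61) h90 x_90
  have h92 : ∀ u < 5612, (fun u => Nat.beq ((runT tab xw)^[17] u) u) u = true := ext_range (a := 5551) (len := 61) h91 x_91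
  have h93 : ∀ u < 5673, (fun u => Nat.beq ((runT tab xw)^[17] u) u) u = true := ext_range (a := 5612) (len := 61) h92 x_92
  have h94 : ∀ u < 5734, (fun u => Nat.beq ((runT tab xw)^[17] u) u) u = true := ext_range (a := 5673) (len := 61) h93 x_93
  have h95 : ∀ u < 5795, (fun u => Nat.beq ((runT tab xw)^[17] u) u) u = true := ext_range (a := 5734) (len := 61) h94 x_94
  have h96 : ∀ u < 5856, (fun u => Nat.beq ((runT tab xw)^[17] u) u) u = true := ext_range (a := 5795) (len := 61) h95 x_95
  have h97 : ∀ u < 5917, (fun u => Nat.beq ((runT tab xw)^[17] u) u) u = true := ext_range (a := 5856) (len := 61) h96 x_96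
  have h98 : ∀ u < 5978, (fun u => Nat.beq ((runT tab xw)^[17] u) u) u = true := ext_range (a := 5917) (len := 61) h97 x_97
  have h99 : ∀ u < 6039, (fun u => Nat.beq ((runT tab xw)^[17] u) u) u = true := ext_range (a := 5978) (len := 61) h98 x_98
  have h100 : ∀ u < 6100, (fun u => Nat.beq ((runT tab xw)^[17] u) u) u = true := ext_range (a := 6039) (len := 61) h99 x_99
  have h101 : ∀ u < 6161, (fun u => Nat.beq ((runT tab xw)^[17] u) u) u = true := ext_range (a := 6100) (len := 61) h100 x_100
  have h102 : ∀ u < 6222, (fun u => Nat.beq ((runT tab xw)^[17] u) u) u = true := ext_range (a := 6161) (len := 61) h101 x_101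
  have h103 : ∀ u < 6283, (fun u => Nat.beq ((runT tab xw)^[17] u) u) u = true := ext_range (a := 6222) (len := 61) h102 x_102
  have h104 : ∀ u < 6344, (fun u => Nat.beq ((runT tab xw)^[17] u) u) u = true := ext_range (a := 6283) (len := 61) h103 x_103
  have h105 : ∀ u < 6405, (fun u => Nat.beq ((runT tab xw)^[17] u) u) u = true := ext_range (a := 6344) (len := 61) h104 x_104
  have h106 : ∀ u < 6466, (fun u => Nat.beq ((runT tab xw)^[17] u) u) u = true := ext_range (a := 6405) (len := 61) h105 x_105
  have h107 : ∀ u < 6527, (fun u => Nat.beq ((runT tab xw)^[17] u) u) u = true := ext_range (a := 6466) (len := 61) h106 x_106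
  have h108 : ∀ u < 6588, (fun u => Nat.beq ((runT tab xw)^[17] u) u) u = true := ext_range (a := 6527) (len := 61) h107 x_107
  have h109 : ∀ u < 6649, (fun u => Nat.beq ((runT tab xw)^[17] u) u) u = true := ext_range (a := 6588) (len := 61) h108 x_108
  have h110 : ∀ u < 6710, (fun u => Nat.beq ((runT tab xw)^[17] u) u) u = true := ext_range (a := 6649) (len := 61) h109 x_109
  have h111 : ∀ u < 6771, (fun u => Nat.beq ((runT tab xw)^[17] u) u) u = true := ext_range (a := 6710) (len := 61) h110 x_110
  have h112 : ∀ u < 6832, (fun u => Nat.beq ((runT tab xw)^[17] u) u) u = true := ext_range (a := 6771) (len := 61) h111 x_111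
  have h113 : ∀ u < 6893, (fun u => Nat.beq ((runT tab xw)^[17] u) u) u = true := ext_range (a := 6832) (len := 61) h112 x_112
  have h114 : ∀ u < 6954, (fun u => Nat.beq ((runT tab xw)^[17] u) u) u = true := ext_range (a := 6893) (len := 61) h113 x_113
  have h115 : ∀ u < 7015, (fun u => Nat.beq ((runT tab xw)^[17] u) u) u = true := ext_range (a := 6954) (len := 61) h114 x_114
  have h116 : ∀ u < 7076, (fun u => Nat.beq ((runT tab xw)^[17] u) u) u = true := ext_range (a := 7015) (len := 61) h115 x_115
  have h117 : ∀ u < 7137, (fun u => Nat.beq ((runT tab xw)^[17] u) u) u = true := ext_range (a := 7076) (len := 61) h116 x_116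
  have h118 : ∀ u < 7198, (fun u => Nat.beq ((runT tab xw)^[17] u) u) u = true := ext_range (a := 7137) (len := 61) h117 x_117
  have h119 : ∀ u < 7259, (fun u => Nat.beq ((runT tab xw)^[17] u) u) u = true := ext_range (a := 7198) (len := 61) h118 x_118
  have h120 : ∀ u < 7320, (fun u => Nat.beq ((runT tab xw)^[17] u) u) u = true := ext_range (a := 7259) (len := 61) h119 x_119
  have h121 : ∀ u < 7381, (fun u => Nat.beq ((runT tab xw)^[17] u) u) u = true := ext_range (a := 7320) (len := 61) h120 x_120
  have h122 : ∀ u < 7442, (fun u => Nat.beq ((runT tab xw)^[17] u) u) u = true := ext_range (a := 7381) (len := 61) h121 x_121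
  have h123 : ∀ u < 7503, (fun u => Nat.beq ((runT tab xw)^[17] u) u) u = true := ext_range (a := 7442) (len := 61) h122 x_122
  have h124 : ∀ u < 7564, (fun u => Nat.beq ((runT tab xw)^[17] u) u) u = true := ext_range (a := 7503) (len := 61) h123 x_123
  have h125 : ∀ u < 7625, (fun u => Nat.beq ((runT tab xw)^[17] u) u) u = true := ext_range (a := 7564) (len := 61) h124 x_124
  have h126 : ∀ u < 7686, (fun u => Nat.beq ((runT tab xw)^[17] u) u) u = true := ext_range (a := 7625) (len := 61) h125 x_125
  have h127 : ∀ u < 7747, (fun u => Nat.beq ((runT tab xw)^[17] u) u) u = true := ext_range (a := 7686) (len := 61) h126 x_126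
  have h128 : ∀ u < 7808, (fun u => Nat.beq ((runT tab xw)^[17] u) u) u = true := ext_range (a := 7747) (len := 61) h127 x_127
  have h129 : ∀ u < 7869, (fun u => Nat.beq ((runT tab xw)^[17] u) u) u = true := ext_range (a := 7808) (len := 61) h128 x_128
  have h130 : ∀ u < 7930, (fun u => Nat.beq ((runT tab xw)^[17] u) u) u = true := ext_range (a := 7869) (len := 61) h129 x_129
  have h131 : ∀ u < 7991, (fun u => Nat.beq ((runT tab xw)^[17] u) u) u = true := ext_range (a := 7930) (len := 61) h130 x_130
  have h132 : ∀ u < 8052, (fun u => Nat.beq ((runT tab xw)^[17] u) u) u = true := ext_range (a := 7991) (len := 61) h131 x_131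
  have h133 : ∀ u < 8113, (fun u => Nat.beq ((runT tab xw)^[17] u) u) u = true := ext_range (a := 8052) (len := 61) h132 x_132
  have h134 : ∀ u < 8174, (fun u => Nat.beq ((runT tab xw)^[17] u) u) u = true := ext_range (a := 8113) (len := 61) h133 x_133
  have h135 : ∀ u < 8235, (fun u => Nat.beq ((runT tab xw)^[17] u) u) u = true := ext_range (a := 8174) (len := 61) h134 x_134
  have h136 : ∀ u < 8296, (fun u => Nat.beq ((runT tab xw)^[17] u) u) u = true := ext_range (a := 8235) (len := 61) h135 x_135
  have h137 : ∀ u < 8357, (fun u => Nat.beq ((runT tab xw)^[17] u) u) u = true := ext_range (a := 8296) (len := 61) h136 x_136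
  have h138 : ∀ u < 8418, (fun u => Nat.beq ((runT tab xw)^[17] u) u) u = true := ext_range (a := 8357) (len := 61) h137 x_137
  have h139 : ∀ u < 8479, (fun u => Nat.beq ((runT tab xw)^[17] u) u) u = true := ext_range (a := 8418) (len := 61) h138 x_138
  have h140 : ∀ u < 8540, (fun u => Nat.beq ((runT tab xw)^[17] u) u) u = true := ext_range (a := 8479) (len := 61) h139 x_139
  have h141 : ∀ u < 8601, (fun u => Nat.beq ((runT tab xw)^[17] u) u) u = true := ext_range (a := 8540) (len := 61) h140 x_140
  have h142 : ∀ u < 8662, (fun u => Nat.beq ((runT tab xw)^[17] u) u) u = true := ext_range (a := 8601) (len := 61) h141 x_141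
  have h143 : ∀ u < 8723, (fun u => Nat.beq ((runT tab xw)^[17] u) u) u = true := ext_range (a := 8662) (len := 61) h142 x_142
  have h144 : ∀ u < 8784, (fun u => Nat.beq ((runT tab xw)^[17] u) u) u = true := ext_range (a := 8723) (len := 61) h143 x_143
  have h145 : ∀ u < 8845, (fun u => Nat.beq ((runT tab xw)^[17] u) u) u = true := ext_range (a := 8784) (len := 61) h144 x_144
  have h146 : ∀ u < 8906, (fun u => Nat.beq ((runT tab xw)^[17] u) u) u = true := ext_range (a := 8845) (len := 61) h145 x_145
  have h147 : ∀ u < 8967, (fun u => Nat.beq ((runT tab xw)^[17] u) u) u = true := ext_range (a := 8906) (len := 61) h146 x_146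
  have h148 : ∀ u < 9028, (fun u => Nat.beq ((runT tab xw)^[17] u) u) u = true := ext_range (a := 8967) (len := 61) h147 x_147
  have h149 : ∀ u < 9089, (fun u => Nat.beq ((runT tab xw)^[17] u) u) u = true := ext_range (a := 9028) (len := 61) h148 x_148
  have h150 : ∀ u < 9150, (fun u => Nat.beq ((runT tab xw)^[17] u) u) u = true := ext_range (a := 9089) (len := 61) h149 x_149
  have h151 : ∀ u < 9211, (fun u => Nat.beq ((runT tab xw)^[17] u) u) u = true := ext_range (a := 9150) (len := 61) h150 x_150
  have h152 : ∀ u < 9272, (fun u => Nat.beq ((runT tab xw)^[17] u) u) u = true := ext_range (a := 9211) (len := 61) h151 x_151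
  have h153 : ∀ u < 9333, (fun u => Nat.beq ((runT tab xw)^[17] u) u) u = true := ext_range (a := 9272) (len := 61) h152 x_152
  have h154 : ∀ u < 9394, (fun u => Nat.beq ((runT tab xw)^[17] u) u) u = true := ext_range (a := 9333) (len := 61) h153 x_153
  have h155 : ∀ u < 9455, (fun u => Nat.beq ((runT tab xw)^[17] u) u) u = true := ext_range (a := 9394) (len := 61) h154 x_154
  have h156 : ∀ u < 9516, (fun u => Nat.beq ((runT tab xw)^[17] u) u) u = true := ext_range (a := 9455) (len := 61) h155 x_155
  have h157 : ∀ u < 9577, (fun u => Nat.beq ((runT tab xw)^[17] u) u) u = true := ext_range (a := 9516) (len := 61) h156 x_156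
  have h158 : ∀ u < 9638, (fun u => Nat.beq ((runT tab xw)^[17] u) u) u = true := ext_range (a := 9577) (len := 61) h157 x_157
  have h159 : ∀ u < 9699, (fun u => Nat.beq ((runT tab xw)^[17] u) u) u = true := ext_range (a := 9638) (len := 61) h158 x_158
  have h160 : ∀ u < 9760, (fun u => Nat.beq ((runT tab xw)^[17] u) u) u = true := ext_range (a := 9699) (len := 61) h159 x_159
  have h161 : ∀ u < 9821, (fun u => Nat.beq ((runT tab xw)^[17] u) u) u = true := ext_range (a := 9760) (len := 61) h160 x_160
  have h162 : ∀ u < 9882, (fun u => Nat.beq ((runT tab xw)^[17] u) u) u = true := ext_range (a := 9821) (len := 61) h161 x_161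
  have h163 : ∀ u < 9943, (fun u => Nat.beq ((runT tab xw)^[17] u) u) u = true := ext_range (a := 9882) (len := 61) h162 x_162
  have h164 : ∀ u < 10004, (fun u => Nat.beq ((runT tab xw)^[17] u) u) u = true := ext_range (a := 9943) (len := 61) h163 x_163
  have h165 : ∀ u < 10065, (fun u => Nat.beq ((runT tab xw)^[17] u) u) u = true := ext_range (a := 10004) (len := 61) h164 x_164
  have h166 : ∀ u < 10126, (fun u => Nat.beq ((runT tab xw)^[17] u) u) u = true := ext_range (a := 10065) (len := 61) h165 x_165
  have h167 : ∀ u < 10187, (fun u => Nat.beq ((runT tab xw)^[17] u) u) u = true := ext_range (a := 10126) (len := 61) h166 x_166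
  have h168 : ∀ u < 10248, (fun u => Nat.beq ((runT tab xw)^[17] u) u) u = true := ext_range (a := 10187) (len := 61) h167 x_167
  have h169 : ∀ u < 10309, (fun u => Nat.beq ((runT tab xw)^[17] u) u) u = true := ext_range (a := 10248) (len := 61) h168 x_168
  have h170 : ∀ u < 10370, (fun u => Nat.beq ((runT tab xw)^[17] u) u) u = true := ext_range (a := 10309) (len := 61) h169 x_169
  have h171 : ∀ u < 10431, (fun u => Nat.beq ((runT tab xw)^[17] u) u) u = true := ext_range (a := 10370) (len := 61) h170 x_170
  have h172 : ∀ u < 10492, (fun u => Nat.beq ((runT tab xw)^[17] u) u) u = true := ext_range (a := 10431) (len := 61) h171 x_171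
  have h173 : ∀ u < 10553, (fun u => Nat.beq ((runT tab xw)^[17] u) u) u = true := ext_range (a := 10492) (len := 61) h172 x_172
  have h174 : ∀ u < 10614, (fun u => Nat.beq ((runT tab xw)^[17] u) u) u = true := ext_range (a := 10553) (len := 61) h173 x_173
  have h175 : ∀ u < 10675, (fun u => Nat.beq ((runT tab xw)^[17] u) u) u = true := ext_range (a := 10614) (len := 61) h174 x_174
  have h176 : ∀ u < 10736, (fun u => Nat.beq ((runT tab xw)^[17] u) u) u = true := ext_range (a := 10675) (len := 61) h175 x_175
  have h177 : ∀ u < 10797, (fun u => Nat.beq ((runT tab xw)^[17] u) u) u = true := ext_range (a := 10736) (len := 61) h176 x_176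
  have h178 : ∀ u < 10858, (fun u => Nat.beq ((runT tab xw)^[17] u) u) u = true := ext_range (a := 10797) (len := 61) h177 x_177
  have h179 : ∀ u < 10919, (fun u => Nat.beq ((runT tab xw)^[17] u) u) u = true := ext_range (a := 10858) (len := 61) h178 x_178
  have h180 : ∀ u < 10980, (fun u => Nat.beq ((runT tab xw)^[17] u) u) u = true := ext_range (a := 10919) (len := 61) h179 x_179
  have h181 : ∀ u < 11041, (fun u => Nat.beq ((runT tab xw)^[17] u) u) u = true := ext_range (a := 10980) (len := 61) h180 x_180
  have h182 : ∀ u < 11102, (fun u => Nat.beq ((runT tab xw)^[17] u) u) u = true := ext_range (a := 11041) (len := 61) h181 x_181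
  have h183 : ∀ u < 11163, (fun u => Nat.beq ((runT tab xw)^[17] u) u) u = true := ext_range (a := 11102) (len := 61) h182 x_182
  have h184 : ∀ u < 11224, (fun u => Nat.beq ((runT tab xw)^[17] u) u) u = true := ext_range (a := 11163) (len := 61) h183 x_183
  have h185 : ∀ u < 11285, (fun u => Nat.beq ((runT tab xw)^[17] u) u) u = true := ext_range (a := 11224) (len := 61) h184 x_184
  have h186 : ∀ u < 11346, (fun u => Nat.beq ((runT tab xw)^[17] u) u) u = true := ext_range (a := 11285) (len := 61) h185 x_185
  have h187 : ∀ u < 11407, (fun u => Nat.beq ((runT tab xw)^[17] u) u) u = true := ext_range (a := 11346) (len := 61) h186 x_186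
  have h188 : ∀ u < 11468, (fun u => Nat.beq ((runT tab xw)^[17] u) u) u = true := ext_range (a := 11407) (len := 61) h187 x_187
  have h189 : ∀ u < 11529, (fun u => Nat.beq ((runT tab xw)^[17] u) u) u = true := ext_range (a := 11468) (len := 61) h188 x_188
  have h190 : ∀ u < 11590, (fun u => Nat.beq ((runT tab xw)^[17] u) u) u = true := ext_range (a := 11529) (len := 61) h189 x_189
  have h191 : ∀ u < 11651, (fun u => Nat.beq ((runT tab xw)^[17] u) u) u = true := ext_range (a := 11590) (len := 61) h190 x_190
  have h192 : ∀ u < 11712, (fun u => Nat.beq ((runT tab xw)^[17] u) u) u = true := ext_range (a := 11651) (len := 61) h191 x_191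
  have h193 : ∀ u < 11773, (fun u => Nat.beq ((runT tab xw)^[17] u) u) u = true := ext_range (a := 11712) (len := 61) h192 x_192
  have h194 : ∀ u < 11834, (fun u => Nat.beq ((runT tab xw)^[17] u) u) u = true := ext_range (a := 11773) (len := 61) h193 x_193
  have h195 : ∀ u < 11895, (fun u => Nat.beq ((runT tab xw)^[17] u) u) u = true := ext_range (a := 11834) (len := 61) h194 x_194
  have h196 : ∀ u < 11956, (fun u => Nat.beq ((runT tab xw)^[17] u) u) u = true := ext_range (a := 11895) (len := 61) h195 x_195
  have h197 : ∀ u < 12017, (fun u => Nat.beq ((runT tab xw)^[17] u) u) u = true := ext_range (a := 11956) (len := 61) h196 x_196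
  have h198 : ∀ u < 12078, (fun u => Nat.beq ((runT tab xw)^[17] u) u) u = true := ext_range (a := 12017) (len := 61) h197 x_197
  have h199 : ∀ u < 12139, (fun u => Nat.beq ((runT tab xw)^[17] u) u) u = true := ext_range (a := 12078) (len := 61) h198 x_198
  have h200 : ∀ u < 12200, (fun u => Nat.beq ((runT tab xw)^[17] u) u) u = true := ext_range (a := 12139) (len := 61) h199 x_199
  have h201 : ∀ u < 12261, (fun u => Nat.beq ((runT tab xw)^[17] u) u) u = true := ext_range (a := 12200) (len := 61) h200 x_200
  have h202 : ∀ u < 12322, (fun u => Nat.beq ((runT tab xw)^[17] u) u) u = true := ext_range (a := 12261) (len := 61) h201 x_201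
  have h203 : ∀ u < 12383, (fun u => Nat.beq ((runT tab xw)^[17] u) u) u = true := ext_range (a := 12322) (len := 61) h202 x_202
  have h204 : ∀ u < 12444, (fun u => Nat.beq ((runT tab xw)^[17] u) u) u = true := ext_range (a := 12383) (len := 61) h203 x_203
  have h205 : ∀ u < 12505, (fun u => Nat.beq ((runT tab xw)^[17] u) u) u = true := ext_range (a := 12444) (len := 61) h204 x_204
  have h206 : ∀ u < 12566, (fun u => Nat.beq ((runT tab xw)^[17] u) u) u = true := ext_range (a := 12505) (len := 61) h205 x_205
  have h207 : ∀ u < 12627, (fun u => Nat.beq ((runT tab xw)^[17] u) u) u = true := ext_range (a := 12566) (len := 61) h206 x_206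
  have h208 : ∀ u < 12688, (fun u => Nat.beq ((runT tab xw)^[17] u) u) u = true := ext_range (a := 12627) (len := 61) h207 x_207
  have h209 : ∀ u < 12749, (fun u => Nat.beq ((runT tab xw)^[17] u) u) u = true := ext_range (a := 12688) (len := 61) h208 x_208
  have h210 : ∀ u < 12810, (fun u => Nat.beq ((runT tab xw)^[17] u) u) u = true := ext_range (a := 12749) (len := 61) h209 x_209
  have h211 : ∀ u < 12871, (fun u => Nat.beq ((runT tab xw)^[17] u) u) u = true := ext_range (a := 12810) (len := 61) h210 x_210
  have h212 : ∀ u < 12932, (fun u => Nat.beq ((runT tab xw)^[17] u) u) u = true := ext_range (a := 12871) (len := 61) h211 x_211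
  have h213 : ∀ u < 12993, (fun u => Nat.beq ((runT tab xw)^[17] u) u) u = true := ext_range (a := 12932) (len := 61) h212 x_212
  have h214 : ∀ u < 13054, (fun u => Nat.beq ((runT tab xw)^[17] u) u) u = true := ext_range (a := 12993) (len := 61) h213 x_213
  have h215 : ∀ u < 13115, (fun u => Nat.beq ((runT tab xw)^[17] u) u) u = true := ext_range (a := 13054) (len := 61) h214 x_214
  have h216 : ∀ u < 13176, (fun u => Nat.beq ((runT tab xw)^[17] u) u) u = true := ext_range (a := 13115) (len := 61) h215 x_215
  have h217 : ∀ u < 13237, (fun u => Nat.beq ((runT tab xw)^[17] u) u) u = true := ext_range (a := 13176) (len := 61) h216 x_216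
  have h218 : ∀ u < 13298, (fun u => Nat.beq ((runT tab xw)^[17] u) u) u = true := ext_range (a := 13237) (len := 61) h217 x_217
  have h219 : ∀ u < 13359, (fun u => Nat.beq ((runT tab xw)^[17] u) u) u = true := ext_range (a := 13298) (len := 61) h218 x_218
  have h220 : ∀ u < 13420, (fun u => Nat.beq ((runT tab xw)^[17] u) u) u = true := ext_range (a := 13359) (len := 61) h219 x_219
  have h221 : ∀ u < 13481, (fun u => Nat.beq ((runT tab xw)^[17] u) u) u = true := ext_range (a := 13420) (len := 61) h220 x_220
  have h222 : ∀ u < 13542, (fun u => Nat.beq ((runT tab xw)^[17] u) u) u = true := ext_range (a := 13481) (len := 61) h221 x_221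
  have h223 : ∀ u < 13603, (fun u => Nat.beq ((runT tab xw)^[17] u) u) u = true := ext_range (a := 13542) (len := 61) h222 x_222
  have h224 : ∀ u < 13664, (fun u => Nat.beq ((runT tab xw)^[17] u) u) u = true := ext_range (a := 13603) (len := 61) h223 x_223
  have h225 : ∀ u < 13725, (fun u => Nat.beq ((runT tab xw)^[17] u) u) u = true := ext_range (a := 13664) (len := 61) h224 x_224
  have h226 : ∀ u < 13786, (fun u => Nat.beq ((runT tab xw)^[17] u) u) u = true := ext_range (a := 13725) (len := 61) h225 x_225
  have h227 : ∀ u < 13847, (fun u => Nat.beq ((runT tab xw)^[17] u) u) u = true := ext_range (a := 13786) (len := 61) h226 x_226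
  have h228 : ∀ u < 13908, (fun u => Nat.beq ((runT tab xw)^[17] u) u) u = true := ext_range (a := 13847) (len := 61) h227 x_227
  have h229 : ∀ u < 13969, (fun u => Nat.beq ((runT tab xw)^[17] u) u) u = true := ext_range (a := 13908) (len := 61) h228 x_228
  have h230 : ∀ u < 14030, (fun u => Nat.beq ((runT tab xw)^[17] u) u) u = true := ext_range (a := 13969) (len := 61) h229 x_229
  have h231 : ∀ u < 14091, (fun u => Nat.beq ((runT tab xw)^[17] u) u) u = true := ext_range (a := 14030) (len := 61) h230 x_230
  have h232 : ∀ u < 14152, (fun u => Nat.beq ((runT tab xw)^[17] u) u) u = true := ext_range (a := 14091) (len := 61) h231 x_231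
  have h233 : ∀ u < 14213, (fun u => Nat.beq ((runT tab xw)^[17] u) u) u = true := ext_range (a := 14152) (len := 61) h232 x_232
  have h234 : ∀ u < 14274, (fun u => Nat.beq ((runT tab xw)^[17] u) u) u = true := ext_range (a := 14213) (len := 61) h233 x_233
  have h235 : ∀ u < 14335, (fun u => Nat.beq ((runT tab xw)^[17] u) u) u = true := ext_range (a := 14274) (len := 61) h234 x_234
  have h236 : ∀ u < 14396, (fun u => Nat.beq ((runT tab xw)^[17] u) u) u = true := ext_range (a := 14335) (len := 61) h235 x_235
  have h237 : ∀ u < 14457, (fun u => Nat.beq ((runT tab xw)^[17] u) u) u = true := ext_range (a := 14396) (len := 61) h236 x_236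
  have h238 : ∀ u < 14518, (fun u => Nat.beq ((runT tab xw)^[17] u) u) u = true := ext_range (a := 14457) (len := 61) h237 x_237
  have h239 : ∀ u < 14579, (fun u => Nat.beq ((runT tab xw)^[17] u) u) u = true := ext_range (a := 14518) (len := 61) h238 x_238
  have h240 : ∀ u < 14640, (fun u => Nat.beq ((runT tab xw)^[17] u) u) u = true := ext_range (a := 14579) (len := 61) h239 x_239
  have h241 : ∀ u < 14701, (fun u => Nat.beq ((runT tab xw)^[17] u) u) u = true := ext_range (a := 14640) (len := 61) h240 x_240
  have h242 : ∀ u < 14762, (fun u => Nat.beq ((runT tab xw)^[17] u) u) u = true := ext_range (a := 14701) (len := 61) h241 x_241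
  have h243 : ∀ u < 14823, (fun u => Nat.beq ((runT tab xw)^[17] u) u) u = true := ext_range (a := 14762) (len := 61) h242 x_242
  have h244 : ∀ u < 14884, (fun u => Nat.beq ((runT tab xw)^[17] u) u) u = true := ext_range (a := 14823) (len := 61) h243 x_243
  have h245 : ∀ u < 14945, (fun u => Nat.beq ((runT tab xw)^[17] u) u) u = true := ext_range (a := 14884) (len := 61) h244 x_244
  have h246 : ∀ u < 15006, (fun u => Nat.beq ((runT tab xw)^[17] u) u) u = true := ext_range (a := 14945) (len := 61) h245 x_245
  have h247 : ∀ u < 15067, (fun u => Nat.beq ((runT tab xw)^[17] u) u) u = true := ext_range (a := 15006) (len := 61) h246 x_246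
  have h248 : ∀ u < 15128, (fun u => Nat.beq ((runT tab xw)^[17] u) u) u = true := ext_range (a := 15067) (len := 61) h247 x_247
  have h249 : ∀ u < 15189, (fun u => Nat.beq ((runT tab xw)^[17] u) u) u = true := ext_range (a := 15128) (len := 61) h248 x_248
  have h250 : ∀ u < 15250, (fun u => Nat.beq ((runT tab xw)^[17] u) u) u = true := ext_range (a := 15189) (len := 61) h249 x_249
  have h251 : ∀ u < 15311, (fun u => Nat.beq ((runT tab xw)^[17] u) u) u = true := ext_range (a := 15250) (len := 61) h250 x_250
  have h252 : ∀ u < 15372, (fun u => Nat.beq ((runT tab xw)^[17] u) u) u = true := ext_range (a := 15311) (len := 61) h251 x_251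
  have h253 : ∀ u < 15433, (fun u => Nat.beq ((runT tab xw)^[17] u) u) u = true := ext_range (a := 15372) (len := 61) h252 x_252
  have h254 : ∀ u < 15494, (fun u => Nat.beq ((runT tab xw)^[17] u) u) u = true := ext_range (a := 15433) (len := 61) h253 x_253
  have h255 : ∀ u < 15555, (fun u => Nat.beq ((runT tab xw)^[17] u) u) u = true := ext_range (a := 15494) (len := 61) h254 x_254
  have h256 : ∀ u < 15616, (fun u => Nat.beq ((runT tab xw)^[17] u) u) u = true := ext_range (a := 15555) (len := 61) h255 x_255
  have h257 : ∀ u < 15677, (fun u => Nat.beq ((runT tab xw)^[17] u) u) u = true := ext_range (a := 15616) (len := 61) h256 x_256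
  have h258 : ∀ u < 15738, (fun u => Nat.beq ((runT tab xw)^[17] u) u) u = true := ext_range (a := 15677) (len := 61) h257 x_257
  have h259 : ∀ u < 15799, (fun u => Nat.beq ((runT tab xw)^[17] u) u) u = true := ext_range (a := 15738) (len := 61) h258 x_258
  have h260 : ∀ u < 15860, (fun u => Nat.beq ((runT tab xw)^[17] u) u) u = true := ext_range (a := 15799) (len := 61) h259 x_259
  have h261 : ∀ u < 15921, (fun u => Nat.beq ((runT tab xw)^[17] u) u) u = true := ext_range (a := 15860) (len := 61) h260 x_260
  have h262 : ∀ u < 15982, (fun u => Nat.beq ((runT tab xw)^[17] u) u) u = true := ext_range (a := 15921) (len := 61) h261 x_261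
  have h263 : ∀ u < 16043, (fun u => Nat.beq ((runT tab xw)^[17] u) u) u = true := ext_range (a := 15982) (len := 61) h262 x_262
  have h264 : ∀ u < 16104, (fun u => Nat.beq ((runT tab xw)^[17] u) u) u = true := ext_range (a := 16043) (len := 61) h263 x_263
  have h265 : ∀ u < 16165, (fun u => Nat.beq ((runT tab xw)^[17] u) u) u = true := ext_range (a := 16104) (len := 61) h264 x_264
  have h266 : ∀ u < 16226, (fun u => Nat.beq ((runT tab xw)^[17] u) u) u = true := ext_range (a := 16165) (len := 61) h265 x_265
  have h267 : ∀ u < 16287, (fun u => Nat.beq ((runT tab xw)^[17] u) u) u = true := ext_range (a := 16226) (len := 61) h266 x_266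
  have h268 : ∀ u < 16348, (fun u => Nat.beq ((runT tab xw)^[17] u) u) u = true := ext_range (a := 16287) (len := 61) h267 x_267
  have h269 : ∀ u < 16409, (fun u => Nat.beq ((runT tab xw)^[17] u) u) u = true := ext_range (a := 16348) (len := 61) h268 x_268
  have h270 : ∀ u < 16470, (fun u => Nat.beq ((runT tab xw)^[17] u) u) u = true := ext_range (a := 16409) (len := 61) h269 x_269
  have h271 : ∀ u < 16531, (fun u => Nat.beq ((runT tab xw)^[17] u) u) u = true := ext_range (a := 16470) (len := 61) h270 x_270
  have h272 : ∀ u < 16592, (fun u => Nat.beq ((runT tab xw)^[17] u) u) u = true := ext_range (a := 16531) (len := 61) h271 x_271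
  have h273 : ∀ u < 16653, (fun u => Nat.beq ((runT tab xw)^[17] u) u) u = true := ext_range (a := 16592) (len := 61) h272 x_272
  have h274 : ∀ u < 16714, (fun u => Nat.beq ((runT tab xw)^[17] u) u) u = true := ext_range (a := 16653) (len := 61) h273 x_273
  have h275 : ∀ u < 16775, (fun u => Nat.beq ((runT tab xw)^[17] u) u) u = true := ext_range (a := 16714) (len := 61) h274 x_274
  have h276 : ∀ u < 16836, (fun u => Nat.beq ((runT tab xw)^[17] u) u) u = true := ext_range (a := 16775) (len := 61) h275 x_275
  have h277 : ∀ u < 16897, (fun u => Nat.beq ((runT tab xw)^[17] u) u) u = true := ext_range (a := 16836) (len := 61) h276 x_276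
  have h278 : ∀ u < 16958, (fun u => Nat.beq ((runT tab xw)^[17] u) u) u = true := ext_range (a := 16897) (len := 61) h277 x_277
  have h279 : ∀ u < 17019, (fun u => Nat.beq ((runT tab xw)^[17] u) u) u = true := ext_range (a := 16958) (len := 61) h278 x_278
  have h280 : ∀ u < 17080, (fun u => Nat.beq ((runT tab xw)^[17] u) u) u = true := ext_range (a := 17019) (len := 61) h279 x_279
  have h281 : ∀ u < 17141, (fun u => Nat.beq ((runT tab xw)^[17] u) u) u = true := ext_range (a := 17080) (len := 61) h280 x_280
  have h282 : ∀ u < 17202, (fun u => Nat.beq ((runT tab xw)^[17] u) u) u = true := ext_range (a := 17141) (len := 61) h281 x_281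
  have h283 : ∀ u < 17263, (fun u => Nat.beq ((runT tab xw)^[17] u) u) u = true := ext_range (a := 17202) (len := 61) h282 x_282
  have h284 : ∀ u < 17324, (fun u => Nat.beq ((runT tab xw)^[17] u) u) u = true := ext_range (a := 17263) (len := 61) h283 x_283
  have h285 : ∀ u < 17385, (fun u => Nat.beq ((runT tab xw)^[17] u) u) u = true := ext_range (a := 17324) (len := 61) h284 x_284
  have h286 : ∀ u < 17446, (fun u => Nat.beq ((runT tab xw)^[17] u) u) u = true := ext_range (a := 17385) (len := 61) h285 x_285
  have h287 : ∀ u < 17507, (fun u => Nat.beq ((runT tab xw)^[17] u) u) u = true := ext_range (a := 17446) (len := 61) h286 x_286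
  have h288 : ∀ u < 17568, (fun u => Nat.beq ((runT tab xw)^[17] u) u) u = true := ext_range (a := 17507) (len := 61) h287 x_287
  have h289 : ∀ u < 17629, (fun u => Nat.beq ((runT tab xw)^[17] u) u) u = true := ext_range (a := 17568) (len := 61) h288 x_288
  have h290 : ∀ u < 17690, (fun u => Nat.beq ((runT tab xw)^[17] u) u) u = true := ext_range (a := 17629) (len := 61) h289 x_289
  have h291 : ∀ u < 17751, (fun u => Nat.beq ((runT tab xw)^[17] u) u) u = true := ext_range (a := 17690) (len := 61) h290 x_290
  have h292 : ∀ u < 17812, (fun u => Nat.beq ((runT tab xw)^[17] u) u) u = true := ext_range (a := 17751) (len := 61) h291 x_291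
  have h293 : ∀ u < 17873, (fun u => Nat.beq ((runT tab xw)^[17] u) u) u = true := ext_range (a := 17812) (len := 61) h292 x_292
  have h294 : ∀ u < 17934, (fun u => Nat.beq ((runT tab xw)^[17] u) u) u = true := ext_range (a := 17873) (len := 61) h293 x_293
  have h295 : ∀ u < 17995, (fun u => Nat.beq ((runT tab xw)^[17] u) u) u = true := ext_range (a := 17934) (len := 61) h294 x_294
  have h296 : ∀ u < 18056, (fun u => Nat.beq ((runT tab xw)^[17] u) u) u = true := ext_range (a := 17995) (len := 61) h295 x_295
  have h297 : ∀ u < 18117, (fun u => Nat.beq ((runT tab xw)^[17] u) u) u = true := ext_range (a := 18056) (len := 61) h296 x_296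
  have h298 : ∀ u < 18178, (fun u => Nat.beq ((runT tab xw)^[17] u) u) u = true := ext_range (a := 18117) (len := 61) h297 x_297
  have h299 : ∀ u < 18239, (fun u => Nat.beq ((runT tab xw)^[17] u) u) u = true := ext_range (a := 18178) (len := 61) h298 x_298
  have h300 : ∀ u < 18300, (fun u => Nat.beq ((runT tab xw)^[17] u) u) u = true := ext_range (a := 18239) (len := 61) h299 x_299
  have h301 : ∀ u < 18361, (fun u => Nat.beq ((runT tab xw)^[17] u) u) u = true := ext_range (a := 18300) (len := 61) h300 x_300
  have h302 : ∀ u < 18422, (fun u => Nat.beq ((runT tab xw)^[17] u) u) u = true := ext_range (a := 18361) (len := 61) h301 x_301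
  have h303 : ∀ u < 18483, (fun u => Nat.beq ((runT tab xw)^[17] u) u) u = true := ext_range (a := 18422) (len := 61) h302 x_302
  have h304 : ∀ u < 18544, (fun u => Nat.beq ((runT tab xw)^[17] u) u) u = true := ext_range (a := 18483) (len := 61) h303 x_303
  have h305 : ∀ u < 18605, (fun u => Nat.beq ((runT tab xw)^[17] u) u) u = true := ext_range (a := 18544) (len := 61) h304 x_304
  have h306 : ∀ u < 18666, (fun u => Nat.beq ((runT tab xw)^[17] u) u) u = true := ext_range (a := 18605) (len := 61) h305 x_305
  have h307 : ∀ u < 18727, (fun u => Nat.beq ((runT tab xw)^[17] u) u) u = true := ext_range (a := 18666) (len := 61) h306 x_306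
  have h308 : ∀ u < 18788, (fun u => Nat.beq ((runT tab xw)^[17] u) u) u = true := ext_range (a := 18727) (len := 61) h307 x_307
  have h309 : ∀ u < 18849, (fun u => Nat.beq ((runT tab xw)^[17] u) u) u = true := ext_range (a := 18788) (len := 61) h308 x_308
  have h310 : ∀ u < 18910, (fun u => Nat.beq ((runT tab xw)^[17] u) u) u = true := ext_range (a := 18849) (len := 61) h309 x_309
  have h311 : ∀ u < 18971, (fun u => Nat.beq ((runT tab xw)^[17] u) u) u = true := ext_range (a := 18910) (len := 61) h310 x_310
  have h312 : ∀ u < 19032, (fun u => Nat.beq ((runT tab xw)^[17] u) u) u = true := ext_range (a := 18971) (len := 61) h311 x_311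
  have h313 : ∀ u < 19093, (fun u => Nat.beq ((runT tab xw)^[17] u) u) u = true := ext_range (a := 19032) (len := 61) h312 x_312
  have h314 : ∀ u < 19154, (fun u => Nat.beq ((runT tab xw)^[17] u) u) u = true := ext_range (a := 19093) (len := 61) h313 x_313
  have h315 : ∀ u < 19215, (fun u => Nat.beq ((runT tab xw)^[17] u) u) u = true := ext_range (a := 19154) (len := 61) h314 x_314
  have h316 : ∀ u < 19276, (fun u => Nat.beq ((runT tab xw)^[17] u) u) u = true := ext_range (a := 19215) (len := 61) h315 x_315
  have h317 : ∀ u < 19337, (fun u => Nat.beq ((runT tab xw)^[17] u) u) u = true := ext_range (a := 19276) (len := 61) h316 x_316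
  have h318 : ∀ u < 19398, (fun u => Nat.beq ((runT tab xw)^[17] u) u) u = true := ext_range (a := 19337) (len := 61) h317 x_317
  have h319 : ∀ u < 19459, (fun u => Nat.beq ((runT tab xw)^[17] u) u) u = true := ext_range (a := 19398) (len := 61) h318 x_318
  have h320 : ∀ u < 19520, (fun u => Nat.beq ((runT tab xw)^[17] u) u) u = true := ext_range (a := 19459) (len := 61) h319 x_319
  have h321 : ∀ u < 19581, (fun u => Nat.beq ((runT tab xw)^[17] u) u) u = true := ext_range (a := 19520) (len := 61) h320 x_320
  have h322 : ∀ u < 19642, (fun u => Nat.beq ((runT tab xw)^[17] u) u) u = true := ext_range (a := 19581) (len := 61) h321 x_321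
  have h323 : ∀ u < 19703, (fun u => Nat.beq ((runT tab xw)^[17] u) u) u = true := ext_range (a := 19642) (len := 61) h322 x_322
  have h324 : ∀ u < 19764, (fun u => Nat.beq ((runT tab xw)^[17] u) u) u = true := ext_range (a := 19703) (len := 61) h323 x_323
  have h325 : ∀ u < 19825, (fun u => Nat.beq ((runT tab xw)^[17] u) u) u = true := ext_range (a := 19764) (len := 61) h324 x_324
  have h326 : ∀ u < 19886, (fun u => Nat.beq ((runT tab xw)^[17] u) u) u = true := ext_range (a := 19825) (len := 61) h325 x_325
  have h327 : ∀ u < 19947, (fun u => Nat.beq ((runT tab xw)^[17] u) u) u = true := ext_range (a := 19886) (len := 61) h326 x_326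
  have h328 : ∀ u < 20008, (fun u => Nat.beq ((runT tab xw)^[17] u) u) u = true := ext_range (a := 19947) (len := 61) h327 x_327
  have h329 : ∀ u < 20069, (fun u => Nat.beq ((runT tab xw)^[17] u) u) u = true := ext_range (a := 20008) (len := 61) h328 x_328
  have h330 : ∀ u < 20130, (fun u => Nat.beq ((runT tab xw)^[17] u) u) u = true := ext_range (a := 20069) (len := 61) h329 x_329
  have h331 : ∀ u < 20191, (fun u => Nat.beq ((runT tab xw)^[17] u) u) u = true := ext_range (a := 20130) (len := 61) h330 x_330
  have h332 : ∀ u < 20252, (fun u => Nat.beq ((runT tab xw)^[17] u) u) u = true := ext_range (a := 20191) (len := 61) h331 x_331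
  have h333 : ∀ u < 20313, (fun u => Nat.beq ((runT tab xw)^[17] u) u) u = true := ext_range (a := 20252) (len := 61) h332 x_332
  have h334 : ∀ u < 20374, (fun u => Nat.beq ((runT tab xw)^[17] u) u) u = true := ext_range (a := 20313) (len := 61) h333 x_333
  have h335 : ∀ u < 20435, (fun u => Nat.beq ((runT tab xw)^[17] u) u) u = true := ext_range (a := 20374) (len := 61) h334 x_334
  have h336 : ∀ u < 20496, (fun u => Nat.beq ((runT tab xw)^[17] u) u) u = true := ext_range (a := 20435) (len := 61) h335 x_335
  have h337 : ∀ u < 20557, (fun u => Nat.beq ((runT tab xw)^[17] u) u) u = true := ext_range (a := 20496) (len := 61) h336 x_336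
  have h338 : ∀ u < 20618, (fun u => Nat.beq ((runT tab xw)^[17] u) u) u = true := ext_range (a := 20557) (len := 61) h337 x_337
  have h339 : ∀ u < 20679, (fun u => Nat.beq ((runT tab xw)^[17] u) u) u = true := ext_range (a := 20618) (len := 61) h338 x_338
  have h340 : ∀ u < 20740, (fun u => Nat.beq ((runT tab xw)^[17] u) u) u = true := ext_range (a := 20679) (len := 61) h339 x_339
  have h341 : ∀ u < 20801, (fun u => Nat.beq ((runT tab xw)^[17] u) u) u = true := ext_range (a := 20740) (len := 61) h340 x_340
  have h342 : ∀ u < 20862, (fun u => Nat.beq ((runT tab xw)^[17] u) u) u = true := ext_range (a := 20801) (len := 61) h341 x_341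
  have h343 : ∀ u < 20923, (fun u => Nat.beq ((runT tab xw)^[17] u) u) u = true := ext_range (a := 20862) (len := 61) h342 x_342
  have h344 : ∀ u < 20984, (fun u => Nat.beq ((runT tab xw)^[17] u) u) u = true := ext_range (a := 20923) (len := 61) h343 x_343
  have h345 : ∀ u < 21045, (fun u => Nat.beq ((runT tab xw)^[17] u) u) u = true := ext_range (a := 20984) (len := 61) h344 x_344
  have h346 : ∀ u < 21106, (fun u => Nat.beq ((runT tab xw)^[17] u) u) u = true := ext_range (a := 21045) (len := 61) h345 x_345
  have h347 : ∀ u < 21167, (fun u => Nat.beq ((runT tab xw)^[17] u) u) u = true := ext_range (a := 21106) (len := 61) h346 x_346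
  have h348 : ∀ u < 21228, (fun u => Nat.beq ((runT tab xw)^[17] u) u) u = true := ext_range (a := 21167) (len := 61) h347 x_347
  have h349 : ∀ u < 21289, (fun u => Nat.beq ((runT tab xw)^[17] u) u) u = true := ext_range (a := 21228) (len := 61) h348 x_348
  have h350 : ∀ u < 21350, (fun u => Nat.beq ((runT tab xw)^[17] u) u) u = true := ext_range (a := 21289) (len := 61) h349 x_349
  have h351 : ∀ u < 21411, (fun u => Nat.beq ((runT tab xw)^[17] u) u) u = true := ext_range (a := 21350) (len := 61) h350 x_350
  have h352 : ∀ u < 21472, (fun u => Nat.beq ((runT tab xw)^[17] u) u) u = true := ext_range (a := 21411) (len := 61) h351 x_351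
  have h353 : ∀ u < 21533, (fun u => Nat.beq ((runT tab xw)^[17] u) u) u = true := ext_range (a := 21472) (len := 61) h352 x_352
  have h354 : ∀ u < 21594, (fun u => Nat.beq ((runT tab xw)^[17] u) u) u = true := ext_range (a := 21533) (len := 61) h353 x_353
  have h355 : ∀ u < 21655, (fun u => Nat.beq ((runT tab xw)^[17] u) u) u = true := ext_range (a := 21594) (len := 61) h354 x_354
  have h356 : ∀ u < 21716, (fun u => Nat.beq ((runT tab xw)^[17] u) u) u = true := ext_range (a := 21655) (len := 61) h355 x_355
  have h357 : ∀ u < 21777, (fun u => Nat.beq ((runT tab xw)^[17] u) u) u = true := ext_range (a := 21716) (len := 61) h356 x_356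
  have h358 : ∀ u < 21838, (fun u => Nat.beq ((runT tab xw)^[17] u) u) u = true := ext_range (a := 21777) (len := 61) h357 x_357
  have h359 : ∀ u < 21899, (fun u => Nat.beq ((runT tab xw)^[17] u) u) u = true := ext_range (a := 21838) (len := 61) h358 x_358
  have h360 : ∀ u < 21960, (fun u => Nat.beq ((runT tab xw)^[17] u) u) u = true := ext_range (a := 21899) (len := 61) h359 x_359
  have h361 : ∀ u < 22021, (fun u => Nat.beq ((runT tab xw)^[17] u) u) u = true := ext_range (a := 21960) (len := 61) h360 x_360
  have h362 : ∀ u < 22082, (fun u => Nat.beq ((runT tab xw)^[17] u) u) u = true := ext_range (a := 22021) (len := 61) h361 x_361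
  have h363 : ∀ u < 22143, (fun u => Nat.beq ((runT tab xw)^[17] u) u) u = true := ext_range (a := 22082) (len := 61) h362 x_362
  have h364 : ∀ u < 22204, (fun u => Nat.beq ((runT tab xw)^[17] u) u) u = true := ext_range (a := 22143) (len := 61) h363 x_363
  have h365 : ∀ u < 22265, (fun u => Nat.beq ((runT tab xw)^[17] u) u) u = true := ext_range (a := 22204) (len := 61) h364 x_364
  have h366 : ∀ u < 22326, (fun u => Nat.beq ((runT tab xw)^[17] u) u) u = true := ext_range (a := 22265) (len := 61) h365 x_365
  have h367 : ∀ u < 22387, (fun u => Nat.beq ((runT tab xw)^[17] u) u) u = true := ext_range (a := 22326) (len := 61) h366 x_366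
  have h368 : ∀ u < 22448, (fun u => Nat.beq ((runT tab xw)^[17] u) u) u = true := ext_range (a := 22387) (len := 61) h367 x_367
  have h369 : ∀ u < 22509, (fun u => Nat.beq ((runT tab xw)^[17] u) u) u = true := ext_range (a := 22448) (len := 61) h368 x_368
  have h370 : ∀ u < 22570, (fun u => Nat.beq ((runT tab xw)^[17] u) u) u = true := ext_range (a := 22509) (len := 61) h369 x_369
  have h371 : ∀ u < 22631, (fun u => Nat.beq ((runT tab xw)^[17] u) u) u = true := ext_range (a := 22570) (len := 61) h370 x_370
  have h372 : ∀ u < 22692, (fun u => Nat.beq ((runT tab xw)^[17] u) u) u = true := ext_range (a := 22631) (len := 61) h371 x_371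
  have h373 : ∀ u < 22753, (fun u => Nat.beq ((runT tab xw)^[17] u) u) u = true := ext_range (a := 22692) (len := 61) h372 x_372
  have h374 : ∀ u < 22814, (fun u => Nat.beq ((runT tab xw)^[17] u) u) u = true := ext_range (a := 22753) (len := 61) h373 x_373
  have h375 : ∀ u < 22875, (fun u => Nat.beq ((runT tab xw)^[17] u) u) u = true := ext_range (a := 22814) (len := 61) h374 x_374
  have h376 : ∀ u < 22936, (fun u => Nat.beq ((runT tab xw)^[17] u) u) u = true := ext_range (a := 22875) (len := 61) h375 x_375
  have h377 : ∀ u < 22997, (fun u => Nat.beq ((runT tab xw)^[17] u) u) u = true := ext_range (a := 22936) (len := 61) h376 x_376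
  have h378 : ∀ u < 23058, (fun u => Nat.beq ((runT tab xw)^[17] u) u) u = true := ext_range (a := 22997) (len := 61) h377 x_377
  have h379 : ∀ u < 23119, (fun u => Nat.beq ((runT tab xw)^[17] u) u) u = true := ext_range (a := 23058) (len := 61) h378 x_378
  have h380 : ∀ u < 23180, (fun u => Nat.beq ((runT tab xw)^[17] u) u) u = true := ext_range (a := 23119) (len := 61) h379 x_379
  have h381 : ∀ u < 23241, (fun u => Nat.beq ((runT tab xw)^[17] u) u) u = true := ext_range (a := 23180) (len := 61) h380 x_380
  have h382 : ∀ u < 23302, (fun u => Nat.beq ((runT tab xw)^[17] u) u) u = true := ext_range (a := 23241) (len := 61) h381 x_381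
  have h383 : ∀ u < 23363, (fun u => Nat.beq ((runT tab xw)^[17] u) u) u = true := ext_range (a := 23302) (len := 61) h382 x_382
  have h384 : ∀ u < 23424, (fun u => Nat.beq ((runT tab xw)^[17] u) u) u = true := ext_range (a := 23363) (len := 61) h383 x_383
  have h385 : ∀ u < 23485, (fun u => Nat.beq ((runT tab xw)^[17] u) u) u = true := ext_range (a := 23424) (len := 61) h384 x_384
  have h386 : ∀ u < 23546, (fun u => Nat.beq ((runT tab xw)^[17] u) u) u = true := ext_range (a := 23485) (len := 61) h385 x_385
  have h387 : ∀ u < 23607, (fun u => Nat.beq ((runT tab xw)^[17] u) u) u = true := ext_range (a := 23546) (len := 61) h386 x_386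
  have h388 : ∀ u < 23668, (fun u => Nat.beq ((runT tab xw)^[17] u) u) u = true := ext_range (a := 23607) (len := 61) h387 x_387
  have h389 : ∀ u < 23729, (fun u => Nat.beq ((runT tab xw)^[17] u) u) u = true := ext_range (a := 23668) (len := 61) h388 x_388
  have h390 : ∀ u < 23790, (fun u => Nat.beq ((runT tab xw)^[17] u) u) u = true := ext_range (a := 23729) (len := 61) h389 x_389
  have h391 : ∀ u < 23851, (fun u => Nat.beq ((runT tab xw)^[17] u) u) u = true := ext_range (a := 23790) (len := 61) h390 x_390
  have h392 : ∀ u < 23912, (fun u => Nat.beq ((runT tab xw)^[17] u) u) u = true := ext_range (a := 23851) (len := 61) h391 x_391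
  have h393 : ∀ u < 23973, (fun u => Nat.beq ((runT tab xw)^[17] u) u) u = true := ext_range (a := 23912) (len := 61) h392 x_392
  have h394 : ∀ u < 24034, (fun u => Nat.beq ((runT tab xw)^[17] u) u) u = true := ext_range (a := 23973) (len := 61) h393 x_393
  have h395 : ∀ u < 24095, (fun u => Nat.beq ((runT tab xw)^[17] u) u) u = true := ext_range (a := 24034) (len := 61) h394 x_394
  have h396 : ∀ u < 24156, (fun u => Nat.beq ((runT tab xw)^[17] u) u) u = true := ext_range (a := 24095) (len := 61) h395 x_395
  have h397 : ∀ u < 24217, (fun u => Nat.beq ((runT tab xw)^[17] u) u) u = true := ext_range (a := 24156) (len := 61) h396 x_396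
  have h398 : ∀ u < 24278, (fun u => Nat.beq ((runT tab xw)^[17] u) u) u = true := ext_range (a := 24217) (len := 61) h397 x_397
  have h399 : ∀ u < 24339, (fun u => Nat.beq ((runT tab xw)^[17] u) u) u = true := ext_range (a := 24278) (len := 61) h398 x_398
  have h400 : ∀ u < 24400, (fun u => Nat.beq ((runT tab xw)^[17] u) u) u = true := ext_range (a := 24339) (len := 61) h399 x_399
  have h401 : ∀ u < 24461, (fun u => Nat.beq ((runT tab xw)^[17] u) u) u = true := ext_range (a := 24400) (len := 61) h400 x_400
  have h402 : ∀ u < 24522, (fun u => Nat.beq ((runT tab xw)^[17] u) u) u = true := ext_range (a := 24461) (len := 61) h401 x_401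
  have h403 : ∀ u < 24583, (fun u => Nat.beq ((runT tab xw)^[17] u) u) u = true := ext_range (a := 24522) (len := 61) h402 x_402
  have h404 : ∀ u < 24644, (fun u => Nat.beq ((runT tab xw)^[17] u) u) u = true := ext_range (a := 24583) (len := 61) h403 x_403
  have h405 : ∀ u < 24705, (fun u => Nat.beq ((runT tab xw)^[17] u) u) u = true := ext_range (a := 24644) (len := 61) h404 x_404
  have h406 : ∀ u < 24766, (fun u => Nat.beq ((runT tab xw)^[17] u) u) u = true := ext_range (a := 24705) (len := 61) h405 x_405
  have h407 : ∀ u < 24827, (fun u => Nat.beq ((runT tab xw)^[17] u) u) u = true := ext_range (a := 24766) (len := 61) h406 x_406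
  have h408 : ∀ u < 24888, (fun u => Nat.beq ((runT tab xw)^[17] u) u) u = true := ext_range (a := 24827) (len := 61) h407 x_407
  have h409 : ∀ u < 24949, (fun u => Nat.beq ((runT tab xw)^[17] u) u) u = true := ext_range (a := 24888) (len := 61) h408 x_408
  have h410 : ∀ u < 25010, (fun u => Nat.beq ((runT tab xw)^[17] u) u) u = true := ext_range (a := 24949) (len := 61) h409 x_409
  have h411 : ∀ u < 25071, (fun u => Nat.beq ((runT tab xw)^[17] u) u) u = true := ext_range (a := 25010) (len := 61) h410 x_410
  have h412 : ∀ u < 25132, (fun u => Nat.beq ((runT tab xw)^[17] u) u) u = true := ext_range (a := 25071) (len := 61) h411 x_411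
  have h413 : ∀ u < 25193, (fun u => Nat.beq ((runT tab xw)^[17] u) u) u = true := ext_range (a := 25132) (len := 61) h412 x_412
  have h414 : ∀ u < 25254, (fun u => Nat.beq ((runT tab xw)^[17] u) u) u = true := ext_range (a := 25193) (len := 61) h413 x_413
  have h415 : ∀ u < 25315, (fun u => Nat.beq ((runT tab xw)^[17] u) u) u = true := ext_range (a := 25254) (len := 61) h414 x_414
  have h416 : ∀ u < 25376, (fun u => Nat.beq ((runT tab xw)^[17] u) u) u = true := ext_range (a := 25315) (len := 61) h415 x_415
  have h417 : ∀ u < 25437, (fun u => Nat.beq ((runT tab xw)^[17] u) u) u = true := ext_range (a := 25376) (len := 61) h416 x_416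
  have h418 : ∀ u < 25498, (fun u => Nat.beq ((runT tab xw)^[17] u) u) u = true := ext_range (a := 25437) (len := 61) h417 x_417
  have h419 : ∀ u < 25559, (fun u => Nat.beq ((runT tab xw)^[17] u) u) u = true := ext_range (a := 25498) (len := 61) h418 x_418
  have h420 : ∀ u < 25620, (fun u => Nat.beq ((runT tab xw)^[17] u) u) u = true := ext_range (a := 25559) (len := 61) h419 x_419
  have h421 : ∀ u < 25681, (fun u => Nat.beq ((runT tab xw)^[17] u) u) u = true := ext_range (a := 25620) (len := 61) h420 x_420
  have h422 : ∀ u < 25742, (fun u => Nat.beq ((runT tab xw)^[17] u) u) u = true := ext_range (a := 25681) (len := 61) h421 x_421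
  have h423 : ∀ u < 25803, (fun u => Nat.beq ((runT tab xw)^[17] u) u) u = true := ext_range (a := 25742) (len := 61) h422 x_422
  have h424 : ∀ u < 25864, (fun u => Nat.beq ((runT tab xw)^[17] u) u) u = true := ext_range (a := 25803) (len := 61) h423 x_423
  have h425 : ∀ u < 25925, (fun u => Nat.beq ((runT tab xw)^[17] u) u) u = true := ext_range (a := 25864) (len := 61) h424 x_424
  have h426 : ∀ u < 25986, (fun u => Nat.beq ((runT tab xw)^[17] u) u) u = true := ext_range (a := 25925) (len := 61) h425 x_425
  have h427 : ∀ u < 26047, (fun u => Nat.beq ((runT tab xw)^[17] u) u) u = true := ext_range (a := 25986) (len := 61) h426 x_426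
  have h428 : ∀ u < 26108, (fun u => Nat.beq ((runT tab xw)^[17] u) u) u = true := ext_range (a := 26047) (len := 61) h427 x_427
  have h429 : ∀ u < 26169, (fun u => Nat.beq ((runT tab xw)^[17] u) u) u = true := ext_range (a := 26108) (len := 61) h428 x_428
  have h430 : ∀ u < 26230, (fun u => Nat.beq ((runT tab xw)^[17] u) u) u = true := ext_range (a := 26169) (len := 61) h429 x_429
  have h431 : ∀ u < 26291, (fun u => Nat.beq ((runT tab xw)^[17] u) u) u = true := ext_range (a := 26230) (len := 61) h430 x_430
  have h432 : ∀ u < 26352, (fun u => Nat.beq ((runT tab xw)^[17] u) u) u = true := ext_range (a := 26291) (len := 61) h431 x_431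
  have h433 : ∀ u < 26413, (fun u => Nat.beq ((runT tab xw)^[17] u) u) u = true := ext_range (a := 26352) (len := 61) h432 x_432
  have h434 : ∀ u < 26474, (fun u => Nat.beq ((runT tab xw)^[17] u) u) u = true := ext_range (a := 26413) (len := 61) h433 x_433
  have h435 : ∀ u < 26535, (fun u => Nat.beq ((runT tab xw)^[17] u) u) u = true := ext_range (a := 26474) (len := 61) h434 x_434
  have h436 : ∀ u < 26596, (fun u => Nat.beq ((runT tab xw)^[17] u) u) u = true := ext_range (a := 26535) (len := 61) h435 x_435
  have h437 : ∀ u < 26657, (fun u => Nat.beq ((runT tab xw)^[17] u) u) u = true := ext_range (a := 26596) (len := 61) h436 x_436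
  have h438 : ∀ u < 26718, (fun u => Nat.beq ((runT tab xw)^[17] u) u) u = true := ext_range (a := 26657) (len := 61) h437 x_437
  have h439 : ∀ u < 26779, (fun u => Nat.beq ((runT tab xw)^[17] u) u) u = true := ext_range (a := 26718) (len := 61) h438 x_438
  have h440 : ∀ u < 26840, (fun u => Nat.beq ((runT tab xw)^[17] u) u) u = true := ext_range (a := 26779) (len := 61) h439 x_439
  have h441 : ∀ u < 26901, (fun u => Nat.beq ((runT tab xw)^[17] u) u) u = true := ext_range (a := 26840) (len := 61) h440 x_440
  have h442 : ∀ u < 26962, (fun u => Nat.beq ((runT tab xw)^[17] u) u) u = true := ext_range (a := 26901) (len := 61) h441 x_441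
  have h443 : ∀ u < 27023, (fun u => Nat.beq ((runT tab xw)^[17] u) u) u = true := ext_range (a := 26962) (len := 61) h442 x_442
  have h444 : ∀ u < 27084, (fun u => Nat.beq ((runT tab xw)^[17] u) u) u = true := ext_range (a := 27023) (len := 61) h443 x_443
  have h445 : ∀ u < 27145, (fun u => Nat.beq ((runT tab xw)^[17] u) u) u = true := ext_range (a := 27084) (len := 61) h444 x_444
  have h446 : ∀ u < 27206, (fun u => Nat.beq ((runT tab xw)^[17] u) u) u = true := ext_range (a := 27145) (len := 61) h445 x_445
  have h447 : ∀ u < 27267, (fun u => Nat.beq ((runT tab xw)^[17] u) u) u = true := ext_range (a := 27206) (len := 61) h446 x_446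
  have h448 : ∀ u < 27328, (fun u => Nat.beq ((runT tab xw)^[17] u) u) u = true := ext_range (a := 27267) (len := 61) h447 x_447
  have h449 : ∀ u < 27389, (fun u => Nat.beq ((runT tab xw)^[17] u) u) u = true := ext_range (a := 27328) (len := 61) h448 x_448
  have h450 : ∀ u < 27450, (fun u => Nat.beq ((runT tab xw)^[17] u) u) u = true := ext_range (a := 27389) (len := 61) h449 x_449
  have h451 : ∀ u < 27511, (fun u => Nat.beq ((runT tab xw)^[17] u) u) u = true := ext_range (a := 27450) (len := 61) h450 x_450
  have h452 : ∀ u < 27572, (fun u => Nat.beq ((runT tab xw)^[17] u) u) u = true := ext_range (a := 27511) (len := 61) h451 x_451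
  have h453 : ∀ u < 27633, (fun u => Nat.beq ((runT tab xw)^[17] u) u) u = true := ext_range (a := 27572) (len := 61) h452 x_452
  have h454 : ∀ u < 27694, (fun u => Nat.beq ((runT tab xw)^[17] u) u) u = true := ext_range (a := 27633) (len := 61) h453 x_453
  have h455 : ∀ u < 27755, (fun u => Nat.beq ((runT tab xw)^[17] u) u) u = true := ext_range (a := 27694) (len := 61) h454 x_454
  have h456 : ∀ u < 27816, (fun u => Nat.beq ((runT tab xw)^[17] u) u) u = true := ext_range (a := 27755) (len := 61) h455 x_455
  have h457 : ∀ u < 27877, (fun u => Nat.beq ((runT tab xw)^[17] u) u) u = true := ext_range (a := 27816) (len := 61) h456 x_456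
  have h458 : ∀ u < 27938, (fun u => Nat.beq ((runT tab xw)^[17] u) u) u = true := ext_range (a := 27877) (len := 61) h457 x_457
  have h459 : ∀ u < 27999, (fun u => Nat.beq ((runT tab xw)^[17] u) u) u = true := ext_range (a := 27938) (len := 61) h458 x_458
  have h460 : ∀ u < 28060, (fun u => Nat.beq ((runT tab xw)^[17] u) u) u = true := ext_range (a := 27999) (len := 61) h459 x_459
  have h461 : ∀ u < 28121, (fun u => Nat.beq ((runT tab xw)^[17] u) u) u = true := ext_range (a := 28060) (len := 61) h460 x_460
  have h462 : ∀ u < 28182, (fun u => Nat.beq ((runT tab xw)^[17] u) u) u = true := ext_range (a := 28121) (len := 61) h461 x_461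
  have h463 : ∀ u < 28243, (fun u => Nat.beq ((runT tab xw)^[17] u) u) u = true := ext_range (a := 28182) (len := 61) h462 x_462
  have h464 : ∀ u < 28304, (fun u => Nat.beq ((runT tab xw)^[17] u) u) u = true := ext_range (a := 28243) (len := 61) h463 x_463
  have h465 : ∀ u < 28365, (fun u => Nat.beq ((runT tab xw)^[17] u) u) u = true := ext_range (a := 28304) (len := 61) h464 x_464
  have h466 : ∀ u < 28426, (fun u => Nat.beq ((runT tab xw)^[17] u) u) u = true := ext_range (a := 28365) (len := 61) h465 x_465
  have h467 : ∀ u < 28487, (fun u => Nat.beq ((runT tab xw)^[17] u) u) u = true := ext_range (a := 28426) (len := 61) h466 x_466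
  have h468 : ∀ u < 28548, (fun u => Nat.beq ((runT tab xw)^[17] u) u) u = true := ext_range (a := 28487) (len := 61) h467 x_467
  have h469 : ∀ u < 28609, (fun u => Nat.beq ((runT tab xw)^[17] u) u) u = true := ext_range (a := 28548) (len := 61) h468 x_468
  have h470 : ∀ u < 28670, (fun u => Nat.beq ((runT tab xw)^[17] u) u) u = true := ext_range (a := 28609) (len := 61) h469 x_469
  have h471 : ∀ u < 28731, (fun u => Nat.beq ((runT tab xw)^[17] u) u) u = true := ext_range (a := 28670) (len := 61) h470 x_470
  have h472 : ∀ u < 28792, (fun u => Nat.beq ((runT tab xw)^[17] u) u) u = true := ext_range (a := 28731) (len := 61) h471 x_471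
  have h473 : ∀ u < 28853, (fun u => Nat.beq ((runT tab xw)^[17] u) u) u = true := ext_range (a := 28792) (len := 61) h472 x_472
  have h474 : ∀ u < 28914, (fun u => Nat.beq ((runT tab xw)^[17] u) u) u = true := ext_range (a := 28853) (len := 61) h473 x_473
  have h475 : ∀ u < 28975, (fun u => Nat.beq ((runT tab xw)^[17] u) u) u = true := ext_range (a := 28914) (len := 61) h474 x_474
  have h476 : ∀ u < 29036, (fun u => Nat.beq ((runT tab xw)^[17] u) u) u = true := ext_range (a := 28975) (len := 61) h475 x_475
  have h477 : ∀ u < 29097, (fun u => Nat.beq ((runT tab xw)^[17] u) u) u = true := ext_range (a := 29036) (len := 61) h476 x_476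
  have h478 : ∀ u < 29158, (fun u => Nat.beq ((runT tab xw)^[17] u) u) u = true := ext_range (a := 29097) (len := 61) h477 x_477
  have h479 : ∀ u < 29219, (fun u => Nat.beq ((runT tab xw)^[17] u) u) u = true := ext_range (a := 29158) (len := 61) h478 x_478
  have h480 : ∀ u < 29280, (fun u => Nat.beq ((runT tab xw)^[17] u) u) u = true := ext_range (a := 29219) (len := 61) h479 x_479
  have h481 : ∀ u < 29341, (fun u => Nat.beq ((runT tab xw)^[17] u) u) u = true := ext_range (a := 29280) (len := 61) h480 x_480
  have h482 : ∀ u < 29402, (fun u => Nat.beq ((runT tab xw)^[17] u) u) u = true := ext_range (a := 29341) (len := 61) h481 x_481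
  have h483 : ∀ u < 29463, (fun u => Nat.beq ((runT tab xw)^[17] u) u) u = true := ext_range (a := 29402) (len := 61) h482 x_482
  have h484 : ∀ u < 29524, (fun u => Nat.beq ((runT tab xw)^[17] u) u) u = true := ext_range (a := 29463) (len := 61) h483 x_483
  have h485 : ∀ u < 29585, (fun u => Nat.beq ((runT tab xw)^[17] u) u) u = true := ext_range (a := 29524) (len := 61) h484 x_484
  have h486 : ∀ u < 29646, (fun u => Nat.beq ((runT tab xw)^[17] u) u) u = true := ext_range (a := 29585) (len := 61) h485 x_485
  have h487 : ∀ u < 29707, (fun u => Nat.beq ((runT tab xw)^[17] u) u) u = true := ext_range (a := 29646) (len := 61) h486 x_486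
  have h488 : ∀ u < 29768, (fun u => Nat.beq ((runT tab xw)^[17] u) u) u = true := ext_range (a := 29707) (len := 61) h487 x_487
  have h489 : ∀ u < 29829, (fun u => Nat.beq ((runT tab xw)^[17] u) u) u = true := ext_range (a := 29768) (len := 61) h488 x_488
  have h490 : ∀ u < 29890, (fun u => Nat.beq ((runT tab xw)^[17] u) u) u = true := ext_range (a := 29829) (len := 61) h489 x_489
  have h491 : ∀ u < 29951, (fun u => Nat.beq ((runT tab xw)^[17] u) u) u = true := ext_range (a := 29890) (len := 61) h490 x_490
  have h492 : ∀ u < 30012, (fun u => Nat.beq ((runT tab xw)^[17] u) u) u = true := ext_range (a := 29951) (len := 61) h491 x_491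
  have h493 : ∀ u < 30073, (fun u => Nat.beq ((runT tab xw)^[17] u) u) u = true := ext_range (a := 30012) (len := 61) h492 x_492
  have h494 : ∀ u < 30134, (fun u => Nat.beq ((runT tab xw)^[17] u) u) u = true := ext_range (a := 30073) (len := 61) h493 x_493
  have h495 : ∀ u < 30195, (fun u => Nat.beq ((runT tab xw)^[17] u) u) u = true := ext_range (a := 30134) (len := 61) h494 x_494
  have h496 : ∀ u < 30256, (fun u => Nat.beq ((runT tab xw)^[17] u) u) u = true := ext_range (a := 30195) (len := 61) h495 x_495
  have h497 : ∀ u < 30317, (fun u => Nat.beq ((runT tab xw)^[17] u) u) u = true := ext_range (a := 30256) (len := 61) h496 x_496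
  have h498 : ∀ u < 30378, (fun u => Nat.beq ((runT tab xw)^[17] u) u) u = true := ext_range (a := 30317) (len := 61) h497 x_497
  have h499 : ∀ u < 30439, (fun u => Nat.beq ((runT tab xw)^[17] u) u) u = true := ext_range (a := 30378) (len := 61) h498 x_498
  have h500 : ∀ u < 30500, (fun u => Nat.beq ((runT tab xw)^[17] u) u) u = true := ext_range (a := 30439) (len := 61) h499 x_499
  have h501 : ∀ u < 30561, (fun u => Nat.beq ((runT tab xw)^[17] u) u) u = true := ext_range (a := 30500) (len := 61) h500 x_500
  have h502 : ∀ u < 30622, (fun u => Nat.beq ((runT tab xw)^[17] u) u) u = true := ext_range (a := 30561) (len := 61) h501 x_501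
  have h503 : ∀ u < 30683, (fun u => Nat.beq ((runT tab xw)^[17] u) u) u = true := ext_range (a := 30622) (len := 61) h502 x_502
  have h504 : ∀ u < 30744, (fun u => Nat.beq ((runT tab xw)^[17] u) u) u = true := ext_range (a := 30683) (len := 61) h503 x_503
  have h505 : ∀ u < 30805, (fun u => Nat.beq ((runT tab xw)^[17] u) u) u = true := ext_range (a := 30744) (len := 61) h504 x_504
  have h506 : ∀ u < 30866, (fun u => Nat.beq ((runT tab xw)^[17] u) u) u = true := ext_range (a := 30805) (len := 61) h505 x_505
  have h507 : ∀ u < 30927, (fun u => Nat.beq ((runT tab xw)^[17] u) u) u = true := ext_range (a := 30866) (len := 61) h506 x_506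
  have h508 : ∀ u < 30988, (fun u => Nat.beq ((runT tab xw)^[17] u) u) u = true := ext_range (a := 30927) (len := 61) h507 x_507
  have h509 : ∀ u < 31049, (fun u => Nat.beq ((runT tab xw)^[17] u) u) u = true := ext_range (a := 30988) (len := 61) h508 x_508
  have h510 : ∀ u < 31110, (fun u => Nat.beq ((runT tab xw)^[17] u) u) u = true := ext_range (a := 31049) (len := 61) h509 x_509
  have h511 : ∀ u < 31171, (fun u => Nat.beq ((runT tab xw)^[17] u) u) u = true := ext_range (a := 31110) (len := 61) h510 x_510
  have h512 : ∀ u < 31232, (fun u => Nat.beq ((runT tab xw)^[17] u) u) u = true := ext_range (a := 31171) (len := 61) h511 x_511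
  have h513 : ∀ u < 31293, (fun u => Nat.beq ((runT tab xw)^[17] u) u) u = true := ext_range (a := 31232) (len := 61) h512 x_512
  have h514 : ∀ u < 31354, (fun u => Nat.beq ((runT tab xw)^[17] u) u) u = true := ext_range (a := 31293) (len := 61) h513 x_513
  have h515 : ∀ u < 31415, (fun u => Nat.beq ((runT tab xw)^[17] u) u) u = true := ext_range (a := 31354) (len := 61) h514 x_514
  have h516 : ∀ u < 31476, (fun u => Nat.beq ((runT tab xw)^[17] u) u) u = true := ext_range (a := 31415) (len := 61) h515 x_515
  have h517 : ∀ u < 31537, (fun u => Nat.beq ((runT tab xw)^[17] u) u) u = true := ext_range (a := 31476) (len := 61) h516 x_516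
  have h518 : ∀ u < 31598, (fun u => Nat.beq ((runT tab xw)^[17] u) u) u = true := ext_range (a := 31537) (len := 61) h517 x_517
  have h519 : ∀ u < 31659, (fun u => Nat.beq ((runT tab xw)^[17] u) u) u = true := ext_range (a := 31598) (len := 61) h518 x_518
  have h520 : ∀ u < 31671, (fun u => Nat.beq ((runT tab xw)^[17] u) u) u = true := ext_range (a := 31659) (len := 12) h519 x_519
  exact h520

theorem hE : ∀ c < 10, ∀ u < 64481, chkE tab c u = true := by
  intro c hc
  interval_cases c
  · exact hE0
  · exact hE1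
  · exact hE2
  · exact hE3
  · exact hE4
  · exact hE5
  · exact hE6
  · exact hE7
  · exact hE8
  · exact hE9

end Cfsg.Agent.Helper9.TCData.Fi23C0
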