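import Cfsg.Agent.Lib.Helper9.TCData.Fi23C0.Main

set_option autoImplicit false
set_option maxRecDepth 1000000

namespace Cfsg.Agent.Helper9.TCData.Fi23C0
open Cfsg.Agent.Helper9.TC2

theorem m2_448 : allRange 27776 62 (fun u => chkFix tab mwordsA u) = true := by decide +kernel

theorem m2_449 : allRange 27838 62 (fun u => chkFix tab mwordsA u) = true := by decide +kernel

theorem m2_450 : allRange 27900 62 (fun u => chkFix tab mwordsA u) = true := by decide +kernel

theorem m2_451 : allRange 27962 62 (fun u => chkFix tab mwordsA u) = true := by decide +kernel

theorem m2_452 : allRange 28024 62 (fun u => chkFix tab mwordsA u) = true := by decide +kernel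

theorem m2_453 : allRange 28086 62 (fun u => chkFix tab mwordsA u) = true := by decide +kernel

theorem m2_454 : allRange 28148 62 (fun u => chkFix tab mwordsA u) = true := by decide +kernel

theorem m2_455 : allRange 28210 62 (fun u => chkFix tab mwordsA u) = true := by decide +kernel


end Cfsg.Agent.Helper9.TCData.Fi23C0
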