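import Cfsg.Agent.Lib.Helper9.TCData.Fi23C0.Main

set_option autoImplicit false
set_option maxRecDepth 1000000

namespace Cfsg.Agent.Helper9.TCData.Fi23C0
open Cfsg.Agent.Helper9.TC2

theorem o2_19 : allRange 25346 1334 (fun u => chkO2 tab orb u) = true := by decide +kernel

theorem o2_20 : allRange 26680 1334 (fun u => chkO2 tab orb u) = true := by decide +kernel

theorem o2_21 : allRange 28014 1334 (fun u => chkO2 tab orb u) = true := by decide +kernel

theorem o2_22 : allRange 29348 1334 (fun u => chkO2 tab orb u) = true := by decide +kernel

theorem o2_23 : allRange 30682 989 (fun u => chkO2 tab orb u) = true := by decide +kernel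


end Cfsg.Agent.Helper9.TCData.Fi23C0
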