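import Cfsg.Agent.Lib.Helper9.TCData.Fi23C0.Main

set_option autoImplicit false
set_option maxRecDepth 1000000

namespace Cfsg.Agent.Helper9.TCData.Fi23C0
open Cfsg.Agent.Helper9.TC2

theorem e6_25 : allRange 64308 173 (fun u => chkE tab 6 u) = true := by decide +kernel

theorem e7_0 : allRange 0 1907 (fun u => chkE tab 7 u) = true := by decide +kernel

theorem e7_1 : allRange 1907 2126 (fun u => chkE tab 7 u) = true := by decide +kernel

theorem e7_2 : allRange 4033 2209 (fun u => chkE tab 7 u) = true := by decide +kernel

theorem e7_3 : allRange 6242 2191 (fun u => chkE tab 7 u) = true := by decide +kernel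

theorem e7_4 : allRange 8433 2138 (fun u => chkE tab 7 u) = true := by decide +kernel

theorem e7_5 : allRange 10571 2217 (fun u => chkE tab 7 u) = true := by decide +kernel

theorem e7_6 : allRange 12788 2158 (fun u => chkE tab 7 u) = true := by decide +kernel


end Cfsg.Agent.Helper9.TCData.Fi23C0
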