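import Cfsg.Agent.Lib.Helper9.TCData.Fi23C0.Main

set_option autoImplicit false
set_option maxRecDepth 1000000

namespace Cfsg.Agent.Helper9.TCData.Fi23C0
open Cfsg.Agent.Helper9.TC2

theorem l_16 : allRange 37015 1600 (fun u => chkL tab u) = true := by decide +kernel

theorem l_17 : allRange 38615 1600 (fun u => chkL tab u) = true := by decide +kernel

theorem l_18 : allRange 40215 1660 (fun u => chkL tab u) = true := by decide +kernel

theorem l_19 : allRange 41875 2639 (fun u => chkL tab u) = true := by decide +kernel

theorem l_20 : allRange 44514 19967 (fun u => chkL tab u) = true := by decide +kernel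


end Cfsg.Agent.Helper9.TCData.Fi23C0
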