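import Cfsg.Agent.Lib.Helper9.TCData.Fi23C0.Main

set_option autoImplicit false
set_option maxRecDepth 1000000

namespace Cfsg.Agent.Helper9.TCData.Fi23C0
open Cfsg.Agent.Helper9.TC2

theorem m2_96 : allRange 5952 62 (fun u => chkFix tab mwordsA u) = true := by decide +kernel

theorem m2_97 : allRange 6014 62 (fun u => chkFix tab mwordsA u) = true := by decide +kernel

theorem m2_98 : allRange 6076 62 (fun u => chkFix tab mwordsA u) = true := by decide +kernel

theorem m2_99 : allRange 6138 62 (fun u => chkFix tab mwordsA u) = true := by decide +kernel

theorem m2_100 : allRange 6200 62 (fun u => chkFix tab mwordsA u) = true := by decide +kernel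

theorem m2_101 : allRange 6262 62 (fun u => chkFix tab mwordsA u) = true := by decide +kernel

theorem m2_102 : allRange 6324 62 (fun u => chkFix tab mwordsA u) = true := by decide +kernel

theorem m2_103 : allRange 6386 62 (fun u => chkFix tab mwordsA u) = true := by decide +kernel


end Cfsg.Agent.Helper9.TCData.Fi23C0
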